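import Mathlib
import Cfsg.Prelude.Def_LocalStructure

set_option autoImplicit false

namespace Cfsg.Agent.Helper47

open Cfsg Subgroup
open scoped commutatorElement

variable {G : Type*} [Group G] {p : ℕ}

theorem mem_pResidual_of_coprime {g : G} (h : (orderOf g).Coprime p) : g ∈ pResidual p G :=
  subset_closure h

instance pResidual_normal : (pResidual p G).Normal := by
  constructor
  intro n hn g
  unfold pResidual at hn ⊢
  induction hn using closure_induction with
  | mem c hc =>
    apply Subgroup.subset_closure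
    show (orderOf (g * c * g⁻¹)).Coprime p
    have : g * c * g⁻¹ = MulAut.conj g c := by simp
    rw [this, MulEquiv.orderOf_eq]
    exact hc
  | one => simp
  | mul a b _ _ iha ihb =>
    have : g * (a * b) * g⁻¹ = (g * a * g⁻¹) * (g * b * g⁻¹) := by group
    rw [this]; exact mul_mem iha ihb
  | inv a _ iha =>
    have : g * a⁻¹ * g⁻¹ = (g * a * g⁻¹)⁻¹ := by group
    rw [this]; exact inv_mem iha

/-- if `g ^ m = 1` with `m` prime to `p` and `g ^ (p^e) ∈ N` then `g ∈ N` -/
theorem mem_of_pow_mem_of_coprime {N : Subgroup G} {g : G} {m e : ℕ} (hm : Nat.Coprime m p)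
    (h1 : g ^ m = 1) (h2 : g ^ (p ^ e) ∈ N) : g ∈ N := by
  have hcop : Nat.Coprime (p ^ e) m := (Nat.Coprime.pow_right e hm).symm
  have h3 : IsCoprime ((p ^ e : ℕ) : ℤ) (m : ℤ) := Nat.isCoprime_iff_coprime.2 hcop
  obtain ⟨a, b, hab⟩ := h3
  have : g = (g ^ (p ^ e)) ^ a * (g ^ m) ^ b := by
    rw [← zpow_natCast, ← zpow_natCast, ← zpow_mul, ← zpow_mul, ← zpow_add,
      mul_comm _ a, mul_comm _ b, hab, zpow_one]
  rw [this, h1, one_zpow, mul_one]
  exact N.zpow_mem h2 a

theorem pResidual_le_of_forall_pow_mem {N : Subgroup G} (h : ∀ g : G, ∃ e : ℕ, g ^ (p ^ e) ∈ N) :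
    pResidual p G ≤ N := by
  unfold pResidual
  rw [closure_le]
  intro g hg
  obtain ⟨e, he⟩ := h g
  exact mem_of_pow_mem_of_coprime (m := orderOf g) hg (pow_orderOf_eq_one g) he

theorem pResidual_le_of_isPGroup_quotient (N : Subgroup G) [N.Normal] (h : IsPGroup p (G ⧸ N)) :
    pResidual p G ≤ N := by
  apply pResidual_le_of_forall_pow_mem
  intro g
  obtain ⟨e, he⟩ := h (QuotientGroup.mk g)
  refine ⟨e, ?_⟩
  rw [← QuotientGroup.eq_one_iff, QuotientGroup.mk_pow]
  exact he

theorem exists_pow_mem_pResidual [Finite G] [hp : Fact p.Prime] (g : G) :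
    ∃ e : ℕ, g ^ (p ^ e) ∈ pResidual p G := by
  have hn : orderOf g ≠ 0 := (orderOf_pos g).ne'
  obtain ⟨e, m, hm, hnm⟩ := Nat.exists_eq_pow_mul_and_not_dvd hn p hp.out.ne_one
  refine ⟨e, mem_pResidual_of_coprime ?_⟩
  have hcop : Nat.Coprime m p := (Nat.Coprime.symm ((Nat.Prime.coprime_iff_not_dvd hp.out).2 hm))
  have h1 : (g ^ (p ^ e)) ^ m = 1 := by
    rw [← pow_mul, ← hnm, pow_orderOf_eq_one]
  exact Nat.Coprime.coprime_dvd_left (orderOf_dvd_of_pow_eq_one h1) hcop

theorem isPGroup_quotient_of_pResidual_le [Finite G] [Fact p.Prime] (N : Subgroup G) [N.Normal]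
    (h : pResidual p G ≤ N) : IsPGroup p (G ⧸ N) := by
  intro x
  obtain ⟨g, rfl⟩ := QuotientGroup.mk_surjective x
  obtain ⟨e, he⟩ := exists_pow_mem_pResidual (p := p) g
  refine ⟨e, ?_⟩
  rw [← QuotientGroup.mk_pow, QuotientGroup.eq_one_iff]
  exact h he

theorem pResidual_le_iff [Finite G] [Fact p.Prime] (N : Subgroup G) [N.Normal] :
    pResidual p G ≤ N ↔ IsPGroup p (G ⧸ N) :=
  ⟨isPGroup_quotient_of_pResidual_le N, pResidual_le_of_isPGroup_quotient N⟩

/-- `O^p` of a subgroup, viewed in the ambient group, as a closure. -/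
theorem map_pResidual_eq_closure (K : Subgroup G) :
    (pResidual p K).map K.subtype = closure {g : G | g ∈ K ∧ (orderOf g).Coprime p} := by
  unfold pResidual
  rw [MonoidHom.map_closure]
  congr 1
  ext g
  constructor
  · rintro ⟨x, hx, rfl⟩
    refine ⟨x.2, ?_⟩
    have : orderOf (K.subtype x) = orderOf x := orderOf_injective K.subtype K.subtype_injective x
    rw [this]; exact hx
  · rintro ⟨hgK, hg⟩
    refine ⟨⟨g, hgK⟩, ?_, rfl⟩
    show (orderOf (⟨g, hgK⟩ : K)).Coprime p
    have : orderOf (K.subtype ⟨g, hgK⟩) = orderOf (⟨g, hgK⟩ : K) :=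
      orderOf_injective K.subtype K.subtype_injective _
    rw [← this]; exact hg

theorem map_pResidual_le (K : Subgroup G) : (pResidual p K).map K.subtype ≤ K :=
  map_subtype_le _

theorem map_pResidual_mono {K L : Subgroup G} (h : K ≤ L) :
    (pResidual p K).map K.subtype ≤ (pResidual p L).map L.subtype := by
  rw [map_pResidual_eq_closure, map_pResidual_eq_closure]
  exact closure_mono fun g hg => ⟨h hg.1, hg.2⟩

theorem map_pResidual_le_pResidual (K : Subgroup G) :
    (pResidual p K).map K.subtype ≤ pResidual p G := by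
  rw [map_pResidual_eq_closure]
  exact closure_mono fun g hg => hg.2

/-- a Sylow subgroup together with `O^p` generates a finite group -/
theorem sup_pResidual_eq_top_of_sylow_le [Finite G] [Fact p.Prime] (T : Subgroup G)
    (P : Sylow p G) (hPT : (P : Subgroup G) ≤ T) :
    T ⊔ pResidual p G = ⊤ := by
  have h1 : (T ⊔ pResidual p G).index ∣ (P : Subgroup G).index :=
    index_dvd_of_le (hPT.trans le_sup_left)
  have h2 : (T ⊔ pResidual p G).index ∣ (pResidual p G).index := index_dvd_of_le le_sup_right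
  have h3 : IsPGroup p (G ⧸ pResidual p G) := isPGroup_quotient_of_pResidual_le _ le_rfl
  obtain ⟨k, hk⟩ := (IsPGroup.iff_card.1 h3)
  rw [← index_eq_card] at hk
  rw [hk] at h2
  have h4 : Nat.Coprime (P : Subgroup G).index (p ^ k) :=
    Nat.Coprime.pow_right k ((Nat.Coprime.symm ((Nat.Prime.coprime_iff_not_dvd (Fact.out)).2 P.not_dvd_index)))
  have h5 := Nat.dvd_gcd h1 h2
  rw [h4, Nat.dvd_one] at h5
  exact index_eq_one.1 h5

theorem sylow_sup_pResidual_eq_top [Finite G] [Fact p.Prime] (P : Sylow p G) :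
    (P : Subgroup G) ⊔ pResidual p G = ⊤ :=
  sup_pResidual_eq_top_of_sylow_le _ P le_rfl

end Cfsg.Agent.Helper47
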