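import Mathlib
import Cfsg.Prelude.Def_LocalStructure
import Cfsg.Agent.Lib.Helper22.Bender
import Cfsg.Agent.Lib.Helper22.Components
import Cfsg.Agent.Lib.Helper1.Coprime
import Cfsg.Agent.Lib.Helper47.PRes
import Cfsg.Agent.Lib.Helper46.PCore

set_option autoImplicit false

namespace Cfsg.Agent.Helper47

open Cfsg Subgroup
open scoped commutatorElement

variable {G : Type*} [Group G] {p : ℕ}

/-- A perfect subgroup lies in `O^p(G)`. -/
theorem perfect_le_pResidual [Finite G] [Fact p.Prime] (L : Subgroup G) [Group.IsPerfect ↥L] :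
    L ≤ pResidual p G := by
  have hP : IsPGroup p (G ⧸ pResidual p G) := isPGroup_quotient_of_pResidual_le _ le_rfl
  haveI : Group.IsPerfect ↥(L.map (QuotientGroup.mk' (pResidual p G))) := Group.IsPerfect.map _
  by_cases h : L.map (QuotientGroup.mk' (pResidual p G)) = ⊥
  · rw [Subgroup.map_eq_bot_iff, QuotientGroup.ker_mk'] at h
    exact h
  · exfalso
    haveI : Nontrivial ↥(L.map (QuotientGroup.mk' (pResidual p G))) :=
      (nontrivial_iff_ne_bot _).mpr h
    have hp' : IsPGroup p ↥(L.map (QuotientGroup.mk' (pResidual p G))) := hP.to_subgroup _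
    haveI : Group.IsNilpotent ↥(L.map (QuotientGroup.mk' (pResidual p G))) := hp'.isNilpotent
    exact Group.IsPerfect.not_isSolvable ↥(L.map (QuotientGroup.mk' (pResidual p G)))
      inferInstance

/-- If `O_p(G) = 1`, a nilpotent normal subgroup has order prime to `p`. -/
theorem card_coprime_of_normal_nilpotent [Finite G] [hp : Fact p.Prime] (hO : pCore p G = ⊥)
    (N : Subgroup G) [hN : N.Normal] [hnil : Group.IsNilpotent N] : (Nat.card N).Coprime p := by
  rw [Nat.coprime_comm, Nat.Prime.coprime_iff_not_dvd hp.out]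
  intro hdvd
  obtain ⟨Q⟩ : Nonempty (Sylow p N) := inferInstance
  have hQn : (Q : Subgroup N).Normal := inferInstance
  haveI hQc : (Q : Subgroup N).Characteristic := Sylow.characteristic_of_normal Q hQn
  have hQ'n : ((Q : Subgroup N).map N.subtype).Normal := inferInstance
  have hQne : (Q : Subgroup N) ≠ ⊥ := Q.ne_bot_of_dvd_card hdvd
  have hle : (Q : Subgroup N).map N.subtype ≤ pCore p G :=
    Helper46.le_pCore hQ'n (Q.isPGroup'.map _)
  rw [hO, le_bot_iff] at hle
  exact hQne ((map_eq_bot_iff_of_injective _ (subtype_injective _)).mp hle)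

theorem le_pResidual_of_card_coprime [Finite G] (N : Subgroup G) (h : (Nat.card N).Coprime p) :
    N ≤ pResidual p G := by
  intro x hx
  apply mem_pResidual_of_coprime
  have : orderOf x ∣ Nat.card N := by
    have h1 : orderOf (⟨x, hx⟩ : N) = orderOf x := Subgroup.orderOf_mk x hx
    rw [← h1]; exact orderOf_dvd_natCard _
  exact Nat.Coprime.coprime_dvd_left this h

theorem eq_bot_of_isPGroup_of_card_coprime [Finite G] [hp : Fact p.Prime] {Y : Subgroup G}
    (hY : IsPGroup p Y) (h : (Nat.card Y).Coprime p) : Y = ⊥ := by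
  obtain ⟨n, hn⟩ := IsPGroup.iff_card.mp hY
  rw [hn] at h
  have hn0 : n = 0 := by
    by_contra hne
    have h1 : p ∣ p ^ n := dvd_pow_self p hne
    have h2 : p ∣ Nat.gcd (p ^ n) p := Nat.dvd_gcd h1 dvd_rfl
    rw [h] at h2
    exact hp.out.one_lt.ne' (Nat.dvd_one.mp h2)
  rw [hn0, pow_zero] at hn
  exact Subgroup.card_eq_one.mp hn

theorem isPClosed_of_card_coprime [Finite G] [hp : Fact p.Prime] (h : (Nat.card G).Coprime p) :
    IsPClosed p G := by
  intro P
  have hc : (Nat.card (P : Subgroup G)).Coprime p :=
    Nat.Coprime.coprime_dvd_left (Subgroup.card_subgroup_dvd_card _) h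
  rw [eq_bot_of_isPGroup_of_card_coprime P.isPGroup' hc]
  infer_instance

/-- `K ∩ C(K)` for a normal subgroup `K` is a normal abelian subgroup, of order prime to `p`
if `O_p(G) = 1`. -/
theorem card_inf_centralizer_coprime [Finite G] [hp : Fact p.Prime] (hO : pCore p G = ⊥)
    (K : Subgroup G) [hK : K.Normal] : (Nat.card ↥(K ⊓ centralizer (K : Set G))).Coprime p := by
  haveI : (centralizer (K : Set G)).Normal := inferInstance
  haveI : (K ⊓ centralizer (K : Set G)).Normal := inferInstance
  letI : CommGroup ↥(K ⊓ centralizer (K : Set G)) :=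
    { (inferInstance : Group ↥(K ⊓ centralizer (K : Set G))) with
      mul_comm := fun x y => Subtype.ext (by
        have := mem_centralizer_iff.mp y.2.2 x x.2.1
        simpa using this) }
  haveI : Group.IsNilpotent ↥(K ⊓ centralizer (K : Set G)) := CommGroup.isNilpotent
  exact card_coprime_of_normal_nilpotent hO _

/-- If `O_p(G) = 1` and `O^p(G)` is quasisimple then `O^p(G) = F*(G)`. -/
theorem pResidual_eq_generalizedFittingSubgroup [Finite G] [hp : Fact p.Prime]
    (hO : pCore p G = ⊥) (hq : IsQuasisimple ↥(pResidual p G)) :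
    pResidual p G = generalizedFittingSubgroup G := by
  have hKcomp : IsComponent (pResidual p G) :=
    ⟨(pResidual_normal (p := p) (G := G)).isSubnormal, hq⟩
  apply le_antisymm
  · exact (Helper22.IsComponent.le_layer hKcomp).trans Helper22.layer_le_generalizedFittingSubgroup
  · rw [Helper22.generalizedFittingSubgroup_eq]
    apply sup_le
    · apply sSup_le
      intro L hL
      haveI : Group.IsPerfect ↥L := hL.2.1
      exact perfect_le_pResidual L
    · apply sSup_le
      rintro N ⟨hNn, hNnil⟩
      haveI := hNn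
      haveI := hNnil
      exact le_pResidual_of_card_coprime N (card_coprime_of_normal_nilpotent hO N)

/-- Under the hypotheses of the previous lemma, a subgroup centralizing `K = O^p(G)` lies in
`K ∩ C(K)`. -/
theorem le_inf_centralizer_of_commutator_eq_bot [Finite G] [hp : Fact p.Prime]
    (hO : pCore p G = ⊥) (hq : IsQuasisimple ↥(pResidual p G)) {C : Subgroup G}
    (hC : ⁅pResidual p G, C⁆ = ⊥) :
    C ≤ pResidual p G ⊓ centralizer (pResidual p G : Set G) := by
  have h1 : C ≤ centralizer (pResidual p G : Set G) :=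
    le_centralizer_iff.mp (commutator_eq_bot_iff_le_centralizer.mp hC)
  refine le_inf ?_ h1
  have h2 := Helper22.centralizer_generalizedFittingSubgroup_le (G := G)
  rw [← pResidual_eq_generalizedFittingSubgroup hO hq] at h2
  exact h1.trans h2

end Cfsg.Agent.Helper47
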