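import Mathlib
import Cfsg.Prelude.Def_LocalStructure

set_option autoImplicit false

namespace Cfsg.Agent.Helper47

open Cfsg
open scoped commutatorElement

variable {G : Type*} [Group G] {p : ℕ}

theorem pCore_isPGroup : IsPGroup p (pCore p G) :=
  Sylow.sSup_of_normal _ (fun _ h => h.2) (fun _ h => h.1)

theorem le_pCore {N : Subgroup G} (hN : N.Normal) (hp : IsPGroup p N) : N ≤ pCore p G :=
  le_sSup ⟨hN, hp⟩

theorem pCore_le_sylow (P : Sylow p G) : pCore p G ≤ P :=
  (pCore_isPGroup (G := G) (p := p)).le_sylow_of_normal P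

/-- a subgroup containing the commutator subgroup is normal -/
theorem normal_of_commutator_le {K : Subgroup G} (h : commutator G ≤ K) : K.Normal := by
  constructor
  intro n hn g
  have h1 : ⁅g, n⁆ ∈ K := h (Subgroup.commutator_mem_commutator (Subgroup.mem_top g) (Subgroup.mem_top n))
  have : g * n * g⁻¹ = ⁅g, n⁆ * n := by simp [commutatorElement_def]
  rw [this]
  exact K.mul_mem h1 hn

end Cfsg.Agent.Helper47
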