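import Mathlib
import Cfsg.Prelude.Def_LocalStructure

set_option autoImplicit false

namespace Cfsg.Agent.Helper47

open Cfsg Subgroup
open scoped commutatorElement

variable {G : Type*} [Group G]

/-- the elements `l` normalizing `U` with `[V, l] ⊆ U` -/
def commStab (V U : Subgroup G) : Subgroup G where
  carrier := {l | l ∈ normalizer (U : Set G) ∧ ∀ v ∈ V, ⁅v, l⁆ ∈ U}
  one_mem' := ⟨one_mem _, fun v _ => by simp⟩
  mul_mem' := by
    rintro a b ⟨ha1, ha2⟩ ⟨hb1, hb2⟩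
    refine ⟨mul_mem ha1 hb1, fun v hv => ?_⟩
    rw [commutatorElement_mul_right_eq_mul_conj, mul_assoc, mul_assoc]
    refine U.mul_mem (ha2 v hv) ?_
    have := (mem_normalizer_iff.mp ha1 ⁅v, b⁆).mp (hb2 v hv)
    simpa [mul_assoc] using this
  inv_mem' := by
    rintro a ⟨ha1, ha2⟩
    refine ⟨inv_mem ha1, fun v hv => ?_⟩
    rw [commutatorElement_inv_right]
    have h1 : ⁅a, v⁆ ∈ U := by
      rw [← commutatorElement_inv]; exact U.inv_mem (ha2 v hv)
    have := (mem_normalizer_iff.mp (inv_mem ha1) ⁅a, v⁆).mp h1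
    simpa using this

theorem mem_commStab {V U : Subgroup G} {l : G} :
    l ∈ commStab V U ↔ l ∈ normalizer (U : Set G) ∧ ∀ v ∈ V, ⁅v, l⁆ ∈ U := Iff.rfl

theorem le_commStab {V U K : Subgroup G} (h1 : K ≤ normalizer (U : Set G)) (h2 : ⁅V, K⁆ ≤ U) :
    K ≤ commStab V U := fun _ hk =>
  ⟨h1 hk, fun _ hv => h2 (commutator_mem_commutator hv hk)⟩

theorem commutator_commStab_le (V U : Subgroup G) : ⁅V, commStab V U⁆ ≤ U :=
  commutator_le.mpr fun v hv _ hl => hl.2 v hv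

/-- `[V, K₁ ⊔ K₂] ≤ U` if both `[V, Kᵢ] ≤ U` and both `Kᵢ` normalize `U`. -/
theorem commutator_sup_right_le {V K₁ K₂ U : Subgroup G} (h₁ : ⁅V, K₁⁆ ≤ U) (h₂ : ⁅V, K₂⁆ ≤ U)
    (n₁ : K₁ ≤ normalizer (U : Set G)) (n₂ : K₂ ≤ normalizer (U : Set G)) : ⁅V, K₁ ⊔ K₂⁆ ≤ U :=
  (commutator_mono le_rfl (sup_le (le_commStab n₁ h₁) (le_commStab n₂ h₂))).trans
    (commutator_commStab_le V U)

/-- If `A` is normalized by `B`, every element of `A ⊔ B` is a product `a * b`. -/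
theorem exists_mul_of_mem_sup_of_le_normalizer {A B : Subgroup G} (h : B ≤ normalizer (A : Set G))
    {w : G} (hw : w ∈ A ⊔ B) : ∃ a ∈ A, ∃ b ∈ B, w = a * b := by
  have := coe_mul_of_right_le_normalizer_left A B h
  have hw' : w ∈ ((A ⊔ B : Subgroup G) : Set G) := hw
  rw [this] at hw'
  obtain ⟨a, ha, b, hb, rfl⟩ := Set.mem_mul.mp hw'
  exact ⟨a, ha, b, hb, rfl⟩

theorem conj_map_eq_of_mem_normalizer {V : Subgroup G} {g : G} (hg : g ∈ normalizer (V : Set G)) :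
    V.map (MulAut.conj g).toMonoidHom = V :=
  (mem_normalizer_iff_map_conj_eq.mp hg)

end Cfsg.Agent.Helper47
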