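import Mathlib
import Cfsg.Prelude.Def_LocalStructure
import Cfsg.Agent.Lib.Helper47.Basic
import Cfsg.Agent.Lib.Helper47.Comm
import Cfsg.Agent.Lib.Helper47.PRes

set_option autoImplicit false

namespace Cfsg.Agent.Helper47

open Cfsg Subgroup
open scoped commutatorElement

variable {G : Type*} [Group G] {p : ℕ}

/-- If `N ⊔ T = ⊤` with `N` normal and `T` a `p`-group then `G ⧸ N` is a `p`-group. -/
theorem isPGroup_quotient_of_sup_eq_top {N T : Subgroup G} [N.Normal] (hT : IsPGroup p T)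
    (h : N ⊔ T = ⊤) : IsPGroup p (G ⧸ N) := by
  intro x
  obtain ⟨g, rfl⟩ := QuotientGroup.mk_surjective x
  have hg : g ∈ N ⊔ T := h ▸ mem_top g
  obtain ⟨n, hn, t, ht, rfl⟩ := mem_sup_of_normal_left.mp hg
  obtain ⟨e, he⟩ := hT ⟨t, ht⟩
  refine ⟨e, ?_⟩
  have h1 : (QuotientGroup.mk (n * t) : G ⧸ N) = QuotientGroup.mk t := by
    rw [QuotientGroup.mk_mul, (QuotientGroup.eq_one_iff n).2 hn, one_mul]
  rw [h1, ← QuotientGroup.mk_pow]
  have : t ^ p ^ e = 1 := by simpa using congrArg Subtype.val he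
  rw [this, QuotientGroup.mk_one]

theorem pResidual_le_of_sup_eq_top {N T : Subgroup G} [N.Normal] (hT : IsPGroup p T)
    (h : N ⊔ T = ⊤) : pResidual p G ≤ N :=
  pResidual_le_of_isPGroup_quotient N (isPGroup_quotient_of_sup_eq_top hT h)

/-- unique-coatom property is invariant under conjugation -/
theorem existsUnique_coatom_conj {Y : Subgroup G} (h : ∃! M : Subgroup G, IsCoatom M ∧ Y ≤ M) (g : G) :
    ∃! M : Subgroup G, IsCoatom M ∧ Y.map (MulAut.conj g).toMonoidHom ≤ M := by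
  obtain ⟨M, ⟨hMc, hYM⟩, hMu⟩ := h
  refine ⟨M.map (MulAut.conj g).toMonoidHom, ⟨?_, map_mono hYM⟩, ?_⟩
  · exact (OrderIso.isCoatom_iff (MulAut.conj g).mapSubgroup M).2 hMc
  · rintro M' ⟨hM'c, hYM'⟩
    have h1 : IsCoatom (M'.map (MulAut.conj g⁻¹).toMonoidHom) :=
      (OrderIso.isCoatom_iff (MulAut.conj g⁻¹).mapSubgroup M').2 hM'c
    have h2 : Y ≤ M'.map (MulAut.conj g⁻¹).toMonoidHom := by
      intro y hy
      refine ⟨g * y * g⁻¹, hYM' ⟨y, hy, by simp⟩, ?_⟩
      simp [mul_assoc]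
    have h3 := hMu _ ⟨h1, h2⟩
    rw [← h3, map_map]
    ext x
    simp only [mem_map]
    constructor
    · intro hx; exact ⟨x, hx, by simp [mul_assoc]⟩
    · rintro ⟨y, hy, rfl⟩; simpa [mul_assoc] using hy

/-- Key lemma: `T` Sylow in a unique maximal subgroup, `N` normal with `N ⊔ T ≠ ⊤`.
Then every Sylow `p`-subgroup of `N` is normal in `G`. -/
theorem sylow_map_normal_of_sup_ne_top [Finite G] [Fact p.Prime] (T : Sylow p G)
    (hT : ∃! M : Subgroup G, IsCoatom M ∧ (T : Subgroup G) ≤ M) (N : Subgroup G) [N.Normal]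
    (hN : N ⊔ (T : Subgroup G) ≠ ⊤) (Q : Sylow p N) : ((Q : Subgroup N).map N.subtype).Normal := by
  -- WLOG Q' ≤ T
  obtain ⟨T', hQT'⟩ := (Q.isPGroup'.map N.subtype).exists_le_sylow
  obtain ⟨g, hg⟩ := MulAction.exists_smul_eq G T T'
  have hT'coe : (T' : Subgroup G) = (T : Subgroup G).map (MulAut.conj g).toMonoidHom := by
    rw [← hg]; rfl
  have hT' : ∃! M : Subgroup G, IsCoatom M ∧ (T' : Subgroup G) ≤ M := by
    rw [hT'coe]; exact existsUnique_coatom_conj hT g
  have hN' : N ⊔ (T' : Subgroup G) ≠ ⊤ := by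
    intro h
    apply hN
    have h1 : (N ⊔ (T : Subgroup G)).map (MulAut.conj g).toMonoidHom = N ⊔ (T' : Subgroup G) := by
      rw [Subgroup.map_sup, ← hT'coe]
      congr 1
      exact conj_map_eq_of_mem_normalizer (by rw [normalizer_eq_top]; exact mem_top g)
    rw [h] at h1
    have h2 := congrArg (map (MulAut.conj g⁻¹).toMonoidHom) h1
    rw [map_map] at h2
    have h3 : (MulAut.conj g⁻¹).toMonoidHom.comp (MulAut.conj g).toMonoidHom = MonoidHom.id G := by
      ext x; simp [mul_assoc]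
    rw [h3, map_id] at h2
    rw [h2]
    exact map_top_of_surjective _ (MulAut.conj g⁻¹).surjective
  obtain ⟨M, ⟨hMc, hTM⟩, hMu⟩ := hT'
  obtain ⟨M', hM'c, hM'⟩ := (eq_top_or_exists_le_coatom (N ⊔ (T' : Subgroup G))).resolve_left hN'
  have hMM' : M' = M := hMu M' ⟨hM'c, le_sup_right.trans hM'⟩
  have hNM : N ≤ M := hMM' ▸ (le_sup_left.trans hM')
  -- Q' = T' ⊓ N
  have hQeq : (Q : Subgroup N) = ((T' : Subgroup G) ⊓ N).subgroupOf N := by
    symm
    apply Q.is_maximal'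
    · exact (T'.isPGroup'.to_inf_left).comap_subtype
    · intro x hx
      rw [mem_subgroupOf]
      exact ⟨hQT' ⟨x, hx, rfl⟩, x.2⟩
  have hQ' : (Q : Subgroup N).map N.subtype = (T' : Subgroup G) ⊓ N := by
    rw [hQeq, subgroupOf_map_subtype, inf_assoc, inf_idem]
  have hTn : (T' : Subgroup G) ≤ normalizer (((Q : Subgroup N).map N.subtype : Subgroup G) : Set G) := by
    rw [hQ']
    refine (le_inf le_normalizer ?_).trans inf_normalizer_le_normalizer_inf
    rw [normalizer_eq_top]; exact le_top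
  have hfr := Sylow.normalizer_sup_eq_top Q
  rw [← normalizer_eq_top_iff]
  by_contra hne
  obtain ⟨M'', hM''c, hM''⟩ := (eq_top_or_exists_le_coatom _).resolve_left hne
  have : M'' = M := hMu M'' ⟨hM''c, hTn.trans hM''⟩
  have h4 : (⊤ : Subgroup G) ≤ M := by
    rw [← hfr]
    exact sup_le (this ▸ hM'') hNM
  exact hMc.1 (top_le_iff.mp h4)

end Cfsg.Agent.Helper47
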