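import Mathlib
import Cfsg.Prelude.Def_LocalStructure
import Cfsg.Agent.Lib.Helper47.Basic
import Cfsg.Agent.Lib.Helper47.Comm
import Cfsg.Agent.Lib.Helper47.PRes
import Cfsg.Agent.Lib.Helper47.Minimal

set_option autoImplicit false

namespace Cfsg.Agent.Helper47

open Cfsg Subgroup
open scoped commutatorElement

variable {G : Type*} [Group G] {p : ℕ}

/-- In a `p`-closed normal subgroup, Sylow subgroups are normal in the whole group. -/
theorem sylow_map_normal_of_isPClosed [Finite G] [Fact p.Prime] (N : Subgroup G) [N.Normal]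
    (hN : IsPClosed p N) (Q : Sylow p N) : ((Q : Subgroup N).map N.subtype).Normal := by
  haveI : (Q : Subgroup N).Normal := hN Q
  haveI : (Q : Subgroup N).Characteristic := Sylow.characteristic_of_normal Q (hN Q)
  exact ConjAct.normal_of_characteristic_of_normal

/-- A `p`-subgroup of a `p`-closed normal subgroup lies in `O_p`. -/
theorem le_pCore_of_le_isPClosed [Finite G] [Fact p.Prime] (N : Subgroup G) [N.Normal]
    (hN : IsPClosed p N) {Y : Subgroup G} (hY : IsPGroup p Y) (hYN : Y ≤ N) : Y ≤ pCore p G := by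
  obtain ⟨Q, hQ⟩ := (hY.comap_subtype (K := N)).exists_le_sylow
  have h1 := sylow_map_normal_of_isPClosed N hN Q
  have h2 : (Q : Subgroup N).map N.subtype ≤ pCore p G := le_pCore h1 (Q.isPGroup'.map _)
  refine le_trans ?_ h2
  intro y hy
  exact ⟨⟨y, hYN hy⟩, hQ (by simpa [mem_subgroupOf] using hy), rfl⟩

/-- If one Sylow `p`-subgroup is normal then the group is `p`-closed. -/
theorem isPClosed_of_sylow_normal [Finite G] [Fact p.Prime] (T : Sylow p G)
    (hT : (T : Subgroup G).Normal) : IsPClosed p G := by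
  intro P
  obtain ⟨g, hg⟩ := MulAction.exists_smul_eq G T P
  rw [← hg, Sylow.smul_eq_of_normal]
  exact hT

/-- A normal subgroup of a `p`-irreducible group containing a Sylow `p`-subgroup is everything. -/
theorem eq_top_of_sylow_le_of_isPIrreducible [Finite G] [Fact p.Prime] (hG : IsPIrreducible p G)
    (T : Sylow p G) (N : Subgroup G) [N.Normal] (hTN : (T : Subgroup G) ≤ N) : N = ⊤ := by
  by_cases hN : IsPClosed p N
  · exfalso
    apply hG.1
    apply isPClosed_of_sylow_normal T
    have := sylow_map_normal_of_isPClosed N hN (T.subtype hTN)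
    rwa [Sylow.coe_subtype, subgroupOf_map_subtype, inf_of_le_left hTN] at this
  · have h1 := hG.2 N inferInstance hN
    rw [eq_top_iff, ← sylow_sup_pResidual_eq_top T]
    exact sup_le hTN h1

/-- If `Y` normalizes `K`, `Y` is a `p`-group, and `g ∈ K ⊔ Y` has order prime to `p`, then `g ∈ K`. -/
theorem mem_of_mem_sup_of_coprime {K Y : Subgroup G} (hYK : Y ≤ normalizer (K : Set G))
    (hY : IsPGroup p Y) {g : G} (hg : g ∈ K ⊔ Y) (hcop : (orderOf g).Coprime p) : g ∈ K := by
  obtain ⟨k, hk, y, hy, rfl⟩ := exists_mul_of_mem_sup_of_le_normalizer hYK hg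
  have hpow : ∀ n : ℕ, ∃ k' ∈ K, (k * y) ^ n = k' * y ^ n := by
    intro n
    induction n with
    | zero => exact ⟨1, K.one_mem, by simp⟩
    | succ n ih =>
      obtain ⟨k', hk', h⟩ := ih
      refine ⟨k' * (y ^ n * k * (y ^ n)⁻¹), K.mul_mem hk' ?_, ?_⟩
      · exact (mem_normalizer_iff.mp (hYK (Y.pow_mem hy n)) k).mp hk
      · rw [pow_succ, h, pow_succ]; group
  obtain ⟨e, he⟩ := hY ⟨y, hy⟩
  have hye : y ^ (p ^ e) = 1 := by simpa using congrArg Subtype.val he
  obtain ⟨k', hk', h⟩ := hpow (p ^ e)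
  rw [hye, mul_one] at h
  exact mem_of_pow_mem_of_coprime (m := orderOf (k * y)) hcop (pow_orderOf_eq_one _) (h ▸ hk')

end Cfsg.Agent.Helper47
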