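import Mathlib
import Cfsg.Prelude.Def_LocalStructure
import Cfsg.Agent.Lib.Helper47.Basic
import Cfsg.Agent.Lib.Helper47.PRes
import Cfsg.Agent.Lib.Helper47.PIrr
import Cfsg.Agent.Lib.Helper22.Radical

set_option autoImplicit false

namespace Cfsg.Agent.Helper47

open Cfsg Subgroup
open scoped commutatorElement Pointwise

variable {H : Type*} [Group H] {p : ℕ}

/-- `p'`-elements of `S O_p(H)` lie in `S`, for `S` subnormal. -/
theorem mem_of_mem_sup_pCore_of_isSubnormal [Finite H] [Fact p.Prime] {S : Subgroup H}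
    (hS : S.IsSubnormal) : ∀ g : H, (orderOf g).Coprime p → g ∈ S ⊔ pCore p H → g ∈ S := by
  induction hS with
  | top => intro g _ _; exact mem_top g
  | step S K hle hK hn ih =>
    intro g hcop hg
    have hgK : g ∈ K := ih g hcop (sup_le_sup_right hle _ hg)
    obtain ⟨s, hs, q, hq, rfl⟩ := mem_sup_of_normal_right.mp hg
    have hqK : q ∈ K := by
      have : q = s⁻¹ * (s * q) := by group
      rw [this]; exact K.mul_mem (K.inv_mem (hle hs)) hgK
    have hKS : K ≤ normalizer (S : Set H) := (normal_subgroupOf_iff_le_normalizer hle).1 hn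
    have hY : K ⊓ pCore p H ≤ normalizer (S : Set H) := inf_le_left.trans hKS
    have hYp : IsPGroup p (K ⊓ pCore p H : Subgroup H) := (pCore_isPGroup).to_inf_right
    exact mem_of_mem_sup_of_coprime hY hYp (mul_mem_sup hs ⟨hqK, hq⟩) hcop

end Cfsg.Agent.Helper47
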