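import Mathlib
import Cfsg.Prelude.Def_LocalStructure

set_option autoImplicit false

namespace Cfsg.Agent.Helper47

open Cfsg Subgroup
open scoped commutatorElement Pointwise

variable {G : Type*} [Group G]

/-- conjugate of a subgroup, in the form used by the statements -/
abbrev cj (g : G) (Q : Subgroup G) : Subgroup G := Q.map (MulAut.conj g).toMonoidHom

theorem cj_eq_smul (g : G) (Q : Subgroup G) : cj g Q = MulAut.conj g • Q := rfl

theorem mem_cj {g x : G} {Q : Subgroup G} : x ∈ cj g Q ↔ g⁻¹ * x * g ∈ Q := by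
  constructor
  · rintro ⟨y, hy, rfl⟩
    simpa [mul_assoc] using hy
  · intro h
    exact ⟨g⁻¹ * x * g, h, by simp [mul_assoc]⟩

theorem cj_one (Q : Subgroup G) : cj 1 Q = Q := by
  ext x; rw [mem_cj]; simp

theorem cj_mul (a b : G) (Q : Subgroup G) : cj (a * b) Q = cj a (cj b Q) := by
  ext x; rw [mem_cj, mem_cj, mem_cj]; simp [mul_assoc]

theorem cj_inv_cj (a : G) (Q : Subgroup G) : cj a⁻¹ (cj a Q) = Q := by
  rw [← cj_mul, inv_mul_cancel, cj_one]

theorem cj_cj_inv (a : G) (Q : Subgroup G) : cj a (cj a⁻¹ Q) = Q := by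
  rw [← cj_mul, mul_inv_cancel, cj_one]

theorem cj_mono {a : G} {Q R : Subgroup G} (h : Q ≤ R) : cj a Q ≤ cj a R := map_mono h

theorem cj_le_iff {a : G} {Q R : Subgroup G} : cj a Q ≤ R ↔ Q ≤ cj a⁻¹ R := by
  constructor
  · intro h; have := cj_mono (a := a⁻¹) h; rwa [cj_inv_cj] at this
  · intro h; have := cj_mono (a := a) h; rwa [cj_cj_inv] at this

theorem cj_eq_iff {a : G} {Q R : Subgroup G} : cj a Q = R ↔ Q = cj a⁻¹ R := by
  constructor
  · rintro rfl; rw [cj_inv_cj]
  · rintro rfl; rw [cj_cj_inv]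

theorem cj_eq_self_iff {a : G} {Q : Subgroup G} : cj a Q = Q ↔ a ∈ normalizer (Q : Set G) :=
  mem_normalizer_iff_map_conj_eq.symm

theorem cj_eq_self_of_mem {a : G} {Q : Subgroup G} (h : a ∈ Q) : cj a Q = Q :=
  cj_eq_self_iff.2 (le_normalizer h)

theorem cj_isPGroup {p : ℕ} {a : G} {Q : Subgroup G} (h : IsPGroup p Q) : IsPGroup p (cj a Q) :=
  h.map _

theorem normalizer_cj (a : G) (Q : Subgroup G) :
    normalizer ((cj a Q : Subgroup G) : Set G) = cj a (normalizer (Q : Set G)) := by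
  ext x
  rw [mem_cj, ← cj_eq_self_iff, ← cj_eq_self_iff, cj_mul, cj_mul]
  constructor
  · intro h; rw [h, cj_inv_cj]
  · intro h; have := congrArg (cj a) h; rwa [cj_cj_inv] at this

theorem centralizer_cj (a : G) (Q : Subgroup G) :
    centralizer ((cj a Q : Subgroup G) : Set G) = cj a (centralizer (Q : Set G)) := by
  ext x
  rw [mem_cj, mem_centralizer_iff, mem_centralizer_iff]
  constructor
  · intro h q hq
    have := h (a * q * a⁻¹) (mem_cj.2 (by simpa [mul_assoc] using hq))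
    have e1 : q * (a⁻¹ * x * a) = a⁻¹ * (a * q * a⁻¹ * x) * a := by group
    have e2 : a⁻¹ * x * a * q = a⁻¹ * (x * (a * q * a⁻¹)) * a := by group
    rw [e1, e2, this]
  · intro h y hy
    have := h (a⁻¹ * y * a) (mem_cj.1 hy)
    have e1 : y * x = a * (a⁻¹ * y * a * (a⁻¹ * x * a)) * a⁻¹ := by group
    have e2 : x * y = a * (a⁻¹ * x * a * (a⁻¹ * y * a)) * a⁻¹ := by group
    rw [e1, e2, this]

theorem sylow_smul_coe {p : ℕ} (g : G) (T : Sylow p G) : ((g • T : Sylow p G) : Subgroup G) = cj g T := rfl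

end Cfsg.Agent.Helper47
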