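import Mathlib
import Cfsg.Prelude.Def_LocalStructure
import Cfsg.Agent.Lib.Helper47.Conj

set_option autoImplicit false

namespace Cfsg.Agent.Helper47

open Cfsg Subgroup
open scoped commutatorElement Pointwise

variable {H : Type*} [Group H] {p : ℕ}

/-- in a finite `p`-group every subgroup is subnormal -/
theorem isSubnormal_of_isPGroup [Finite H] [Fact p.Prime] (hH : IsPGroup p H) (S : Subgroup H) :
    S.IsSubnormal := by
  haveI : Group.IsNilpotent H := hH.isNilpotent
  induction S using WellFoundedGT.induction with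
  | ind S ih =>
    by_cases hS : S = ⊤
    · rw [hS]; exact IsSubnormal.top
    · have hlt : S < normalizer (S : Set H) :=
        Group.normalizerCondition_of_isNilpotent S (lt_top_iff_ne_top.2 hS)
      exact IsSubnormal.step S _ le_normalizer (ih _ hlt) normal_in_normalizer

theorem le_subnormalClosure (A : Subgroup H) : A ≤ subnormalClosure A :=
  le_sInf fun _ hS => hS.1

theorem subnormalClosure_le {A S : Subgroup H} (hS : S.IsSubnormal) (hAS : A ≤ S) :
    subnormalClosure A ≤ S :=
  sInf_le ⟨hAS, hS⟩

theorem subnormalClosure_isSubnormal [Finite H] (A : Subgroup H) : (subnormalClosure A).IsSubnormal := by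
  obtain ⟨K₀, -, hK₀⟩ := Finite.exists_le_minimal (p := fun S : Subgroup H => A ≤ S ∧ S.IsSubnormal)
    (a := ⊤) ⟨le_top, IsSubnormal.top⟩
  have hmin : ∀ S : Subgroup H, A ≤ S → S.IsSubnormal → K₀ ≤ S := by
    intro S hAS hS
    have h1 : A ≤ S ⊓ K₀ ∧ (S ⊓ K₀).IsSubnormal := ⟨le_inf hAS hK₀.prop.1, hS.inf hK₀.prop.2⟩
    have := hK₀.le_of_le h1 inf_le_right
    exact this.trans inf_le_left
  have : subnormalClosure A = K₀ := by
    apply le_antisymm
    · exact subnormalClosure_le hK₀.prop.2 hK₀.prop.1
    · exact le_sInf fun S hS => hmin S hS.1 hS.2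
  rw [this]; exact hK₀.prop.2

theorem cj_isSubnormal {S : Subgroup H} (hS : S.IsSubnormal) (g : H) : (cj g S).IsSubnormal :=
  hS.map (MulAut.conj g).surjective

theorem normalizer_le_normalizer_subnormalClosure [Finite H] (A : Subgroup H) :
    normalizer (A : Set H) ≤ normalizer ((subnormalClosure A : Subgroup H) : Set H) := by
  intro g hg
  have key : ∀ x : H, x ∈ normalizer (A : Set H) → subnormalClosure A ≤ cj x (subnormalClosure A) := by
    intro x hx
    apply subnormalClosure_le (cj_isSubnormal (subnormalClosure_isSubnormal A) x)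
    have := cj_mono (a := x) (le_subnormalClosure A)
    rwa [cj_eq_self_iff.2 hx] at this
  rw [← cj_eq_self_iff]
  apply le_antisymm
  · have := key g⁻¹ (inv_mem hg)
    rwa [← cj_le_iff] at this
  · exact key g hg

end Cfsg.Agent.Helper47
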