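import Mathlib
import Cfsg.Prelude.Def_LocalStructure

set_option autoImplicit false

namespace Cfsg.Agent.Helper47

open Cfsg Subgroup
open scoped commutatorElement

/-- The Frattini subgroup of a finite elementary abelian `p`-group is trivial. -/
theorem frattini_eq_bot_of_elementary {E : Type*} [CommGroup E] [Finite E] {p : ℕ} [hp : Fact p.Prime]
    (hE : ∀ x : E, x ^ p = 1) : frattini E = ⊥ := by
  rw [eq_bot_iff]
  intro x hx
  rw [mem_bot]
  by_contra hx1
  obtain ⟨M, -, hM⟩ := Finite.exists_le_maximal (p := fun M : Subgroup E => x ∉ M) (a := ⊥)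
    (by simpa using hx1)
  have hxM : x ∉ M := hM.prop
  have hcoatom : IsCoatom M := by
    refine ⟨fun h => hxM (h ▸ mem_top x), fun K hK => ?_⟩
    have hxK : x ∈ K := by
      by_contra hxK
      exact hK.not_ge (hM.le_of_ge hxK hK.le)
    rw [eq_top_iff]
    intro y _
    by_contra hyK
    have hyM : y ∉ M := fun h => hyK (hK.le h)
    have hlt : M < M ⊔ zpowers y := by
      refine lt_of_le_of_ne le_sup_left ?_
      intro h
      apply hyM
      rw [h]
      exact le_sup_right (a := M) (mem_zpowers y)
    have hxs : x ∈ M ⊔ zpowers y := by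
      by_contra hxs
      exact hlt.not_ge (hM.le_of_ge hxs hlt.le)
    obtain ⟨m, hm, z, hz, rfl⟩ := mem_sup.mp hxs
    obtain ⟨k, rfl⟩ := mem_zpowers_iff.mp hz
    -- y ^ k ∈ K
    have hyk : y ^ k ∈ K := by
      have : y ^ k = m⁻¹ * (m * y ^ k) := by group
      rw [this]
      exact K.mul_mem (K.inv_mem (hK.le hm)) hxK
    -- p does not divide k
    have hpk : ¬ (p : ℤ) ∣ k := by
      rintro ⟨j, rfl⟩
      apply hxM
      have : y ^ ((p : ℤ) * j) = 1 := by
        rw [zpow_mul, zpow_natCast, hE, one_zpow]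
      rw [this, mul_one]; exact hm
    have hcop : IsCoprime k (p : ℤ) := by
      have := (Int.prime_iff_natAbs_prime.2 (by simpa using hp.out)).coprime_iff_not_dvd.2 hpk
      exact this.symm
    obtain ⟨a, b, hab⟩ := hcop
    apply hyK
    have : y = (y ^ k) ^ a * (y ^ (p : ℤ)) ^ b := by
      rw [← zpow_mul, ← zpow_mul, ← zpow_add, mul_comm k a, mul_comm (p : ℤ) b, hab, zpow_one]
    rw [this, zpow_natCast, hE, one_zpow, mul_one]
    exact K.zpow_mem hyk a
  exact hxM (frattini_le_coatom hcoatom hx)

/-- If `φ : P →* E` has commutative range of exponent `p` then `frattini P ≤ ker φ`. -/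
theorem frattini_le_ker_of_elementary {P E : Type*} [Group P] [Finite P] [Group E] {p : ℕ}
    [hp : Fact p.Prime] (φ : P →* E) (hcomm : ∀ x y : P, φ x * φ y = φ y * φ x)
    (hpow : ∀ x : P, φ x ^ p = 1) : frattini P ≤ φ.ker := by
  letI : CommGroup φ.range :=
    { (inferInstance : Group φ.range) with
      mul_comm := by
        rintro ⟨_, a, rfl⟩ ⟨_, b, rfl⟩
        exact Subtype.ext (hcomm a b) }
  haveI : Finite φ.range := Finite.of_surjective φ.rangeRestrict φ.rangeRestrict_surjective
  have hE : ∀ x : φ.range, x ^ p = 1 := by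
    rintro ⟨_, a, rfl⟩
    exact Subtype.ext (hpow a)
  have h1 := frattini_le_comap_frattini_of_surjective (φ := φ.rangeRestrict) φ.rangeRestrict_surjective
  rw [frattini_eq_bot_of_elementary (p := p) hE] at h1
  intro x hx
  have := h1 hx
  rw [mem_comap, mem_bot] at this
  rw [MonoidHom.mem_ker]
  simpa using congrArg Subtype.val this

end Cfsg.Agent.Helper47
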