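import Mathlib
import Cfsg.Agent.Lib.Helper12.SUOT0
import Cfsg.Agent.Lib.Helper12.SUOT_T14

/-!
# SUOT piece T7a (S2282, sub-server helper12): the frame `v, u v`: `u v = b_(n-1) + al b_(n-2)`,
`H v v = 0`, `H v (u v) = 0`.
-/

set_option autoImplicit false

namespace Cfsg.Agent.Helper47.SUOT

open Matrix Cfsg Cfsg.Agent.Helper13 Cfsg.Agent.Helper87.PsuA Cfsg.Agent.Helper12.SUOT

variable {F : Type*} [Field F] [Fintype F] {q n : ℕ}

omit [Fintype F] in
theorem h47_Hb {b : Fin n → Fin n → F} (hb : HB q b)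
    (i j : Fin n) (hij : j.val + i.val + 1 ≠ n) : Cfsg.hermForm n F q (b i) (b j) = 0 := by
  rw [hb i j, if_neg]
  intro h
  apply hij
  rw [h, Fin.val_rev]
  have := i.isLt
  omega

theorem frame_uv (hF : Fintype.card F = q ^ 2) {b : Fin n → Fin n → F} (hb : HB q b)
    (hn : 5 ≤ n) (al : F) :
    actv (uEl q b al) (vV q b al hn) =
      b (Fin.rev ⟨0, by omega⟩) + al • b (Fin.rev ⟨1, by omega⟩) := by
  have hN : Nm q b *ᵥ b (Fin.rev ⟨0, by omega⟩) = b (Fin.rev ⟨1, by omega⟩) := by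
    apply Nm_b_succ hF hb
    rw [Fin.val_rev, Fin.val_rev]
    show n - (1 + 1) + 1 = n - (0 + 1)
    omega
  have h := uEl_key hF hb al (b (Fin.rev ⟨0, by omega⟩))
  rw [hN] at h
  unfold vV
  exact h

theorem frame_vv (hF : Fintype.card F = q ^ 2) {b : Fin n → Fin n → F} (hb : HB q b)
    (hn : 5 ≤ n) (al : F) :
    Cfsg.hermForm n F q (vV q b al hn) (vV q b al hn) = 0 := by
  unfold vV
  have v0 : (Fin.rev (⟨0, by omega⟩ : Fin n)).val = n - 1 := by rw [Fin.val_rev]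
  have v1 : (Fin.rev (⟨1, by omega⟩ : Fin n)).val = n - 2 := by rw [Fin.val_rev]
  have h00 := h47_Hb hb (Fin.rev ⟨0, by omega⟩) (Fin.rev ⟨0, by omega⟩) (by rw [v0]; omega)
  have h01 := h47_Hb hb (Fin.rev ⟨0, by omega⟩) (Fin.rev ⟨1, by omega⟩) (by rw [v0, v1]; omega)
  have h10 := h47_Hb hb (Fin.rev ⟨1, by omega⟩) (Fin.rev ⟨0, by omega⟩) (by rw [v0, v1]; omega)
  have h11 := h47_Hb hb (Fin.rev ⟨1, by omega⟩) (Fin.rev ⟨1, by omega⟩) (by rw [v1]; omega)
  simp only [hermForm_add_left, hermForm_add_right hF, hermForm_smul_left, hermForm_smul_right,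
    h00, h01, h10, h11]
  ring

theorem frame_v_uv (hF : Fintype.card F = q ^ 2) {b : Fin n → Fin n → F} (hb : HB q b)
    (hn : 5 ≤ n) (al : F) :
    Cfsg.hermForm n F q (vV q b al hn) (actv (uEl q b al) (vV q b al hn)) = 0 := by
  rw [frame_uv hF hb hn al]
  unfold vV
  have v0 : (Fin.rev (⟨0, by omega⟩ : Fin n)).val = n - 1 := by rw [Fin.val_rev]
  have v1 : (Fin.rev (⟨1, by omega⟩ : Fin n)).val = n - 2 := by rw [Fin.val_rev]
  have h00 := h47_Hb hb (Fin.rev ⟨0, by omega⟩) (Fin.rev ⟨0, by omega⟩) (by rw [v0]; omega)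
  have h01 := h47_Hb hb (Fin.rev ⟨0, by omega⟩) (Fin.rev ⟨1, by omega⟩) (by rw [v0, v1]; omega)
  have h10 := h47_Hb hb (Fin.rev ⟨1, by omega⟩) (Fin.rev ⟨0, by omega⟩) (by rw [v0, v1]; omega)
  have h11 := h47_Hb hb (Fin.rev ⟨1, by omega⟩) (Fin.rev ⟨1, by omega⟩) (by rw [v1]; omega)
  simp only [hermForm_add_left, hermForm_add_right hF, hermForm_smul_left, hermForm_smul_right,
    h00, h01, h10, h11]
  ring

end Cfsg.Agent.Helper47.SUOT
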