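import Mathlib
import Cfsg.Agent.Lib.Helper64.S4017Defs

/-!
# S4017M (A4) `card_inv` (helper64 lemma server "S4017M", row S4017)

In case A of the boundary setting there is one class of involutions, with centraliser of order
`2 ^ a`.
-/

set_option autoImplicit false

namespace Cfsg.Agent.Helper47.S4017M

open Cfsg.Agent.Helper64.S4017

variable {G : Type*} [Group G] [Finite G] {a p : ℕ} {Q : Subgroup G} {x : G}

/-- `Q` is abelian. -/
theorem h47_a4_comm (h : Setting a p Q x) : ∀ s ∈ Q, ∀ t ∈ Q, s * t = t * s := by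
  have hinv : ∀ g ∈ Q, g⁻¹ = g := fun g hg => inv_eq_of_mul_eq_one_left (h.elem g hg)
  intro s hs t ht
  have h1 := hinv (s * t) (Q.mul_mem hs ht)
  rw [mul_inv_rev, hinv s hs, hinv t ht] at h1
  exact h1.symm

/-- in case A, `C(t) = Q` for `t ∈ Q \ {1}`. -/
theorem h47_a4_cent (h : Setting a p Q x) (T : Tools a p Q x)
    (hA : ∀ u z : G, IsInv u → IsPel p z → z * u = u * z → z = 1) {t : G} (ht : t ∈ Q)
    (ht1 : t ≠ 1) (g : G) : g * t = t * g ↔ g ∈ Q := by
  constructor
  · intro hg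
    obtain ⟨z, s, hz, hzt, hs, rfl⟩ := T.ct1 t ht ht1 g hg
    have hz1 : z = 1 := hA t z ⟨ht1, h.elem t ht⟩ hz hzt
    rw [hz1, one_mul]; exact hs
  · intro hg
    exact h47_a4_comm h g hg t ht

/-- `Q` is a Sylow `2`-subgroup. -/
theorem h47_a4_sylow (h : Setting a p Q x) : ∃ S : Sylow 2 G, (S : Subgroup G) = Q := by
  have : Fact (Nat.Prime 2) := ⟨Nat.prime_two⟩
  have hQp : IsPGroup 2 Q := IsPGroup.of_card h.card_Q
  obtain ⟨S, hS⟩ := hQp.exists_le_sylow
  refine ⟨S, ?_⟩
  symm
  apply Subgroup.eq_of_le_of_card_ge hS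
  obtain ⟨k, hk⟩ := IsPGroup.iff_card.mp S.2
  have hdv : 2 ^ k ∣ Nat.card G := by rw [← hk]; exact Subgroup.card_subgroup_dvd_card _
  have hka : k ≤ a := by
    by_contra hlt
    push Not at hlt
    exact h.sylow ((pow_dvd_pow 2 hlt).trans hdv)
  rw [hk, h.card_Q]
  exact Nat.pow_le_pow_right (by norm_num) hka

/-- every involution is conjugate into `Q`. -/
theorem h47_a4_conj_mem (h : Setting a p Q x) {u : G} (hu : IsInv u) :
    ∃ g : G, g * u * g⁻¹ ∈ Q := by
  have : Fact (Nat.Prime 2) := ⟨Nat.prime_two⟩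
  obtain ⟨S, hS⟩ := h47_a4_sylow h
  have hup : IsPGroup 2 (Subgroup.zpowers u) := by
    apply IsPGroup.of_card (n := 1)
    rw [Nat.card_zpowers, pow_one]
    exact orderOf_eq_prime (by rw [pow_two]; exact hu.2) hu.1
  obtain ⟨S', hS'⟩ := hup.exists_le_sylow
  obtain ⟨g, hg⟩ := MulAction.exists_smul_eq G S' S
  refine ⟨g, ?_⟩
  rw [← hS, ← hg, Sylow.coe_subgroup_smul]
  have huS' : u ∈ (S' : Subgroup G) := hS' (Subgroup.mem_zpowers u)
  have := Subgroup.smul_mem_pointwise_smul u (MulAut.conj g) (S' : Subgroup G) huS'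
  rwa [MulAut.smul_def, MulAut.conj_apply] at this

theorem card_inv (h : Setting a p Q x) (T : Tools a p Q x)
    (hA : ∀ u z : G, IsInv u → IsPel p z → z * u = u * z → z = 1) :
    Nat.card {u : G // IsInv u} * 2 ^ a = Nat.card G := by
  -- a nontrivial element of `Q`
  obtain ⟨t0, ht0, ht01⟩ : ∃ t0 ∈ Q, t0 ≠ 1 := by
    by_contra hcon
    push Not at hcon
    have hbot : Q = ⊥ := (Subgroup.eq_bot_iff_forall Q).mpr hcon
    have h1 := h.card_Q
    rw [hbot, Subgroup.card_bot] at h1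
    have h2 : 2 ^ 2 ≤ 2 ^ a := Nat.pow_le_pow_right (by norm_num) h.two_le
    omega
  -- the involutions are the conjugates of `t0`
  have hiff : ∀ u : G, IsInv u ↔ u ∈ MulAction.orbit (ConjAct G) t0 := by
    intro u
    rw [ConjAct.mem_orbit_conjAct, isConj_iff]
    constructor
    · intro hu
      obtain ⟨g, hg⟩ := h47_a4_conj_mem h hu
      have hg1 : g * u * g⁻¹ ≠ 1 := by
        intro h1
        apply hu.1
        have : u = g⁻¹ * (g * u * g⁻¹) * g := by group
        rw [this, h1]; group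
      obtain ⟨i, hi⟩ := h.x_trans _ hg hg1 t0 ht0 ht01
      refine ⟨x ^ i * g, ?_⟩
      rw [← hi]; group
    · rintro ⟨c, hc⟩
      have hu : u = c⁻¹ * t0 * c := by rw [← hc]; group
      constructor
      · intro h1
        apply ht01
        rw [← hc, h1]; group
      · rw [hu]
        have := h.elem t0 ht0
        calc c⁻¹ * t0 * c * (c⁻¹ * t0 * c) = c⁻¹ * (t0 * t0) * c := by group
          _ = 1 := by rw [this]; group
  -- the stabiliser of `t0` is `Q`
  have hstab : ∀ c : ConjAct G, c ∈ MulAction.stabilizer (ConjAct G) t0 ↔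
      ConjAct.ofConjAct c ∈ Q := by
    intro c
    rw [MulAction.mem_stabilizer_iff, ConjAct.smul_def, ← h47_a4_cent h T hA ht0 ht01]
    exact mul_inv_eq_iff_eq_mul
  have e1 : Nat.card {u : G // IsInv u} = Nat.card (MulAction.orbit (ConjAct G) t0) :=
    Nat.card_congr (Equiv.subtypeEquivRight hiff)
  have e2 : Nat.card (MulAction.stabilizer (ConjAct G) t0) = Nat.card Q :=
    Nat.card_congr (Equiv.subtypeEquiv ConjAct.ofConjAct.toEquiv hstab)
  have e3 : Nat.card (MulAction.orbit (ConjAct G) t0) *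
      Nat.card (MulAction.stabilizer (ConjAct G) t0) = Nat.card (ConjAct G) := by
    rw [← Nat.card_prod]
    exact Nat.card_congr (MulAction.orbitProdStabilizerEquivGroup (ConjAct G) t0)
  have e4 : Nat.card (ConjAct G) = Nat.card G := Nat.card_congr ConjAct.ofConjAct.toEquiv
  rw [e1, ← h.card_Q, ← e2, e3, e4]

end Cfsg.Agent.Helper47.S4017M
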