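import Mathlib
import Cfsg.Agent.Lib.Helper64.S4017Defs

/-!
# S4017M (A5) core: counting the nontrivial `p`-elements from (A2) and (A3)

`h47_a5_core` is (A5) `A_card_pel` of helper64's lemma server "S4017M" (row S4017) with the
conclusions of (A2) (second half) and (A3) as explicit hypotheses.
-/

set_option autoImplicit false

namespace Cfsg.Agent.Helper47.S4017M

open Cfsg.Agent.Helper64.S4017

variable {G : Type*} [Group G] [Finite G] {a p : ℕ} {Q : Subgroup G} {x : G}

/-- a nontrivial `p`-element lies in exactly one Sylow `p`-subgroup (TI), given (A2). -/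
theorem h47_a5_unique (h : Setting a p Q x)
    (hA2 : ∀ P : Sylow p G, ∀ z ∈ P, z ≠ 1 → ∀ g : G, g * z = z * g → g ∈ P)
    {y : G} (hy1 : y ≠ 1) (hy : IsPel p y) : ∃! P' : Sylow p G, y ∈ P' := by
  have : Fact p.Prime := ⟨h.prime⟩
  obtain ⟨j, hj⟩ := hy
  have hyp : IsPGroup p (Subgroup.zpowers y) := by
    apply IsPGroup.of_card (n := j)
    rw [Nat.card_zpowers, hj]
  obtain ⟨P', hP'⟩ := hyp.exists_le_sylow
  have hyP' : y ∈ P' := hP' (Subgroup.mem_zpowers y)
  refine ⟨P', hyP', ?_⟩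
  intro P'' hyP''
  -- `P'' ≤ C(y) ≤ P'`
  have hle : (P'' : Subgroup G) ≤ (P' : Subgroup G) := by
    intro g hg
    exact hA2 P' y hyP' hy1 g (h.abel P'' g hg y hyP'')
  have := P''.is_maximal' P'.2 hle
  exact Sylow.ext this.symm

/-- the number of nontrivial elements of a subgroup. -/
theorem h47_a5_card_ne_one (K : Subgroup G) :
    Nat.card {y : G // y ∈ K ∧ y ≠ 1} = Nat.card K - 1 := by
  have h1 : {y : G | y ∈ K ∧ y ≠ 1} = (K : Set G) \ {1} := by
    ext y; simp
  have h2 : Nat.card {y : G // y ∈ K ∧ y ≠ 1} = Set.ncard {y : G | y ∈ K ∧ y ≠ 1} :=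
    Nat.card_coe_set_eq _
  rw [h2, h1, Set.ncard_sdiff_singleton_of_mem (show (1 : G) ∈ (K : Set G) from K.one_mem)]
  rfl

theorem h47_a5_core (h : Setting a p Q x)
    (hA2 : ∀ P : Sylow p G, ∀ z ∈ P, z ≠ 1 → ∀ g : G, g * z = z * g → g ∈ P)
    (hA3 : ∀ P : Sylow p G,
      Nat.card (Subgroup.normalizer ((P : Subgroup G) : Set G)) = 2 * Nat.card P)
    (P : Sylow p G) :
    Nat.card {y : G // y ≠ 1 ∧ IsPel p y} * (2 * Nat.card P) =
      Nat.card G * (Nat.card P - 1) := by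
  classical
  have : Fact p.Prime := ⟨h.prime⟩
  let _ : Fintype (Sylow p G) := Fintype.ofFinite _
  -- the Sylow subgroup containing a nontrivial `p`-element
  let f : {y : G // y ≠ 1 ∧ IsPel p y} → Sylow p G := fun y =>
    (h47_a5_unique h hA2 y.2.1 y.2.2).choose
  have hf : ∀ (y : {y : G // y ≠ 1 ∧ IsPel p y}) (P' : Sylow p G), f y = P' ↔ y.1 ∈ P' := by
    intro y P'
    have hspec := (h47_a5_unique h hA2 y.2.1 y.2.2).choose_spec
    constructor
    · intro he
      rw [← he]; exact hspec.1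
    · intro hm
      exact (hspec.2 P' hm).symm
  -- fibres
  have hfib : ∀ P' : Sylow p G, Nat.card {y : {y : G // y ≠ 1 ∧ IsPel p y} // f y = P'} =
      Nat.card P - 1 := by
    intro P'
    have e1 : {y : {y : G // y ≠ 1 ∧ IsPel p y} // f y = P'} ≃
        {y : {y : G // y ≠ 1 ∧ IsPel p y} // y.1 ∈ P'} :=
      Equiv.subtypeEquivRight (fun y => hf y P')
    have e2 : {y : {y : G // y ≠ 1 ∧ IsPel p y} // y.1 ∈ P'} ≃
        {y : G // (y ≠ 1 ∧ IsPel p y) ∧ y ∈ P'} :=
      Equiv.subtypeSubtypeEquivSubtypeInter (fun y : G => y ≠ 1 ∧ IsPel p y) (fun y => y ∈ P')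
    have e3 : {y : G // (y ≠ 1 ∧ IsPel p y) ∧ y ∈ P'} ≃
        {y : G // y ∈ (P' : Subgroup G) ∧ y ≠ 1} := by
      apply Equiv.subtypeEquivRight
      intro y
      constructor
      · rintro ⟨⟨h1, _⟩, h2⟩
        exact ⟨h2, h1⟩
      · rintro ⟨h2, h1⟩
        refine ⟨⟨h1, ?_⟩, h2⟩
        obtain ⟨k, hk⟩ := (IsPGroup.iff_orderOf.mp P'.2) ⟨y, h2⟩
        refine ⟨k, ?_⟩
        rw [← hk]
        exact (Subgroup.orderOf_mk y h2).symm
    rw [Nat.card_congr (e1.trans (e2.trans e3)), h47_a5_card_ne_one]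
    have c1 := P'.card_eq_multiplicity
    have c2 := P.card_eq_multiplicity
    show Nat.card (P' : Subgroup G) - 1 = Nat.card (P : Subgroup G) - 1
    rw [c1, c2]
  have hN : Nat.card {y : G // y ≠ 1 ∧ IsPel p y} =
      Nat.card (Sylow p G) * (Nat.card P - 1) := by
    rw [Nat.card_congr (Equiv.sigmaFiberEquiv f).symm, Nat.card_sigma]
    simp only [hfib, Finset.sum_const, Finset.card_univ, smul_eq_mul,
      Nat.card_eq_fintype_card]
  have hidx : Nat.card (Sylow p G) * (2 * Nat.card P) = Nat.card G := by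
    rw [Sylow.card_eq_index_normalizer P, ← hA3 P, mul_comm]
    exact Subgroup.card_mul_index _
  rw [hN, ← hidx]
  ring

end Cfsg.Agent.Helper47.S4017M
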