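import Mathlib
import Cfsg.Agent.Lib.Helper64.S4017Defs
import Cfsg.Agent.Lib.Helper47.S4017A4
import Cfsg.Agent.Lib.Helper47.S4017A5Core

/-!
# S4017M (A6) core: counting the pairs of involutions

`h47_a6_core` is (A6) `A_count` of helper64's lemma server "S4017M" (row S4017) with the conclusions
of (SYL) `exists_setting`, (E23) and (A2) as explicit hypotheses.
-/

set_option autoImplicit false

namespace Cfsg.Agent.Helper47.S4017M

open Cfsg.Agent.Helper64.S4017

variable {G : Type*} [Group G] [Finite G] {a p : ℕ} {Q : Subgroup G} {x : G}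

/-- `p` is odd. -/
theorem h47_a6_p_ne_two (h : Setting a p Q x) : p ≠ 2 := by
  intro hp
  have h1 := h.p_eq
  rw [hp] at h1
  have h4 : 2 ^ 2 ∣ 2 ^ a := pow_dvd_pow 2 h.two_le
  rw [← h1] at h4
  norm_num at h4

/-- a nontrivial `p`-element is not an involution. -/
theorem h47_a6_not_inv (h : Setting a p Q x) {g : G} (hg : IsPel p g) (hg1 : g ≠ 1) :
    g * g ≠ 1 := by
  intro hgg
  obtain ⟨j, hj⟩ := hg
  have h2 : orderOf g = 2 := orderOf_eq_prime (by rw [pow_two]; exact hgg) hg1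
  rw [h2] at hj
  have hj0 : j ≠ 0 := by
    rintro rfl
    norm_num at hj
  have hp2 : p ∣ 2 := by rw [hj]; exact dvd_pow_self p hj0
  exact h47_a6_p_ne_two h ((Nat.prime_dvd_prime_iff_eq h.prime Nat.prime_two).mp hp2)

/-- the involutions commuting with the involution `u` are the `p` nontrivial elements of `C(u)`. -/
theorem h47_a6_card_comm
    (hall : ∀ (Q' : Subgroup G) (x' : G), Setting a p Q' x' → Tools a p Q' x')
    (hA : ∀ u z : G, IsInv u → IsPel p z → z * u = u * z → z = 1)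
    (hset : ∀ u : G, IsInv u → ∃ (Q' : Subgroup G) (x' : G), Setting a p Q' x' ∧ u ∈ Q')
    {u : G} (hu : IsInv u) :
    Nat.card {v : {v : G // IsInv v} // u * v.1 = v.1 * u} = p := by
  obtain ⟨Q', x', h', huQ'⟩ := hset u hu
  have T' := hall Q' x' h'
  have e : {v : {v : G // IsInv v} // u * v.1 = v.1 * u} ≃ {v : G // v ∈ Q' ∧ v ≠ 1} := by
    refine (Equiv.subtypeSubtypeEquivSubtypeInter (fun v : G => IsInv v)
      (fun v => u * v = v * u)).trans ?_
    apply Equiv.subtypeEquivRight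
    intro v
    constructor
    · rintro ⟨hv, hc⟩
      exact ⟨(h47_a4_cent h' T' hA huQ' hu.1 v).mp hc.symm, hv.1⟩
    · rintro ⟨hvQ, hv1⟩
      exact ⟨⟨hv1, h'.elem v hvQ⟩, ((h47_a4_cent h' T' hA huQ' hu.1 v).mpr hvQ).symm⟩
  rw [Nat.card_congr e, h47_a5_card_ne_one, h'.card_Q, ← h'.p_eq]
  simp

/-- the involutions inverting the nontrivial `p`-element `g` form a coset of the Sylow
`p`-subgroup containing `g`. -/
theorem h47_a6_card_invert (h : Setting a p Q x)
    (hA2 : ∀ P : Sylow p G, (∃ u : G, IsInv u ∧ ∀ z ∈ P, u * z * u⁻¹ = z⁻¹) ∧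
      ∀ z ∈ P, z ≠ 1 → ∀ g : G, g * z = z * g → g ∈ P)
    (P : Sylow p G) {g : G} (hg1 : g ≠ 1) (hg : IsPel p g) :
    Nat.card {u : G // IsInv u ∧ u * g * u⁻¹ = g⁻¹} = Nat.card P := by
  have : Fact p.Prime := ⟨h.prime⟩
  obtain ⟨j, hj⟩ := hg
  have hgp : IsPGroup p (Subgroup.zpowers g) := by
    apply IsPGroup.of_card (n := j)
    rw [Nat.card_zpowers, hj]
  obtain ⟨Pg, hPg⟩ := hgp.exists_le_sylow
  have hgPg : g ∈ Pg := hPg (Subgroup.mem_zpowers g)
  obtain ⟨⟨u₀, hu₀, hinv⟩, hcent⟩ := hA2 Pg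
  have hu₀sq : u₀ * u₀ = 1 := hu₀.2
  have hu₀inv : u₀⁻¹ = u₀ := inv_eq_of_mul_eq_one_left hu₀sq
  have hu₀g : u₀ * g = g⁻¹ * u₀ := mul_inv_eq_iff_eq_mul.mp (hinv g hgPg)
  -- `u₀ ∉ Pg`
  have hu₀P : u₀ ∉ Pg := by
    intro hmem
    obtain ⟨k, hk⟩ := (IsPGroup.iff_orderOf.mp Pg.2) ⟨u₀, hmem⟩
    have hpel : IsPel p u₀ := ⟨k, by rw [← hk]; exact (Subgroup.orderOf_mk u₀ hmem).symm⟩
    exact h47_a6_not_inv h hpel hu₀.1 hu₀sq
  have e : {u : G // IsInv u ∧ u * g * u⁻¹ = g⁻¹} ≃ (Pg : Subgroup G) :=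
    { toFun := fun u => ⟨u.1 * u₀, by
        obtain ⟨u, hu, hug⟩ := u
        apply hcent g hgPg hg1
        have h1 : u * g = g⁻¹ * u := mul_inv_eq_iff_eq_mul.mp hug
        have h2 : u * g⁻¹ = g * u := by
          have : u * g⁻¹ * u⁻¹ = g := by
            have := congrArg (fun t => t⁻¹) hug
            simpa [mul_assoc] using this
          exact mul_inv_eq_iff_eq_mul.mp this
        show u * u₀ * g = g * (u * u₀)
        calc u * u₀ * g = u * (u₀ * g) := by group
          _ = u * (g⁻¹ * u₀) := by rw [hu₀g]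
          _ = (u * g⁻¹) * u₀ := by group
          _ = (g * u) * u₀ := by rw [h2]
          _ = g * (u * u₀) := by group⟩
      invFun := fun z => ⟨z.1 * u₀, by
        obtain ⟨z, hz⟩ := z
        have hzinv : u₀ * z = z⁻¹ * u₀ := mul_inv_eq_iff_eq_mul.mp (hinv z hz)
        refine ⟨⟨?_, ?_⟩, ?_⟩
        · intro h1
          apply hu₀P
          have h3 : z * u₀ = 1 := h1
          have : u₀ = z⁻¹ := eq_inv_of_mul_eq_one_right h3
          rw [this]; exact (Pg : Subgroup G).inv_mem hz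
        · show z * u₀ * (z * u₀) = 1
          calc z * u₀ * (z * u₀) = z * (u₀ * z) * u₀ := by group
            _ = z * (z⁻¹ * u₀) * u₀ := by rw [hzinv]
            _ = u₀ * u₀ := by group
            _ = 1 := hu₀sq
        · show z * u₀ * g * (z * u₀)⁻¹ = g⁻¹
          have hzg : z * g⁻¹ = g⁻¹ * z :=
            h.abel Pg z hz g⁻¹ ((Pg : Subgroup G).inv_mem hgPg)
          calc z * u₀ * g * (z * u₀)⁻¹ = z * (u₀ * g * u₀⁻¹) * z⁻¹ := by group
            _ = z * g⁻¹ * z⁻¹ := by rw [hinv g hgPg]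
            _ = g⁻¹ * z * z⁻¹ := by rw [hzg]
            _ = g⁻¹ := by group⟩
      left_inv := fun u => by
        apply Subtype.ext
        show u.1 * u₀ * u₀ = u.1
        rw [mul_assoc, hu₀sq, mul_one]
      right_inv := fun z => by
        apply Subtype.ext
        show z.1 * u₀ * u₀ = z.1
        rw [mul_assoc, hu₀sq, mul_one] }
  rw [Nat.card_congr e]
  show Nat.card (Pg : Subgroup G) = Nat.card (P : Subgroup G)
  rw [Pg.card_eq_multiplicity, P.card_eq_multiplicity]

/-- pairs of non-commuting involutions `(u, v)` correspond to pairs `(g, u)` with `g = u v` a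
nontrivial `p`-element inverted by the involution `u`. -/
theorem h47_a6_card_noncomm (h : Setting a p Q x)
    (hE23 : ∀ u v : G, IsInv u → IsInv v → u * v ≠ v * u → IsPel p (u * v)) :
    Nat.card {w : {u : G // IsInv u} × {u : G // IsInv u} // ¬ (w.1.1 * w.2.1 = w.2.1 * w.1.1)} =
      Nat.card {s : G × G // (s.1 ≠ 1 ∧ IsPel p s.1) ∧ IsInv s.2 ∧ s.2 * s.1 * s.2⁻¹ = s.1⁻¹} := by
  apply Nat.card_congr
  exact
    { toFun := fun w => ⟨(w.1.1.1 * w.1.2.1, w.1.1.1), by
        obtain ⟨⟨⟨u, hu⟩, ⟨v, hv⟩⟩, hnc⟩ := w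
        have hui : u⁻¹ = u := inv_eq_of_mul_eq_one_left hu.2
        have hvi : v⁻¹ = v := inv_eq_of_mul_eq_one_left hv.2
        refine ⟨⟨?_, hE23 u v hu hv hnc⟩, hu, ?_⟩
        · intro h1
          apply hnc
          have h2 : u * v = 1 := h1
          have hv' : v = u⁻¹ := eq_inv_of_mul_eq_one_right h2
          show u * v = v * u
          rw [hv', hui]
        · show u * (u * v) * u⁻¹ = (u * v)⁻¹
          rw [mul_inv_rev, hui, hvi, ← mul_assoc, hu.2, one_mul]⟩
      invFun := fun s => ⟨(⟨s.1.2, s.2.2.1⟩, ⟨s.1.2 * s.1.1, by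
        obtain ⟨⟨g, u⟩, ⟨hg1, hg⟩, hu, hug⟩ := s
        have hui : u⁻¹ = u := inv_eq_of_mul_eq_one_left hu.2
        have hug' : u * g * u = g⁻¹ := by rw [← hug, hui]
        refine ⟨?_, ?_⟩
        · intro h1
          have h2 : u * g = 1 := h1
          have hg' : g = u⁻¹ := eq_inv_of_mul_eq_one_right h2
          apply h47_a6_not_inv h hg hg1
          rw [hg', hui]; exact hu.2
        · show u * g * (u * g) = 1
          calc u * g * (u * g) = (u * g * u) * g := by group
            _ = g⁻¹ * g := by rw [hug']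
            _ = 1 := by group⟩), by
        obtain ⟨⟨g, u⟩, ⟨hg1, hg⟩, hu, hug⟩ := s
        have hui : u⁻¹ = u := inv_eq_of_mul_eq_one_left hu.2
        have hug' : u * g * u = g⁻¹ := by rw [← hug, hui]
        show ¬ (u * (u * g) = u * g * u)
        intro hc
        rw [hug', ← mul_assoc, hu.2, one_mul] at hc
        apply h47_a6_not_inv h hg hg1
        calc g * g = g * g⁻¹ := by rw [← hc]
          _ = 1 := by group⟩
      left_inv := fun w => by
        obtain ⟨⟨⟨u, hu⟩, ⟨v, hv⟩⟩, hnc⟩ := w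
        apply Subtype.ext
        apply Prod.ext
        · rfl
        · apply Subtype.ext
          show u * (u * v) = v
          rw [← mul_assoc, hu.2, one_mul]
      right_inv := fun s => by
        obtain ⟨⟨g, u⟩, ⟨hg1, hg⟩, hu, hug⟩ := s
        apply Subtype.ext
        apply Prod.ext
        · show u * (u * g) = g
          rw [← mul_assoc, hu.2, one_mul]
        · rfl }

theorem h47_a6_core
    (hall : ∀ (Q' : Subgroup G) (x' : G), Setting a p Q' x' → Tools a p Q' x')
    (h : Setting a p Q x) (hA : ∀ u z : G, IsInv u → IsPel p z → z * u = u * z → z = 1)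
    (hset : ∀ u : G, IsInv u → ∃ (Q' : Subgroup G) (x' : G), Setting a p Q' x' ∧ u ∈ Q')
    (hE23 : ∀ u v : G, IsInv u → IsInv v → u * v ≠ v * u → IsPel p (u * v))
    (hA2 : ∀ P : Sylow p G, (∃ u : G, IsInv u ∧ ∀ z ∈ P, u * z * u⁻¹ = z⁻¹) ∧
      ∀ z ∈ P, z ≠ 1 → ∀ g : G, g * z = z * g → g ∈ P)
    (P : Sylow p G) :
    Nat.card {u : G // IsInv u} * Nat.card {u : G // IsInv u} =
      Nat.card {u : G // IsInv u} * p +
        Nat.card {y : G // y ≠ 1 ∧ IsPel p y} * Nat.card P := by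
  classical
  let _ : Fintype G := Fintype.ofFinite G
  let _ : Fintype {u : G // IsInv u} := Fintype.ofFinite _
  -- split the pairs
  have hsplit : Nat.card ({u : G // IsInv u} × {u : G // IsInv u}) =
      Nat.card {w : {u : G // IsInv u} × {u : G // IsInv u} // w.1.1 * w.2.1 = w.2.1 * w.1.1} +
      Nat.card {w : {u : G // IsInv u} × {u : G // IsInv u} //
        ¬ (w.1.1 * w.2.1 = w.2.1 * w.1.1)} := by
    rw [← Nat.card_sum]
    exact Nat.card_congr (Equiv.sumCompl _).symm
  -- commuting pairs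
  have hcomm : Nat.card {w : {u : G // IsInv u} × {u : G // IsInv u} //
      w.1.1 * w.2.1 = w.2.1 * w.1.1} = Nat.card {u : G // IsInv u} * p := by
    rw [Nat.card_congr (Equiv.subtypeProdEquivSigmaSubtype
      (fun (u v : {u : G // IsInv u}) => u.1 * v.1 = v.1 * u.1)), Nat.card_sigma]
    have : ∀ u : {u : G // IsInv u},
        Nat.card {v : {u : G // IsInv u} // u.1 * v.1 = v.1 * u.1} = p :=
      fun u => h47_a6_card_comm hall hA hset u.2
    simp only [this, Finset.sum_const, Finset.card_univ, smul_eq_mul, Nat.card_eq_fintype_card]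
  -- non-commuting pairs
  have hnc : Nat.card {w : {u : G // IsInv u} × {u : G // IsInv u} //
      ¬ (w.1.1 * w.2.1 = w.2.1 * w.1.1)} =
      Nat.card {y : G // y ≠ 1 ∧ IsPel p y} * Nat.card P := by
    rw [h47_a6_card_noncomm h hE23,
      Nat.card_congr (Equiv.subtypeProdEquivSigmaSubtype
        (fun (g u : G) => (g ≠ 1 ∧ IsPel p g) ∧ IsInv u ∧ u * g * u⁻¹ = g⁻¹)), Nat.card_sigma]
    have hfib : ∀ g : G, Nat.card {u : G // (g ≠ 1 ∧ IsPel p g) ∧ IsInv u ∧ u * g * u⁻¹ = g⁻¹} =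
        if g ≠ 1 ∧ IsPel p g then Nat.card P else 0 := by
      intro g
      split_ifs with hg
      · rw [← h47_a6_card_invert h hA2 P hg.1 hg.2]
        apply Nat.card_congr
        apply Equiv.subtypeEquivRight
        intro u
        exact ⟨fun hh => hh.2, fun hh => ⟨hg, hh⟩⟩
      · rw [Nat.card_eq_zero]
        left
        exact ⟨fun u => hg u.2.1⟩
    simp only [hfib, Finset.sum_ite, Finset.sum_const, smul_eq_mul,
      mul_zero, add_zero, Nat.card_eq_fintype_card, Fintype.card_subtype]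
  rw [← Nat.card_prod, hsplit, hcomm, hnc]

end Cfsg.Agent.Helper47.S4017M
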