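import Mathlib
import Cfsg.Prelude.Def_OddOrderLocal
import Cfsg.Agent.Lib.Helper45.BG143
import Cfsg.Agent.Lib.Helper34.BG10a
import Cfsg.Agent.Lib.Helper22.Fitting
import Cfsg.Agent.Lib.Helper76.EqOrd1

/-!
# B–G Theorem 14.2 (S1430 / S1431): lemmas (L1), (L2), (L7) of `Lib/Helper54/BG142_PROOF.md`

Hypothesis-parametrised: the rows S1409, S1415, S1427, S1428 enter as the `Prop`s `H09`, `H15`, `H27`,
`H28` (verbatim statements without `hG`), S1417(e) as `Helper45.BG143.H17e`.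
-/

set_option autoImplicit false
set_option linter.unusedVariables false

namespace Cfsg.Agent.Helper47.BG142

open Subgroup

variable {G : Type*} [Group G] [Finite G]

/-- S1409 (verbatim, without `hG`) -/
def H09 (G : Type*) [Group G] [Finite G] : Prop :=
  ∀ (M : Subgroup G) (hM : IsCoatom M) (p : ℕ) [Fact p.Prime] (hp : p ∉ Cfsg.sigma M) (X : Subgroup G) (hX : Nat.card X = p)
    (hNX : Subgroup.normalizer (X : Set G) ≤ M),
    (Cfsg.PRankLE p 2 M ∧ ¬ Cfsg.PRankLE p 1 M) ∧ ¬ Cfsg.IsIdealPrime p G ∧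
      ∃ A : Subgroup G, Cfsg.IsElementaryAbelian p A ∧ Nat.card A = p ^ 2 ∧ X ≤ A

/-- S1415 (verbatim, without `hG`) -/
def H15 (G : Type*) [Group G] [Finite G] : Prop :=
  ∀ (M : Subgroup G) (hM : IsCoatom M) (E : Subgroup G) (hE : Cfsg.IsComplIn E (Cfsg.sigmaCore M) M),
    Group.IsNilpotent ↥⁅E, E⁆ ∧
      (∀ E₁ : Subgroup G, Cfsg.IsPiHallOf (Cfsg.tau1 M) E₁ E → IsCyclic E₁) ∧
      ∀ E₃ : Subgroup G, Cfsg.IsPiHallOf (Cfsg.tau3 M) E₃ E → IsCyclic E₃ ∧ E₃ ≤ ⁅E, E⁆ ∧ E ≤ Subgroup.normalizer (E₃ : Set G)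

/-- S1427 (verbatim, without `hG`) -/
def H27 (G : Type*) [Group G] [Finite G] : Prop :=
  ∀ (M : Subgroup G) (hM : IsCoatom M) (E : Subgroup G) (hE : Cfsg.IsComplIn E (Cfsg.sigmaCore M) M) (p : ℕ) [Fact p.Prime] (S : Sylow p E) (hS1 : (S : Subgroup E) ≠ ⊥) (hSc : IsCyclic (S : Subgroup E)),
    ∀ x ∈ (S : Subgroup E).map E.subtype, x ≠ 1 →
        Cfsg.sigmaCore M ⊓ Subgroup.centralizer ({x} : Set G) = Cfsg.sigmaCore M ⊓ Subgroup.centralizer (((S : Subgroup E).map E.subtype : Subgroup G) : Set G)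

/-- S1428 (verbatim, without `hG`) -/
def H28 (G : Type*) [Group G] [Finite G] : Prop :=
  ∀ (M : Subgroup G) (hM : IsCoatom M) (E : Subgroup G) (hE : Cfsg.IsComplIn E (Cfsg.sigmaCore M) M) (p : ℕ) (hp : p ∈ Cfsg.tau1 M) (P : Subgroup G) (hPE : P ≤ E) (hP : Nat.card P = p)
    (R : Subgroup G) (hRE : R ≤ E ⊓ Subgroup.centralizer (P : Set G)) (hR : (Nat.card R).Prime),
    Cfsg.sigmaCore M ⊓ Subgroup.centralizer (P : Set G) ≤ Cfsg.sigmaCore M ⊓ Subgroup.centralizer (R : Set G)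

/-! ### (L7) -/

omit [Finite G] in
/-- half of (L7), elementwise: `s` centralizes `X`. -/
theorem L7_aux {E N X : Subgroup G} (hEN : E ⊓ N = ⊥) (hN : E ≤ normalizer (N : Set G)) (hXE : X ≤ E)
    {e s : G} (he : e ∈ E) (hs : s ∈ N) (hn : ∀ x ∈ X, e * s * x * (e * s)⁻¹ ∈ X) :
    s ∈ centralizer (X : Set G) := by
  rw [Subgroup.mem_centralizer_iff]
  intro x hx
  have hxE : x ∈ E := hXE hx
  -- `c = s x s⁻¹ x⁻¹ ∈ N`
  have hc : s * (x * s⁻¹ * x⁻¹) ∈ N :=
    N.mul_mem hs ((Subgroup.mem_normalizer_iff.mp (hN hxE) s⁻¹).mp (N.inv_mem hs))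
  have hec : e * (s * (x * s⁻¹ * x⁻¹)) * e⁻¹ ∈ N := (Subgroup.mem_normalizer_iff.mp (hN he) _).mp hc
  have hex : e * x * e⁻¹ ∈ E := E.mul_mem (E.mul_mem he hxE) (E.inv_mem he)
  have hprod : e * (s * (x * s⁻¹ * x⁻¹)) * e⁻¹ * (e * x * e⁻¹) ∈ E := by
    have h1 : e * (s * (x * s⁻¹ * x⁻¹)) * e⁻¹ * (e * x * e⁻¹) = e * s * x * (e * s)⁻¹ := by group
    rw [h1]
    exact hXE (hn x hx)
  have hecE : e * (s * (x * s⁻¹ * x⁻¹)) * e⁻¹ ∈ E :=
    (Subgroup.mul_mem_cancel_right E hex).mp hprod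
  have h1 : e * (s * (x * s⁻¹ * x⁻¹)) * e⁻¹ ∈ E ⊓ N := ⟨hecE, hec⟩
  rw [hEN, Subgroup.mem_bot] at h1
  have h2 : s * (x * s⁻¹ * x⁻¹) = 1 := by
    have : s * (x * s⁻¹ * x⁻¹) = e⁻¹ * (e * (s * (x * s⁻¹ * x⁻¹)) * e⁻¹) * e := by group
    rw [this, h1]; group
  -- `x * s = s * x`
  have h3 : s * x = x * s := by
    have : s * x = s * (x * s⁻¹ * x⁻¹) * (x * s) := by group
    rw [this, h2, one_mul]
  exact h3.symm

omit [Finite G] in
/-- (L7), elementwise: if `e * s` (`e ∈ E`, `s ∈ N`) normalizes `X ≤ E`, where `E ∩ N = 1` and `E`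
normalizes `N`, then `s` centralizes `X` and `e` normalizes `X`. -/
theorem L7_mem {E N X : Subgroup G} (hEN : E ⊓ N = ⊥) (hN : E ≤ normalizer (N : Set G)) (hXE : X ≤ E)
    {e s : G} (he : e ∈ E) (hs : s ∈ N) (hn : e * s ∈ normalizer (X : Set G)) :
    s ∈ centralizer (X : Set G) ∧ e ∈ normalizer (X : Set G) := by
  have hn' := Subgroup.mem_normalizer_iff.mp hn
  have hsc : s ∈ centralizer (X : Set G) :=
    L7_aux hEN hN hXE he hs (fun x hx => (hn' x).mp hx)
  refine ⟨hsc, ?_⟩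
  have hsn : s ∈ normalizer (X : Set G) := Subgroup.centralizer_le_normalizer _ hsc
  have := (normalizer (X : Set G)).mul_mem hn ((normalizer (X : Set G)).inv_mem hsn)
  simpa using this

omit [Finite G] in
/-- (L7): `N_M(X) = N_E(X) C_N(X)` for `X ≤ E`, `M = E N` with `E ∩ N = 1` and `N` normalized by
`E`. -/
theorem L7 {M E N X : Subgroup G} (hE : Cfsg.IsComplIn E N M) (hN : E ≤ normalizer (N : Set G))
    (hXE : X ≤ E) :
    M ⊓ normalizer (X : Set G) = (E ⊓ normalizer (X : Set G)) ⊔ (N ⊓ centralizer (X : Set G)) := by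
  obtain ⟨hEM, hNM, hEN, hprod⟩ := hE
  apply le_antisymm
  · rintro m ⟨hmM, hmX⟩
    obtain ⟨a, ha, b, hb, rfl⟩ := hprod m hmM
    obtain ⟨hbc, han⟩ := L7_mem hEN hN hXE ha hb hmX
    exact Subgroup.mul_mem_sup ⟨ha, han⟩ ⟨hb, hbc⟩
  · refine sup_le (inf_le_inf_right _ hEM) (inf_le_inf hNM (Subgroup.centralizer_le_normalizer _))

/-! ### a general fact -/

omit [Finite G] in
/-- a `q`-subgroup `K` of `S` lies in every subgroup `N` normalized by `S` with `q ∤ [S : S ∩ N]`. -/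
theorem le_of_isPGroup_of_not_dvd_relIndex {S N K : Subgroup G} {q : ℕ} [hq : Fact q.Prime]
    (hSN : S ≤ normalizer (N : Set G)) (hidx : ¬ q ∣ N.relIndex S) (hKS : K ≤ S)
    (hK : IsPGroup q K) : K ≤ N := by
  have hn : (N.subgroupOf S).Normal := Subgroup.normal_subgroupOf_of_le_normalizer hSN
  intro k hk
  obtain ⟨n, hn'⟩ := hK ⟨k, hk⟩
  have hkpow : (⟨k, hKS hk⟩ : ↥S) ^ q ^ n = 1 := by
    apply Subtype.ext
    have := congrArg Subtype.val hn'
    simpa using this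
  have h1 : ((⟨k, hKS hk⟩ : ↥S) : ↥S ⧸ N.subgroupOf S) ^ q ^ n = 1 := by
    rw [← QuotientGroup.mk_pow, hkpow]; rfl
  have hidx0 : (N.subgroupOf S).index ≠ 0 := by
    intro h0
    exact hidx (by rw [Subgroup.relIndex, h0]; exact dvd_zero _)
  have h2 : ((⟨k, hKS hk⟩ : ↥S) : ↥S ⧸ N.subgroupOf S) ^ (N.subgroupOf S).index = 1 := by
    haveI : (N.subgroupOf S).FiniteIndex := ⟨hidx0⟩
    haveI : Finite (↥S ⧸ N.subgroupOf S) := Subgroup.finite_quotient_of_finiteIndex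
    rw [Subgroup.index_eq_card]
    exact pow_card_eq_one'
  have hcop : (q ^ n).Coprime (N.subgroupOf S).index :=
    Nat.Coprime.pow_left n ((Nat.Prime.coprime_iff_not_dvd hq.out).mpr hidx)
  have h3 := pow_gcd_eq_one.mpr ⟨h1, h2⟩
  rw [hcop, pow_one] at h3
  have h4 : (⟨k, hKS hk⟩ : ↥S) ∈ N.subgroupOf S :=
    (QuotientGroup.eq_one_iff (N := N.subgroupOf S) (⟨k, hKS hk⟩ : ↥S)).mp h3
  exact h4

/-! ### (L2) -/

/-- (L2): a Hall `τ₁(M)`-subgroup `E₁` of `E` is semiprime on `M_σ`. -/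
theorem L2 (h15 : H15 G) (h27 : H27 G) (h28 : H28 G) {M E E₁ : Subgroup G} (hM : IsCoatom M)
    (hE : Cfsg.IsComplIn E (Cfsg.sigmaCore M) M) (hE₁ : Cfsg.IsPiHallOf (Cfsg.tau1 M) E₁ E) :
    ∀ e ∈ E₁, e ≠ 1 → Cfsg.sigmaCore M ⊓ centralizer ({e} : Set G) =
      Cfsg.sigmaCore M ⊓ centralizer (E₁ : Set G) := by
  intro e he he1
  have hcyc : IsCyclic ↥E₁ := (h15 M hM E hE).2.1 E₁ hE₁
  obtain ⟨hE₁E, hE₁π, hE₁idx⟩ := hE₁
  -- `E₁` is commutative
  have hcomm : ∀ a ∈ E₁, ∀ b ∈ E₁, a * b = b * a := by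
    intro a ha b hb
    letI := IsCyclic.commGroup (α := ↥E₁)
    exact congrArg Subtype.val (mul_comm (⟨a, ha⟩ : ↥E₁) ⟨b, hb⟩)
  apply le_antisymm
  · intro y hy
    obtain ⟨hyM, hye⟩ := Subgroup.mem_inf.mp hy
    refine Subgroup.mem_inf.mpr ⟨hyM, ?_⟩
    have hye' : e * y = y * e := by
      have := (Subgroup.mem_centralizer_iff.mp hye) e (Set.mem_singleton e)
      exact this
    -- a subgroup `X ≤ ⟨e⟩` of prime order `p`
    have hord1 : orderOf e ≠ 1 := fun h => he1 (orderOf_eq_one_iff.mp h)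
    obtain ⟨p, hp, hpe⟩ := Nat.exists_prime_and_dvd hord1
    have hord0 : 0 < orderOf e := orderOf_pos e
    set x := e ^ (orderOf e / p) with hx
    have hxord : orderOf x = p := orderOf_pow_orderOf_div hord0.ne' hpe
    have hxE₁ : x ∈ E₁ := E₁.pow_mem he _
    have hXE₁ : zpowers x ≤ E₁ := (Subgroup.zpowers_le).mpr hxE₁
    have hXcard : Nat.card (zpowers x) = p := by rw [Nat.card_zpowers, hxord]
    have hpE₁ : p ∣ Nat.card E₁ := by
      rw [← hXcard]; exact Subgroup.card_dvd_of_le hXE₁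
    have hpτ : p ∈ Cfsg.tau1 M := hE₁π p hp hpE₁
    have hyX : y ∈ Cfsg.sigmaCore M ⊓ centralizer ((zpowers x : Subgroup G) : Set G) := by
      refine Subgroup.mem_inf.mpr ⟨hyM, ?_⟩
      rw [Subgroup.mem_centralizer_iff]
      intro h hh
      -- `h ∈ ⟨x⟩ ≤ ⟨e⟩` commutes with `y`
      have hle : zpowers x ≤ centralizer ({y} : Set G) := by
        rw [Subgroup.zpowers_le]
        apply Subgroup.pow_mem
        rw [Subgroup.mem_centralizer_iff]
        intro z hz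
        rw [Set.mem_singleton_iff] at hz
        rw [hz]; exact hye'.symm
      have := (Subgroup.mem_centralizer_iff.mp (hle hh)) y (Set.mem_singleton y)
      exact this.symm
    -- the subgroup of `E₁` centralizing `y` contains every Sylow subgroup of `E₁`
    have hT : (centralizer ({y} : Set G)).subgroupOf E₁ = ⊤ := by
      apply Cfsg.Agent.Helper22.eq_top_of_sylow_le
      intro q hqF P
      by_cases hP1 : (P : Subgroup ↥E₁) = ⊥
      · rw [hP1]; exact bot_le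
      -- `q ∣ |E₁|`
      have hqP : q ∣ Nat.card (P : Subgroup ↥E₁) := by
        obtain ⟨n, hn⟩ := P.isPGroup'.exists_card_eq
        rcases Nat.eq_zero_or_pos n with h0 | hpos
        · exfalso
          apply hP1
          rw [h0, pow_zero] at hn
          exact (Subgroup.card_eq_one).mp hn
        · rw [hn]; exact dvd_pow_self q hpos.ne'
      have hqE₁ : q ∣ Nat.card E₁ := hqP.trans (Subgroup.card_subgroup_dvd_card _)
      have hqτ : q ∈ Cfsg.tau1 M := hE₁π q hqF.out hqE₁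
      -- the image `Q` of `P` in `G`, and the corresponding Sylow subgroup of `E`
      set Q : Subgroup G := (P : Subgroup ↥E₁).map E₁.subtype with hQ
      have hQE₁ : Q ≤ E₁ := Subgroup.map_subtype_le _
      have hQE : Q ≤ E := hQE₁.trans hE₁E
      have hQp : IsPGroup q Q := P.isPGroup'.map _
      have hS'p : IsPGroup q ↥(Q.subgroupOf E) := hQp.comap_subtype
      have hidx : ¬ q ∣ (Q.subgroupOf E).index := by
        have h1 : Q.relIndex E₁ * E₁.relIndex E = Q.relIndex E :=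
          Subgroup.relIndex_mul_relIndex _ _ _ hQE₁ hE₁E
        have h2 : Q.relIndex E₁ = (P : Subgroup ↥E₁).index := by
          rw [Subgroup.relIndex, hQ]
          show (((P : Subgroup ↥E₁).map E₁.subtype).comap E₁.subtype).index = _
          rw [Subgroup.comap_map_eq_self_of_injective E₁.subtype_injective]
        intro hdvd
        have hdvd' : q ∣ Q.relIndex E₁ * E₁.relIndex E := by rw [h1]; exact hdvd
        rcases (Nat.Prime.dvd_mul hqF.out).mp hdvd' with h | h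
        · rw [h2] at h; exact P.not_dvd_index h
        · exact hE₁idx q hqF.out hqτ h
      let S : Sylow q ↥E := hS'p.toSylow hidx
      have hScoe : (S : Subgroup ↥E) = Q.subgroupOf E := rfl
      have hSmap : (S : Subgroup ↥E).map E.subtype = Q := by
        rw [hScoe, Subgroup.map_subgroupOf_eq_of_le hQE]
      have hQ1 : Q ≠ ⊥ := by
        intro h
        apply hP1
        rw [hQ] at h
        exact (Subgroup.map_eq_bot_iff_of_injective _ E₁.subtype_injective).mp h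
      have hS1 : (S : Subgroup ↥E) ≠ ⊥ := by
        intro h
        apply hQ1
        rw [← hSmap, h, Subgroup.map_bot]
      have hQc : IsCyclic ↥Q := by
        have hPc : IsCyclic ↥(P : Subgroup ↥E₁) := inferInstance
        exact ((P : Subgroup ↥E₁).equivMapOfInjective E₁.subtype E₁.subtype_injective).isCyclic.mp hPc
      have hSc : IsCyclic ↥(S : Subgroup ↥E) := by
        rw [hScoe]
        exact (Subgroup.subgroupOfEquivOfLe hQE).isCyclic.mpr hQc
      -- an element `r ∈ Q` of order `q`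
      obtain ⟨r', hr'⟩ := exists_prime_orderOf_dvd_card' q hqP
      have hrQ : ((r' : ↥E₁) : G) ∈ Q := ⟨(r' : ↥E₁), r'.2, rfl⟩
      set r : G := ((r' : ↥E₁) : G) with hr
      have hrord : orderOf r = q := by
        rw [hr, Subgroup.orderOf_coe, Subgroup.orderOf_coe, hr']
      have hr1 : r ≠ 1 := by
        intro h
        rw [h, orderOf_one] at hrord
        exact hqF.out.one_lt.ne hrord
      have hrE₁ : r ∈ E₁ := hQE₁ hrQ
      have hRcard : Nat.card (zpowers r) = q := by rw [Nat.card_zpowers, hrord]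
      have hRE : zpowers r ≤ E ⊓ centralizer ((zpowers x : Subgroup G) : Set G) := by
        rw [Subgroup.zpowers_le]
        refine Subgroup.mem_inf.mpr ⟨hE₁E hrE₁, ?_⟩
        rw [Subgroup.mem_centralizer_iff]
        intro h hh
        exact hcomm h (hXE₁ hh) r hrE₁
      have h1 := h28 M hM E hE p hpτ (zpowers x) (hXE₁.trans hE₁E) hXcard (zpowers r) hRE
        (by rw [hRcard]; exact hqF.out)
      have hyR : y ∈ Cfsg.sigmaCore M ⊓ centralizer ((zpowers r : Subgroup G) : Set G) := h1 hyX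
      have hyr : y ∈ Cfsg.sigmaCore M ⊓ centralizer ({r} : Set G) := by
        refine Subgroup.mem_inf.mpr ⟨(Subgroup.mem_inf.mp hyR).1,
          Subgroup.centralizer_le ?_ (Subgroup.mem_inf.mp hyR).2⟩
        intro z hz
        rw [Set.mem_singleton_iff] at hz
        rw [hz]; exact Subgroup.mem_zpowers r
      have h2 := h27 M hM E hE q S hS1 hSc r (by rw [hSmap]; exact hrQ) hr1
      rw [h2, hSmap] at hyr
      -- conclude
      intro g hg
      rw [Subgroup.mem_subgroupOf, Subgroup.mem_centralizer_iff]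
      intro z hz
      rw [Set.mem_singleton_iff] at hz
      rw [hz]
      have hgQ : (g : G) ∈ Q := ⟨g, hg, rfl⟩
      exact ((Subgroup.mem_centralizer_iff.mp (Subgroup.mem_inf.mp hyr).2) (g : G) hgQ).symm
    rw [Subgroup.mem_centralizer_iff]
    intro g hg
    have hmem : (⟨g, hg⟩ : ↥E₁) ∈ (centralizer ({y} : Set G)).subgroupOf E₁ := by
      rw [hT]; exact Subgroup.mem_top _
    rw [Subgroup.mem_subgroupOf, Subgroup.mem_centralizer_iff] at hmem
    exact (hmem y (Set.mem_singleton y)).symm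
  · refine inf_le_inf_left _ (Subgroup.centralizer_le ?_)
    intro z hz
    rw [Set.mem_singleton_iff] at hz
    rw [hz]; exact he

/-! ### (L1) -/

/-- (L1): if `τ₂(M) ≠ ∅` then a subgroup `Y ≤ E` of order `s ∈ τ₃(M)` has no fixed point on `M_σ`. -/
theorem L1 (hG : Cfsg.IsMinSimpleOddOrder G) (h09 : H09 G) (h15 : H15 G)
    (h17e : Cfsg.Agent.Helper45.BG143.H17e G) {M E Y : Subgroup G} (hM : IsCoatom M)
    (hE : Cfsg.IsComplIn E (Cfsg.sigmaCore M) M) (hτ2 : (Cfsg.tau2 M).Nonempty) {s : ℕ}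
    (hs : s ∈ Cfsg.tau3 M) (hYE : Y ≤ E) (hY : Nat.card Y = s) :
    Cfsg.sigmaCore M ⊓ centralizer (Y : Set G) = ⊥ := by
  obtain ⟨r, hr⟩ := hτ2
  haveI hrF : Fact r.Prime := ⟨hr.1⟩
  haveI hsF : Fact s.Prime := ⟨hs.1⟩
  obtain ⟨A, hAE, hAel, hAcard⟩ := Cfsg.Agent.Helper45.BG143.exists_elemAb_in_compl hr hE
  have hEM : E ≤ M := hE.1
  have hEtop : E ≠ ⊤ := fun h => hM.1 (top_le_iff.mp (h ▸ hEM))
  have hEsolv : Group.IsSolvable ↥E := Cfsg.Agent.Helper34.BG.solvable_of_ne_top hG hEtop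
  obtain ⟨E₃, hE₃⟩ := Cfsg.Agent.Helper45.BG143.exists_hall (Cfsg.tau3 M) E hEsolv
  obtain ⟨hE₃c, -, hE₃n⟩ := (h15 M hM E hE).2.2 E₃ hE₃
  have hYp : IsPGroup s ↥Y := IsPGroup.of_card (n := 1) (by rw [hY, pow_one])
  have hYE₃ : Y ≤ E₃ :=
    le_of_isPGroup_of_not_dvd_relIndex hE₃n (hE₃.2.2 s hs.1 hs) hYE hYp
  -- `E` normalizes `Y`
  have hEY : E ≤ normalizer (Y : Set G) := by
    intro e he
    have hmap : Y.map (MulAut.conj e).toMonoidHom = Y := by
      haveI : Finite ↥E₃ := inferInstance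
      haveI : IsCyclic ↥E₃ := hE₃c
      apply Cfsg.Agent.Helper76.EqOrd.eq_of_card_eq_of_le_isCyclic E₃
      · rintro _ ⟨y, hy, rfl⟩
        exact (Subgroup.mem_normalizer_iff.mp (hE₃n he) y).mp (hYE₃ hy)
      · exact hYE₃
      · exact Subgroup.card_map_of_injective (MulAut.conj e).injective
    exact Subgroup.mem_normalizer_iff_map_conj_eq.mpr hmap
  -- a maximal subgroup `H ≥ N_G(Y)`
  have hY1 : Y ≠ ⊥ := by
    intro h
    rw [h, Subgroup.card_bot] at hY
    exact hs.1.one_lt.ne hY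
  have hYtop : Y ≠ ⊤ := fun h => hM.1 (top_le_iff.mp (h ▸ hYE.trans hEM))
  obtain ⟨H, hH, hNH⟩ := Cfsg.Agent.Helper34.BG.exists_coatom_ge
    (Cfsg.Agent.Helper34.BG.normalizer_ne_top hG hY1 hYtop)
  have hHM : H ≠ M := by
    intro h
    have := (h09 M hM s hs.2.1 Y hY (h ▸ hNH)).1.2
    exact this hs.2.2.2
  have hAH : A ≤ H := hAE.trans (hEY.trans hNH)
  have h1 := h17e M hM r hr A ⟨hAE.trans hEM, hAel, hAcard⟩ H hH hHM hAH
  rw [eq_bot_iff, ← h1]
  exact inf_le_inf_left _ ((Subgroup.centralizer_le_normalizer _).trans hNH)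

end Cfsg.Agent.Helper47.BG142
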