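import Mathlib
import Cfsg.Prelude.Def_Sporadic
import Cfsg.Prelude.Def_Sporadic_a
import Cfsg.Agent.Lib.Helper7.M11UDefs
import Cfsg.Agent.Lib.Helper37.M11Q4

/-!
# M11U lemma server (helper7, S0420), piece (L4a) `ti_cases` (helper47)

`D = R ⊓ R'` of order 3, `w` an involution inverting `R`: `|C(D)| ∈ {36, 72}`, `|N(D)| = 2 |C(D)|`,
`w ∈ N(D) \ C(D)`.  Adapted from helper37's piece (Q4) of the M11 server (`Lib/Helper37/M11Q4.lean`),
whose auxiliary lemmas are reused.
-/

set_option autoImplicit false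
set_option maxHeartbeats 400000

namespace Cfsg.Agent.Helper47.M11U

open Subgroup Cfsg.Agent.Helper7.M11U
open scoped Pointwise

variable {G : Type*} [Group G] [Finite G]

/-- (L4a) `D = R ⊓ R'` of order 3, `w` an involution inverting `R`. -/
theorem ti_cases (B : Base G)
    (hcard3 : ∀ R : Sylow 3 G, Nat.card (R : Subgroup G) = 9)
    (hcomm : ∀ R : Sylow 3 G, ∀ x ∈ (R : Subgroup G), ∀ y ∈ (R : Subgroup G), x * y = y * x)
    (R R' : Sylow 3 G) (hD : Nat.card ((R : Subgroup G) ⊓ (R' : Subgroup G) : Subgroup G) = 3)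
    (w : G) (hw : orderOf w = 2) (hwR : Inverts w (R : Subgroup G)) :
    (Nat.card (centralizer (((R : Subgroup G) ⊓ (R' : Subgroup G) : Subgroup G) : Set G)) = 36 ∨
      Nat.card (centralizer (((R : Subgroup G) ⊓ (R' : Subgroup G) : Subgroup G) : Set G)) = 72) ∧
    Nat.card (normalizer (((R : Subgroup G) ⊓ (R' : Subgroup G) : Subgroup G) : Set G)) =
      2 * Nat.card (centralizer (((R : Subgroup G) ⊓ (R' : Subgroup G) : Subgroup G) : Set G)) ∧
    w ∈ normalizer (((R : Subgroup G) ⊓ (R' : Subgroup G) : Subgroup G) : Set G) ∧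
    w ∉ centralizer (((R : Subgroup G) ⊓ (R' : Subgroup G) : Subgroup G) : Set G) := by
  haveI : Fact (Nat.Prime 3) := ⟨Nat.prime_three⟩
  have hc := B.card
  set D : Subgroup G := (R : Subgroup G) ⊓ (R' : Subgroup G) with hDdef
  have hP9 := hcard3 R
  have hQ9 := hcard3 R'
  have hPcomm := hcomm R
  have hQcomm := hcomm R'
  -- a generator `d` of `D`
  obtain ⟨d0, hd0⟩ := exists_prime_orderOf_dvd_card' (G := D) 3 (by rw [hD])
  have hd3 : orderOf (d0 : G) = 3 := by rw [Subgroup.orderOf_coe, hd0]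
  have hdD : (d0 : G) ∈ D := d0.2
  have hPC : (R : Subgroup G) ≤ centralizer (D : Set G) := by
    intro x hx
    rw [Subgroup.mem_centralizer_iff]
    intro y hy
    exact hPcomm y hy.1 x hx
  have hQC : (R' : Subgroup G) ≤ centralizer (D : Set G) := by
    intro x hx
    rw [Subgroup.mem_centralizer_iff]
    intro y hy
    exact hQcomm y hy.2 x hx
  have hC144 : Nat.card (centralizer (D : Set G)) ∣ 144 :=
    Cfsg.Agent.Helper37.M11.q4_card_dvd_144 hc B.h11 B.h5 (centralizer (D : Set G)) d0 hd3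
      (fun h hh => ((Subgroup.mem_centralizer_iff.1 hh) d0 hdD).symm)
  -- `w` normalises `D` but does not centralise `D`
  have hww : w * w = 1 := by
    have := pow_orderOf_eq_one w
    rwa [hw, pow_two] at this
  have hwinv : w⁻¹ = w := inv_eq_of_mul_eq_one_right hww
  have hnorm : ∀ H : Subgroup G, H ≤ (R : Subgroup G) → w ∈ normalizer (H : Set G) := by
    intro H hHP
    rw [Subgroup.mem_normalizer_iff]
    intro h
    constructor
    · intro hh
      rw [hwR h (hHP hh)]
      exact H.inv_mem hh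
    · intro hh
      have h1 := hwR _ (hHP hh)
      have h2 : w * (w * h * w⁻¹) * w⁻¹ = h := by
        rw [hwinv]
        calc w * (w * h * w) * w = (w * w) * h * (w * w) := by group
          _ = h := by rw [hww, one_mul, mul_one]
      rw [h2] at h1
      rw [h1]
      exact H.inv_mem hh
  have hwND : w ∈ normalizer (D : Set G) := hnorm D inf_le_left
  have hwC : w ∉ centralizer (D : Set G) := by
    intro hwc
    have h1 : (d0 : G) * w = w * d0 := (Subgroup.mem_centralizer_iff.1 hwc) d0 hdD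
    have h2 : w * (d0 : G) * w⁻¹ = (d0 : G)⁻¹ := hwR _ hdD.1
    have h3 : w * (d0 : G) * w⁻¹ = d0 := by rw [← h1]; group
    have h4 : (d0 : G) * d0 = 1 := by
      have : (d0 : G) = (d0 : G)⁻¹ := h3.symm.trans h2
      calc (d0 : G) * d0 = (d0 : G) * (d0 : G)⁻¹ := by rw [← this]
        _ = 1 := mul_inv_cancel _
    have h5 : orderOf (d0 : G) ∣ 2 := orderOf_dvd_of_pow_eq_one (by rw [pow_two]; exact h4)
    rw [hd3] at h5
    norm_num at h5
  have hCN : centralizer (D : Set G) ≤ normalizer (D : Set G) :=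
    Subgroup.centralizer_le_normalizer _
  -- `|N(D)| = 2 |C(D)|`
  obtain ⟨r, hr, hNr⟩ := Cfsg.Agent.Helper95.card_normalizer_eq_mul 3 Nat.prime_three D hD
  have hN2 : Nat.card (normalizer (D : Set G)) = 2 * Nat.card (centralizer (D : Set G)) := by
    have hr2 : r = 1 ∨ r = 2 := by
      have h2 : r ∣ 2 := hr
      have h3 := Nat.le_of_dvd (by norm_num) h2
      interval_cases r
      · simp at h2
      · left; rfl
      · right; rfl
    rcases hr2 with rfl | rfl
    · exfalso
      have h1 : centralizer (D : Set G) = normalizer (D : Set G) :=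
        Subgroup.eq_of_le_of_card_ge hCN (by rw [hNr, mul_one])
      exact hwC (h1 ▸ hwND)
    · rw [hNr, mul_comm]
  refine ⟨?_, hN2, hwND, hwC⟩
  -- `|C(D)|` divides 72 and is divisible by 9
  set c := Nat.card (centralizer (D : Set G)) with hcdef
  have hc72 : c ∣ 72 := by
    have h1 : 2 * c ∣ 7920 := by
      rw [← hN2, ← hc]
      exact Subgroup.card_subgroup_dvd_card _
    have h2 : 2 * c ∣ 2 * 144 := Nat.mul_dvd_mul_left 2 hC144
    have h3 : 2 * c ∣ Nat.gcd 7920 (2 * 144) := Nat.dvd_gcd h1 h2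
    have h4 : Nat.gcd 7920 (2 * 144) = 2 * 72 := by norm_num
    rw [h4] at h3
    exact Nat.dvd_of_mul_dvd_mul_left (by norm_num) h3
  have h9c : 9 ∣ c := hP9 ▸ Subgroup.card_dvd_of_le hPC
  -- Sylow 3-subgroups of `C(D)`
  let P' : Sylow 3 ↥(centralizer (D : Set G)) := R.subtype hPC
  let Q' : Sylow 3 ↥(centralizer (D : Set G)) := R'.subtype hQC
  have hPQ' : P' ≠ Q' := by
    intro h
    have h1 : R = R' := Sylow.subtype_injective h
    have h2 : D = (R : Subgroup G) := by rw [hDdef, ← h1, inf_idem]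
    rw [h2, hP9] at hD
    omega
  have hcardP' : Nat.card (P' : Subgroup ↥(centralizer (D : Set G))) = 9 := by
    show Nat.card ((R : Subgroup G).subgroupOf (centralizer (D : Set G))) = 9
    rw [Nat.card_congr (Subgroup.subgroupOfEquivOfLe hPC).toEquiv, hP9]
  have hidx : (P' : Subgroup ↥(centralizer (D : Set G))).index * 9 = c := by
    have := (P' : Subgroup ↥(centralizer (D : Set G))).card_mul_index
    rw [hcardP'] at this
    rw [hcdef, ← this, mul_comm]
  have hn1 : Nat.card (Sylow 3 ↥(centralizer (D : Set G))) ≡ 1 [MOD 3] := card_sylow_modEq_one 3 _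
  have hn2 : Nat.card (Sylow 3 ↥(centralizer (D : Set G))) ∣
      (P' : Subgroup ↥(centralizer (D : Set G))).index := P'.card_dvd_index
  have hn3 : 2 ≤ Nat.card (Sylow 3 ↥(centralizer (D : Set G))) := by
    haveI : Nontrivial (Sylow 3 ↥(centralizer (D : Set G))) := ⟨⟨P', Q', hPQ'⟩⟩
    exact Finite.one_lt_card
  -- the number of Sylow 3-subgroups is 4 and `c ∈ {36, 72}`
  have hcpos : 0 < c := Nat.card_pos
  obtain ⟨m, hm⟩ := h9c
  have hm8 : m ∣ 8 := by
    have : 9 * m ∣ 9 * 8 := by rw [← hm]; exact hc72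
    exact Nat.dvd_of_mul_dvd_mul_left (by norm_num) this
  have hmidx : (P' : Subgroup ↥(centralizer (D : Set G))).index = m := by
    have : (P' : Subgroup ↥(centralizer (D : Set G))).index * 9 = m * 9 := by
      rw [hidx, hm, mul_comm]
    exact Nat.eq_of_mul_eq_mul_right (by norm_num) this
  rw [hmidx] at hn2
  set n := Nat.card (Sylow 3 ↥(centralizer (D : Set G))) with hndef
  have hn8 : n ∣ 8 := hn2.trans hm8
  have hn4' : n = 4 :=
    Cfsg.Agent.Helper37.M11.q4_arith_n n hn8 (by simpa [Nat.ModEq] using hn1) hn3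
  have h4m : 4 ∣ m := hn4' ▸ hn2
  have hm48 : m = 4 ∨ m = 8 := Cfsg.Agent.Helper37.M11.q4_arith_m m hm8 h4m
  rcases hm48 with rfl | rfl
  · left
    rw [hm]
  · right
    rw [hm]

end Cfsg.Agent.Helper47.M11U
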