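import Mathlib
import Cfsg.Prelude.Def_Sporadic
import Cfsg.Prelude.Def_Sporadic_a
import Cfsg.Agent.Lib.Helper7.M11UDefs
import Cfsg.Agent.Lib.Helper37.M11Q4
import Cfsg.Agent.Lib.Helper50.M11Q6

/-!
# M11U lemma server (helper7, S0420), piece (L4c) `false_of_72'` (helper47)

`|C(D)| = 72` is impossible.  Variant of helper50's (Q6) `false_of_72` (`Lib/Helper50/M11Q6.lean`) with
`N(P)` replaced by `N := N(R) ⊓ N(D)`, shown to have order 36 by counting Sylow 3-subgroups of `C(D)` and a
Frattini argument.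
-/

set_option autoImplicit false
set_option maxHeartbeats 400000

namespace Cfsg.Agent.Helper47.M11U

open Subgroup Cfsg.Agent.Helper7.M11U
open scoped Pointwise

variable {G : Type*} [Group G] [Finite G]

/-- helper50's (Q6) with `N(P)` replaced by `N(P) ⊓ N(D)` of order 36. -/
theorem h47_l4c_core (h48 : ∀ t : G, orderOf t = 2 → Nat.card (centralizer ({t} : Set G)) = 48)
    (hsq : ∀ t : G, orderOf t = 2 → ∃ v : G, v ^ 2 = t)
    (P : Sylow 3 G) (hP9 : Nat.card (P : Subgroup G) = 9) (D : Subgroup G) (hD : Nat.card D = 3)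
    (hDP : D ≤ (P : Subgroup G))
    (hN : Nat.card (normalizer ((P : Subgroup G) : Set G) ⊓ normalizer (D : Set G) : Subgroup G) = 36)
    (hCP : ∀ g ∈ centralizer ((P : Subgroup G) : Set G), g ∈ (P : Subgroup G))
    (hPD : (P : Subgroup G) ≤ normalizer (D : Set G))
    (hCD : Nat.card (centralizer (D : Set G)) = 72)
    (hNDc : Nat.card (normalizer (D : Set G)) = 144) : False := by
  classical
  have hPN : (P : Subgroup G) ≤ normalizer ((P : Subgroup G) : Set G) := Subgroup.le_normalizer
  have hDN : D ≤ normalizer ((P : Subgroup G) : Set G) ⊓ normalizer (D : Set G) :=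
    le_inf (hDP.trans hPN) Subgroup.le_normalizer
  obtain ⟨K, hKN, hDK, hKnorm, h6⟩ :=
    Cfsg.Agent.Helper50.M11.h50q6_exists_K
      (normalizer ((P : Subgroup G) : Set G) ⊓ normalizer (D : Set G)) (normalizer (D : Set G)) D
      inf_le_right hDN le_rfl hNDc hN
  have hKNP : K ≤ normalizer ((P : Subgroup G) : Set G) := hKN.trans inf_le_left
  -- elements of `P` have 3-power order
  have hPord : ∀ p ∈ (P : Subgroup G), ∃ n, orderOf p = 3 ^ n := by
    intro p hp
    have h1 := Subgroup.orderOf_dvd_natCard _ hp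
    rw [hP9] at h1
    have h1' : orderOf p ∣ 3 ^ 2 := by
      rw [show (3 : ℕ) ^ 2 = 9 by norm_num]; exact h1
    obtain ⟨m, _, hm⟩ := (Nat.dvd_prime_pow Nat.prime_three).mp h1'
    exact ⟨m, hm⟩
  -- Step B: `P` is not contained in `K`
  have hPK : ¬ (P : Subgroup G) ≤ K := by
    intro hPK
    have hle : normalizer (D : Set G) ≤
        normalizer ((P : Subgroup G) : Set G) ⊓ normalizer (D : Set G) := by
      intro x hx
      refine ⟨?_, hx⟩
      apply Subgroup.mem_normalizer_fintype
      intro p hp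
      obtain ⟨n, hn⟩ := hPord p hp
      have h1 : x * p * x⁻¹ ∈ K := hKnorm x hx p (hPK hp)
      have h2 : orderOf (x * p * x⁻¹) = 3 ^ n := by
        rw [← hn, ← MulAut.conj_apply]; exact (MulAut.conj x).orderOf_eq p
      exact Cfsg.Agent.Helper50.M11.h50q6_mem_sylow P _ (hKNP h1) n h2
    have := Subgroup.card_le_of_le hle
    rw [hNDc, hN] at this
    omega
  -- Step C: `K ∩ P = D`
  have hKP : K ⊓ (P : Subgroup G) = D := by
    symm
    apply Subgroup.eq_of_le_of_card_ge (le_inf hDK hDP)
    rw [hD]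
    have h1 : Nat.card (K ⊓ (P : Subgroup G) : Subgroup G) ∣ 9 :=
      hP9 ▸ Subgroup.card_dvd_of_le inf_le_right
    have h2 : Nat.card (K ⊓ (P : Subgroup G) : Subgroup G) ≠ 9 := by
      intro h
      apply hPK
      have : K ⊓ (P : Subgroup G) = (P : Subgroup G) :=
        Subgroup.eq_of_le_of_card_ge inf_le_right (by rw [h, hP9])
      rw [← this]; exact inf_le_left
    have h1' : Nat.card (K ⊓ (P : Subgroup G) : Subgroup G) ∣ 3 ^ 2 := by
      rw [show (3 : ℕ) ^ 2 = 9 by norm_num]; exact h1
    obtain ⟨m, hm, hm'⟩ := (Nat.dvd_prime_pow Nat.prime_three).mp h1'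
    rw [hm'] at h2 ⊢
    interval_cases m
    · norm_num
    · norm_num
    · exact absurd rfl h2
  have hD3 : ∀ c ∈ D, c ^ 3 = 1 := by
    intro c hc
    have := Subgroup.orderOf_dvd_natCard D hc
    rw [hD] at this
    exact orderOf_dvd_iff_pow_eq_one.mp this
  -- Step D: no involution of `K` centralises `D`
  have hnoinv : ∀ k₀ ∈ K, k₀ ∈ centralizer (D : Set G) → orderOf k₀ ≠ 2 := by
    intro k₀ hk₀K hk₀C ho
    have hk₀2 : k₀ ^ 2 = 1 := by rw [← ho]; exact pow_orderOf_eq_one k₀
    have hk₀N : k₀ ∈ normalizer ((P : Subgroup G) : Set G) := hKNP hk₀K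
    have hcent : k₀ ∈ centralizer ((P : Subgroup G) : Set G) := by
      rw [Subgroup.mem_centralizer_iff]
      intro p hp
      have hpP : p ∈ (P : Subgroup G) := hp
      have h1 : k₀ * p * k₀⁻¹ ∈ (P : Subgroup G) :=
        (Subgroup.mem_normalizer_iff.mp hk₀N p).mp hpP
      have hcP : k₀ * p * k₀⁻¹ * p⁻¹ ∈ (P : Subgroup G) :=
        (P : Subgroup G).mul_mem h1 ((P : Subgroup G).inv_mem hpP)
      have hpX : p ∈ normalizer (D : Set G) := hPD hpP
      have h2 : p * k₀⁻¹ * p⁻¹ ∈ K := hKnorm p hpX k₀⁻¹ (K.inv_mem hk₀K)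
      have hcK : k₀ * p * k₀⁻¹ * p⁻¹ ∈ K := by
        have : k₀ * p * k₀⁻¹ * p⁻¹ = k₀ * (p * k₀⁻¹ * p⁻¹) := by group
        rw [this]; exact K.mul_mem hk₀K h2
      have hcD : k₀ * p * k₀⁻¹ * p⁻¹ ∈ D := by
        rw [← hKP]; exact Subgroup.mem_inf.mpr ⟨hcK, hcP⟩
      obtain ⟨c, hc⟩ : ∃ c, c = k₀ * p * k₀⁻¹ * p⁻¹ := ⟨_, rfl⟩
      rw [← hc] at hcD
      have hcomm : c * k₀ = k₀ * c := (Subgroup.mem_centralizer_iff.mp hk₀C) c hcD
      have e1 : k₀ * p * k₀⁻¹ = c * p := by rw [hc]; group
      have e2 : k₀ * (c * p) * k₀⁻¹ = c * (c * p) := by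
        calc k₀ * (c * p) * k₀⁻¹ = (k₀ * c) * (p * k₀⁻¹) := by group
          _ = (c * k₀) * (p * k₀⁻¹) := by rw [hcomm]
          _ = c * (k₀ * p * k₀⁻¹) := by group
          _ = c * (c * p) := by rw [e1]
      have e3 : k₀ * (k₀ * p * k₀⁻¹) * k₀⁻¹ = p := by
        have hkk : k₀ * k₀ = 1 := by rw [← sq]; exact hk₀2
        calc k₀ * (k₀ * p * k₀⁻¹) * k₀⁻¹ = (k₀ * k₀) * p * (k₀ * k₀)⁻¹ := by group
          _ = p := by rw [hkk]; group
      have e4 : c * c = 1 := by
        have h3 : c * (c * p) = p := by rw [← e2, ← e1, e3]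
        have h' : c * c * p = 1 * p := by rw [mul_assoc, h3, one_mul]
        exact mul_right_cancel h'
      have e5 : c = 1 := by
        have h3 := hD3 c hcD
        calc c = c ^ 3 * (c * c)⁻¹ := by group
          _ = 1 := by rw [h3, e4]; group
      rw [e5, one_mul] at e1
      calc p * k₀ = (k₀ * p * k₀⁻¹) * k₀ := by rw [e1]
        _ = k₀ * p := by group
    have hk₀P := hCP k₀ hcent
    have := Subgroup.orderOf_dvd_natCard _ hk₀P
    rw [ho, hP9] at this
    omega
  -- Step E: `K ∩ C(D) ≤ D`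
  have hK0D : K ⊓ centralizer (D : Set G) ≤ D := by
    have hodd : ¬ 2 ∣ Nat.card (K ⊓ centralizer (D : Set G) : Subgroup G) := by
      intro h2
      have : Fact (Nat.Prime 2) := ⟨Nat.prime_two⟩
      obtain ⟨g, hg⟩ := exists_prime_orderOf_dvd_card'
        (G := (K ⊓ centralizer (D : Set G) : Subgroup G)) 2 h2
      have hg' : orderOf (g : G) = 2 := by rw [Subgroup.orderOf_coe]; exact hg
      exact hnoinv g (Subgroup.mem_inf.mp g.2).1 (Subgroup.mem_inf.mp g.2).2 hg'
    have hdvd36 : Nat.card (K ⊓ centralizer (D : Set G) : Subgroup G) ∣ 36 :=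
      hN ▸ Subgroup.card_dvd_of_le (inf_le_left.trans hKN)
    have hdvd9 : Nat.card (K ⊓ centralizer (D : Set G) : Subgroup G) ∣ 9 := by
      have hcop : Nat.Coprime (Nat.card (K ⊓ centralizer (D : Set G) : Subgroup G)) (2 ^ 2) :=
        Nat.Coprime.pow_right 2 ((Nat.Prime.coprime_iff_not_dvd Nat.prime_two).mpr hodd).symm
      exact hcop.dvd_of_dvd_mul_right (by simpa using hdvd36)
    have hdvd9' : Nat.card (K ⊓ centralizer (D : Set G) : Subgroup G) ∣ 3 ^ 2 := by
      rw [show (3 : ℕ) ^ 2 = 9 by norm_num]; exact hdvd9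
    obtain ⟨m, hm, hm'⟩ := (Nat.dvd_prime_pow Nat.prime_three).mp hdvd9'
    have hp : IsPGroup 3 (K ⊓ centralizer (D : Set G) : Subgroup G) := IsPGroup.of_card hm'
    have hle : K ⊓ centralizer (D : Set G) ≤ (P : Subgroup G) :=
      Cfsg.Agent.Helper50.M11.h50q6_le_sylow P _ (inf_le_left.trans hKNP) hp
    calc K ⊓ centralizer (D : Set G) ≤ K ⊓ (P : Subgroup G) := le_inf inf_le_left hle
      _ = D := hKP
  -- `C(D)` has index 2 in `N(D)`
  have hCX : centralizer (D : Set G) ≤ normalizer (D : Set G) :=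
    Subgroup.centralizer_le_normalizer _
  have hidx : ((centralizer (D : Set G)).subgroupOf (normalizer (D : Set G))).index = 2 := by
    have h5 : Nat.card ((centralizer (D : Set G)).subgroupOf (normalizer (D : Set G))) *
        ((centralizer (D : Set G)).subgroupOf (normalizer (D : Set G))).index = 144 := by
      rw [Subgroup.card_mul_index, hNDc]
    have h6 : Nat.card ((centralizer (D : Set G)).subgroupOf (normalizer (D : Set G))) = 72 := by
      rw [← hCD]; exact Nat.card_congr (Subgroup.subgroupOfEquivOfLe hCX).toEquiv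
    rw [h6] at h5; omega
  have hrelX : (centralizer (D : Set G)).relIndex (normalizer (D : Set G)) = 2 := hidx
  -- Step F: `|K| = 6`
  have hK6 : Nat.card K = 6 := by
    have hKX : K ≤ normalizer (D : Set G) := hKN.trans inf_le_right
    have hrel : (centralizer (D : Set G)).relIndex K ≤ 2 := by
      have := Subgroup.relIndex_le_of_le_right (H := centralizer (D : Set G)) hKX
        (by rw [hrelX]; norm_num)
      rwa [hrelX] at this
    have hcard : Nat.card K = Nat.card (K ⊓ centralizer (D : Set G) : Subgroup G) *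
        (centralizer (D : Set G)).relIndex K := by
      have h1 : Nat.card ((centralizer (D : Set G)).subgroupOf K) *
          ((centralizer (D : Set G)).subgroupOf K).index = Nat.card K :=
        Subgroup.card_mul_index _
      have h2 : Nat.card ((centralizer (D : Set G)).subgroupOf K) =
          Nat.card (K ⊓ centralizer (D : Set G) : Subgroup G) := by
        rw [← Subgroup.inf_subgroupOf_left]
        exact Nat.card_congr (Subgroup.subgroupOfEquivOfLe inf_le_left).toEquiv
      rw [← h1, h2]; rfl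
    have h3 : Nat.card (K ⊓ centralizer (D : Set G) : Subgroup G) ≤ 3 := by
      rw [← hD]; exact Subgroup.card_le_of_le hK0D
    have h4 : Nat.card K ≤ 6 := by
      rw [hcard]
      calc _ ≤ 3 * 2 := Nat.mul_le_mul h3 hrel
        _ = 6 := by norm_num
    have h5 := Nat.le_of_dvd Nat.card_pos h6
    omega
  -- Step G: an involution `k` of `K`
  have : Fact (Nat.Prime 2) := ⟨Nat.prime_two⟩
  obtain ⟨k', hk'⟩ := exists_prime_orderOf_dvd_card' (G := K) 2 (by rw [hK6]; norm_num)
  have hk2 : orderOf (k' : G) = 2 := by rw [Subgroup.orderOf_coe]; exact hk'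
  obtain ⟨k, hk⟩ : ∃ k : G, k = (k' : G) := ⟨_, rfl⟩
  rw [← hk] at hk2
  have hkK : k ∈ K := by rw [hk]; exact k'.2
  -- Step H: `C(k) ≤ N(D)`
  have : Fintype G := Fintype.ofFinite G
  let KS : Finset G := Finset.univ.filter (· ∈ K)
  let DS : Finset G := Finset.univ.filter (· ∈ D)
  have hKS : KS.card = 6 := by rw [← hK6, Nat.card_eq_fintype_card, Fintype.card_subtype]
  have hDS : DS.card = 3 := by rw [← hD, Nat.card_eq_fintype_card, Fintype.card_subtype]
  have hsub : DS ⊆ KS := fun g hg =>
    Finset.mem_filter.mpr ⟨Finset.mem_univ _, hDK (Finset.mem_filter.mp hg).2⟩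
  have hT : (KS \ DS).card = 3 := by rw [Finset.card_sdiff_of_subset hsub, hKS, hDS]
  have hconj : ∀ x ∈ normalizer (D : Set G), x * k * x⁻¹ ∈ KS \ DS := by
    intro x hx
    rw [Finset.mem_sdiff]
    refine ⟨Finset.mem_filter.mpr ⟨Finset.mem_univ _, hKnorm x hx k hkK⟩, ?_⟩
    intro h
    have hmem : x * k * x⁻¹ ∈ D := (Finset.mem_filter.mp h).2
    have h1 := Subgroup.orderOf_dvd_natCard D hmem
    have h2 : orderOf (x * k * x⁻¹) = 2 := by
      rw [← hk2, ← MulAut.conj_apply]; exact (MulAut.conj x).orderOf_eq k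
    rw [h2, hD] at h1
    omega
  have hcount := Cfsg.Agent.Helper50.M11.h50q6_card_le (normalizer (D : Set G)) k (KS \ DS) hconj
  rw [hNDc, hT] at hcount
  have heq : (normalizer (D : Set G) ⊓ centralizer ({k} : Set G) : Subgroup G) =
      centralizer ({k} : Set G) := by
    apply Subgroup.eq_of_le_of_card_ge inf_le_right
    rw [h48 k hk2]
    exact Nat.le_of_mul_le_mul_left (by omega : 3 * 48 ≤ 3 * _) (by norm_num)
  have hCkX : centralizer ({k} : Set G) ≤ normalizer (D : Set G) := by
    rw [← heq]; exact inf_le_left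
  -- Step J: the square root of `k`
  obtain ⟨v, hv⟩ := hsq k hk2
  have hvC : v ∈ centralizer ({k} : Set G) := by
    rw [Subgroup.mem_centralizer_iff]
    intro h hh
    rw [Set.mem_singleton_iff] at hh
    rw [hh, ← hv]; group
  have hvX : v ∈ normalizer (D : Set G) := hCkX hvC
  have hkC : k ∈ centralizer (D : Set G) := by
    have h1 := Subgroup.sq_mem_of_index_two hidx ⟨v, hvX⟩
    rw [Subgroup.mem_subgroupOf] at h1
    simpa [hv] using h1
  exact hnoinv k hkK hkC hk2

/-- (L4c) `|C(D)| = 72` is impossible. -/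
theorem false_of_72' (B : Base G)
    (hcard3 : ∀ R : Sylow 3 G, Nat.card (R : Subgroup G) = 9)
    (hcomm : ∀ R : Sylow 3 G, ∀ x ∈ (R : Subgroup G), ∀ y ∈ (R : Subgroup G), x * y = y * x)
    (hcent : ∀ R : Sylow 3 G, ∀ g : G, g ∈ centralizer ((R : Subgroup G) : Set G) → g ∈ (R : Subgroup G))
    (R R' : Sylow 3 G) (hne : R ≠ R') (D : Subgroup G) (hD : Nat.card D = 3)
    (hDR : D ≤ (R : Subgroup G)) (hDR' : D ≤ (R' : Subgroup G))
    (hC : Nat.card (centralizer (D : Set G)) = 72) (hN : Nat.card (normalizer (D : Set G)) = 144) : False := by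
  haveI : Fact (Nat.Prime 3) := ⟨Nat.prime_three⟩
  have hP9 := hcard3 R
  have hPC : (R : Subgroup G) ≤ centralizer (D : Set G) := by
    intro x hx
    rw [Subgroup.mem_centralizer_iff]
    intro y hy
    exact hcomm R y (hDR hy) x hx
  have hQC : (R' : Subgroup G) ≤ centralizer (D : Set G) := by
    intro x hx
    rw [Subgroup.mem_centralizer_iff]
    intro y hy
    exact hcomm R' y (hDR' hy) x hx
  have hCN : centralizer (D : Set G) ≤ normalizer (D : Set G) :=
    Subgroup.centralizer_le_normalizer _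
  -- Sylow 3-subgroups of `C(D)`
  let P' : Sylow 3 ↥(centralizer (D : Set G)) := R.subtype hPC
  let Q' : Sylow 3 ↥(centralizer (D : Set G)) := R'.subtype hQC
  have hPQ' : P' ≠ Q' := fun h => hne (Sylow.subtype_injective h)
  have hcardP' : Nat.card (P' : Subgroup ↥(centralizer (D : Set G))) = 9 := by
    show Nat.card ((R : Subgroup G).subgroupOf (centralizer (D : Set G))) = 9
    rw [Nat.card_congr (Subgroup.subgroupOfEquivOfLe hPC).toEquiv, hP9]
  have hidx : (P' : Subgroup ↥(centralizer (D : Set G))).index = 8 := by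
    have := (P' : Subgroup ↥(centralizer (D : Set G))).card_mul_index
    rw [hcardP', hC] at this
    omega
  have hn1 : Nat.card (Sylow 3 ↥(centralizer (D : Set G))) ≡ 1 [MOD 3] := card_sylow_modEq_one 3 _
  have hn2 : Nat.card (Sylow 3 ↥(centralizer (D : Set G))) ∣
      (P' : Subgroup ↥(centralizer (D : Set G))).index := P'.card_dvd_index
  have hn3 : 2 ≤ Nat.card (Sylow 3 ↥(centralizer (D : Set G))) := by
    haveI : Nontrivial (Sylow 3 ↥(centralizer (D : Set G))) := ⟨⟨P', Q', hPQ'⟩⟩
    exact Finite.one_lt_card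
  have hn4 : Nat.card (Sylow 3 ↥(centralizer (D : Set G))) = (Subgroup.normalizer
      ((P' : Subgroup ↥(centralizer (D : Set G))) : Set ↥(centralizer (D : Set G)))).index :=
    P'.card_eq_index_normalizer
  rw [hidx] at hn2
  have hn4' : Nat.card (Sylow 3 ↥(centralizer (D : Set G))) = 4 :=
    Cfsg.Agent.Helper37.M11.q4_arith_n _ hn2 (by simpa [Nat.ModEq] using hn1) hn3
  -- `|N(R) ⊓ C(D)| = 18`
  have hL : Nat.card (normalizer ((R : Subgroup G) : Set G) ⊓ centralizer (D : Set G) :
      Subgroup G) = 18 := by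
    have h1 : (Subgroup.normalizer ((P' : Subgroup ↥(centralizer (D : Set G))) :
        Set ↥(centralizer (D : Set G)))) =
        (normalizer ((R : Subgroup G) : Set G)).subgroupOf (centralizer (D : Set G)) :=
      (Subgroup.subgroupOf_normalizer_eq hPC).symm
    have h2 := (Subgroup.normalizer ((P' : Subgroup ↥(centralizer (D : Set G))) :
      Set ↥(centralizer (D : Set G)))).card_mul_index
    rw [← hn4, hn4', hC] at h2
    have h3 : Nat.card (Subgroup.normalizer ((P' : Subgroup ↥(centralizer (D : Set G))) :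
        Set ↥(centralizer (D : Set G)))) = 18 := by omega
    rw [h1, ← Subgroup.inf_subgroupOf_right,
      Nat.card_congr (Subgroup.subgroupOfEquivOfLe inf_le_right).toEquiv] at h3
    exact h3
  -- Frattini: an element of `N(R) ⊓ N(D)` outside `C(D)`
  obtain ⟨y, hyN, hyC⟩ : ∃ y, y ∈ normalizer (D : Set G) ∧ y ∉ centralizer (D : Set G) := by
    by_contra hcon
    push Not at hcon
    have : normalizer (D : Set G) = centralizer (D : Set G) := le_antisymm hcon hCN
    rw [this, hC] at hN
    omega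
  have hnormal : ∀ h k, h ∈ centralizer (D : Set G) → k ∈ normalizer (D : Set G) →
      k * h * k⁻¹ ∈ centralizer (D : Set G) :=
    (Subgroup.normal_subgroupOf_iff hCN).mp
      (Subgroup.normal_subgroupOf_centralizer_normalizer (D : Set G))
  have hyR : ((y • R : Sylow 3 G) : Subgroup G) ≤ centralizer (D : Set G) := by
    intro g hg
    rw [Sylow.coe_subgroup_smul, Subgroup.mem_pointwise_smul_iff_inv_smul_mem] at hg
    have h1 : y * ((MulAut.conj y)⁻¹ • g) * y⁻¹ ∈ centralizer (D : Set G) :=
      hnormal _ y (hPC hg) hyN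
    have h2 : y * ((MulAut.conj y)⁻¹ • g) * y⁻¹ = g := by
      simp only [MulAut.smul_def, MulAut.conj_inv_apply]
      group
    rwa [h2] at h1
  obtain ⟨x, hx⟩ := MulAction.exists_smul_eq ↥(centralizer (D : Set G))
    ((y • R : Sylow 3 G).subtype hyR) P'
  have hx2 : ((x : G) * y) • R = R := by
    rw [Sylow.smul_subtype] at hx
    have := Sylow.subtype_injective hx
    rw [mul_smul]
    exact this
  have hgNR : (x : G) * y ∈ normalizer ((R : Subgroup G) : Set G) :=
    Sylow.smul_eq_iff_mem_normalizer.mp hx2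
  have hgND : (x : G) * y ∈ normalizer (D : Set G) :=
    (normalizer (D : Set G)).mul_mem (hCN x.2) hyN
  have hgC : (x : G) * y ∉ centralizer (D : Set G) := by
    intro h
    apply hyC
    have := (centralizer (D : Set G)).mul_mem ((centralizer (D : Set G)).inv_mem x.2) h
    simpa using this
  -- `|N(R) ⊓ N(D)| = 36`
  have hLK : (normalizer ((R : Subgroup G) : Set G) ⊓ centralizer (D : Set G) : Subgroup G) ≤
      normalizer ((R : Subgroup G) : Set G) ⊓ normalizer (D : Set G) := inf_le_inf_left _ hCN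
  have hK1 : 18 ∣ Nat.card (normalizer ((R : Subgroup G) : Set G) ⊓ normalizer (D : Set G) :
      Subgroup G) := hL ▸ Subgroup.card_dvd_of_le hLK
  have hK3 : Nat.card (normalizer ((R : Subgroup G) : Set G) ⊓ normalizer (D : Set G) :
      Subgroup G) ≠ 18 := by
    intro h
    have : (normalizer ((R : Subgroup G) : Set G) ⊓ centralizer (D : Set G) : Subgroup G) =
        normalizer ((R : Subgroup G) : Set G) ⊓ normalizer (D : Set G) :=
      Subgroup.eq_of_le_of_card_ge hLK (by rw [h, hL])
    have hwK : (x : G) * y ∈ normalizer ((R : Subgroup G) : Set G) ⊓ normalizer (D : Set G) :=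
      ⟨hgNR, hgND⟩
    rw [← this] at hwK
    exact hgC hwK.2
  have hidx2 : ((centralizer (D : Set G)).subgroupOf (normalizer (D : Set G))).index = 2 := by
    have h5 : Nat.card ((centralizer (D : Set G)).subgroupOf (normalizer (D : Set G))) *
        ((centralizer (D : Set G)).subgroupOf (normalizer (D : Set G))).index = 144 := by
      rw [Subgroup.card_mul_index, hN]
    have h6 : Nat.card ((centralizer (D : Set G)).subgroupOf (normalizer (D : Set G))) = 72 := by
      rw [← hC]; exact Nat.card_congr (Subgroup.subgroupOfEquivOfLe hCN).toEquiv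
    rw [h6] at h5; omega
  have hrelX : (centralizer (D : Set G)).relIndex (normalizer (D : Set G)) = 2 := hidx2
  have hK36 : Nat.card (normalizer ((R : Subgroup G) : Set G) ⊓ normalizer (D : Set G) :
      Subgroup G) = 36 := by
    set K := (normalizer ((R : Subgroup G) : Set G) ⊓ normalizer (D : Set G) : Subgroup G)
      with hKdef
    have hKX : K ≤ normalizer (D : Set G) := inf_le_right
    have hrel : (centralizer (D : Set G)).relIndex K ≤ 2 := by
      have := Subgroup.relIndex_le_of_le_right (H := centralizer (D : Set G)) hKX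
        (by rw [hrelX]; norm_num)
      rwa [hrelX] at this
    have hcard : Nat.card K = Nat.card (K ⊓ centralizer (D : Set G) : Subgroup G) *
        (centralizer (D : Set G)).relIndex K := by
      have h1 : Nat.card ((centralizer (D : Set G)).subgroupOf K) *
          ((centralizer (D : Set G)).subgroupOf K).index = Nat.card K :=
        Subgroup.card_mul_index _
      have h2 : Nat.card ((centralizer (D : Set G)).subgroupOf K) =
          Nat.card (K ⊓ centralizer (D : Set G) : Subgroup G) := by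
        rw [← Subgroup.inf_subgroupOf_left]
        exact Nat.card_congr (Subgroup.subgroupOfEquivOfLe inf_le_left).toEquiv
      rw [← h1, h2]; rfl
    have hKC : (K ⊓ centralizer (D : Set G) : Subgroup G) =
        normalizer ((R : Subgroup G) : Set G) ⊓ centralizer (D : Set G) := by
      rw [hKdef, inf_assoc, inf_eq_right.mpr hCN]
    rw [hKC, hL] at hcard
    obtain ⟨a, ha⟩ := hK1
    have hkpos : 0 < Nat.card K := Nat.card_pos
    have h18 : Nat.card K ≤ 18 * 2 := by
      rw [hcard]; exact Nat.mul_le_mul_left 18 hrel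
    have : a = 1 ∨ a = 2 := by omega
    rcases this with rfl | rfl
    · exact absurd ha hK3
    · omega
  exact h47_l4c_core B.h48 B.hsq R hP9 D hD hDR hK36 (hcent R) (hPC.trans hCN) hC hN

end Cfsg.Agent.Helper47.M11U
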