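import Mathlib
import Cfsg.Agent.Lib.Helper52.FLDefs
import Cfsg.Agent.Lib.Helper52.Coprime
import Cfsg.Agent.Lib.Helper9.WielandtBasic
import Cfsg.Agent.Lib.Helper97.FXDefs

/-!
# FL server (helper52, S3822): piece (COMM) `comm_eq`
-/

set_option autoImplicit false

namespace Cfsg.Agent.Helper47.FL

open Cfsg.Agent.Helper52.FL Cfsg.Agent.Helper97.FX

variable {G : Type*} [Group G] [Finite G]

omit [Finite G] in
/-- an element normalising `H` and `K` normalises `⁅H, K⁆` -/
theorem h47_normalizer_commutator {H K : Subgroup G} {a : G}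
    (hH : a ∈ Subgroup.normalizer (H : Set G)) (hK : a ∈ Subgroup.normalizer (K : Set G)) :
    a ∈ Subgroup.normalizer ((⁅H, K⁆ : Subgroup G) : Set G) := by
  rw [Subgroup.mem_normalizer_iff_map_conj_eq] at hH hK ⊢
  rw [Subgroup.map_commutator, hH, hK]

omit [Finite G] in
open scoped commutatorElement in
/-- `⁅V, Q⁆ ≤ V` when `Q` normalises `V` -/
theorem h47_commutator_le_left {V Q : Subgroup G} (hQV : Q ≤ Subgroup.normalizer (V : Set G)) :
    ⁅V, Q⁆ ≤ V := by
  rw [Subgroup.commutator_le]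
  intro v hv q hq
  have h1 : q * v⁻¹ * q⁻¹ ∈ V := (Subgroup.mem_normalizer_iff.mp (hQV hq) v⁻¹).mp (V.inv_mem hv)
  have : ⁅v, q⁆ = v * (q * v⁻¹ * q⁻¹) := by
    rw [commutatorElement_def]; group
  rw [this]
  exact V.mul_mem hv h1

section CTX
variable {A Q V : Subgroup G} {r s : ℕ} [Fact r.Prime] [Fact s.Prime]

/-- **(COMM) [M]** uses `Cfsg.Agent.Helper52.commutator_commutator_eq` (Lib/Helper52/Coprime.lean; check its namespace there). -/
theorem comm_eq (h : Ctx A Q V r s) : ⁅V, Q⁆ = V := by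
  by_contra hne
  have hQV : Q ≤ Subgroup.normalizer (V : Set G) := h.hQA.trans h.hAV
  have hle : ⁅V, Q⁆ ≤ V := h47_commutator_le_left hQV
  have hAW : A ≤ Subgroup.normalizer ((⁅V, Q⁆ : Subgroup G) : Set G) := fun a ha =>
    h47_normalizer_commutator (h.hAV ha) (h.hAQ ha)
  have hcen : ⁅V, Q⁆ ≤ Subgroup.centralizer (Q : Set G) := h.hmin _ hle hne hAW
  have hbot : ⁅⁅V, Q⁆, Q⁆ = ⊥ := Subgroup.commutator_eq_bot_iff_le_centralizer.mpr hcen
  have hcop : (Nat.card Q).Coprime (Nat.card V) :=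
    IsPGroup.coprime_card_of_ne s r (Ne.symm h.hrs) Q V h.hQ h.hV
  have hVn : Group.IsNilpotent ↥V := h.hV.isNilpotent
  have hVs : Group.IsSolvable ↥V := inferInstance
  have hcc := Cfsg.Agent.Helper52.commutator_commutator_eq V Q hQV hcop (Or.inr hVs)
  rw [hbot] at hcc
  exact h.hnc (Subgroup.commutator_eq_bot_iff_le_centralizer.mp hcc.symm)

end CTX

end Cfsg.Agent.Helper47.FL
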