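import Mathlib

set_option autoImplicit false

namespace Cfsg.Agent.Helper47

open Subgroup

/-- Averaging over cosets: if `a` is fixed by `P` (finite index `n`) and `g • a ≡ a` modulo `W`
for all `g`, there is a `G`-fixed `c` with `c ≡ a ^ n` modulo `W`. -/
theorem exists_fixed_of_transfer {G A : Type*} [Group G] [CommGroup A] (φ : G →* MulAut A)
    (P : Subgroup G) [P.FiniteIndex] (a : A) (hP : ∀ t ∈ P, φ t a = a) (W : Subgroup A)
    (hW : ∀ g, φ g a / a ∈ W) : ∃ c : A, (∀ g, φ g c = c) ∧ c / a ^ P.index ∈ W := by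
  classical
  have : Fintype (G ⧸ P) := Subgroup.fintypeQuotientOfFiniteIndex
  have key : ∀ g : G, φ (Quotient.out (QuotientGroup.mk g : G ⧸ P)) a = φ g a := by
    intro g
    obtain ⟨h, hh⟩ := QuotientGroup.mk_out_eq_mul P g
    rw [hh, map_mul, MulAut.mul_apply, hP h h.2]
  refine ⟨∏ q : G ⧸ P, φ q.out a, ?_, ?_⟩
  · intro g
    rw [map_prod]
    have h1 : ∀ q : G ⧸ P, φ g (φ q.out a) = φ ((g • q).out) a := by
      intro q
      rw [← MulAut.mul_apply, ← map_mul, ← key (g * q.out)]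
      have : (QuotientGroup.mk (g * q.out) : G ⧸ P) = g • q := by
        conv_rhs => rw [← QuotientGroup.out_eq' q]
        rfl
      rw [this]
    simp_rw [h1]
    exact Equiv.prod_comp (MulAction.toPerm g) (fun q : G ⧸ P => φ q.out a)
  · have h2 : (∏ q : G ⧸ P, φ q.out a) / a ^ P.index = ∏ q : G ⧸ P, (φ q.out a / a) := by
      rw [Finset.prod_div_distrib, Finset.prod_const, Finset.card_univ, Subgroup.index,
        Nat.card_eq_fintype_card]
    rw [h2]
    exact Subgroup.prod_mem _ (fun q _ => hW q.out)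

theorem mem_of_pow_mem_of_pow_eq_one {G : Type*} [Group G] {N : Subgroup G} {g : G} {n p : ℕ}
    (hn : Nat.Coprime n p) (h1 : g ^ p = 1) (h2 : g ^ n ∈ N) : g ∈ N := by
  have h3 : IsCoprime (n : ℤ) (p : ℤ) := Nat.isCoprime_iff_coprime.2 hn
  obtain ⟨a, b, hab⟩ := h3
  have : g = (g ^ n) ^ a * (g ^ p) ^ b := by
    rw [← zpow_natCast, ← zpow_natCast, ← zpow_mul, ← zpow_mul, ← zpow_add,
      mul_comm _ a, mul_comm _ b, hab, zpow_one]
  rw [this, h1, one_zpow, mul_one]
  exact N.zpow_mem h2 a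

end Cfsg.Agent.Helper47
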