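import Mathlib
import Cfsg.Prelude.Def_Transfer
import Cfsg.Agent.Lib.Helper24.CYCDefs
import Cfsg.Agent.Lib.Helper76.EqOrd1

/-!
# CYC lemma server (helper24, S4016), piece (C3) `normalizer_eq_of_max` (helper47)

`N_G(Q) = N_G(P)` for `1 ≠ Q ≤ P`: `N_G(P) ≤ N_G(Q)` (`Q` is the only subgroup of its order in the cyclic `P`);
`N_G(Q) ≠ ⊤` (simple; `Q = ⊤` would make `G` cyclic).
-/

set_option autoImplicit false

namespace Cfsg.Agent.Helper47.CYC

open Subgroup Cfsg.Agent.Helper24.CYC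

universe u

variable {G : Type u} [Group G] [Finite G] {p : ℕ} [Fact p.Prime]

/-- the normaliser of a cyclic subgroup normalises each of its subgroups -/
theorem h47_c3_normalizer_le (P Q : Subgroup G) (hcyc : IsCyclic P) (hQP : Q ≤ P) :
    nrm P ≤ nrm Q := by
  intro g hg
  apply Subgroup.mem_normalizer_fintype
  intro x hx
  have hmap : Q.map (MulAut.conj g).toMonoidHom ≤ P := by
    rintro y ⟨q, hq, rfl⟩
    exact (Subgroup.mem_normalizer_iff.mp hg q).mp (hQP hq)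
  have hcard : Nat.card (Q.map (MulAut.conj g).toMonoidHom) = Nat.card Q :=
    Subgroup.card_map_of_injective (MulAut.conj g).injective
  have heq : Q.map (MulAut.conj g).toMonoidHom = Q :=
    Cfsg.Agent.Helper76.EqOrd.eq_of_card_eq_of_le_isCyclic P _ _ hmap hQP hcard
  have : g * x * g⁻¹ ∈ Q.map (MulAut.conj g).toMonoidHom := ⟨x, hx, rfl⟩
  rw [heq] at this
  exact this

/-- (C3) `N_G(Q) = N_G(P)` for `1 ≠ Q ≤ P`. -/
theorem normalizer_eq_of_max (hM : Min p G) (P : Sylow p G)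
    (hmax : ∀ H : Subgroup G, NP P ≤ H → H ≠ ⊤ → H = NP P) (Q : Subgroup G) (hQP : Q ≤ P) (hQ : Q ≠ ⊥) :
    nrm Q = NP P := by
  apply hmax
  · exact h47_c3_normalizer_le (P : Subgroup G) Q (hM.cyc P) hQP
  · intro htop
    have hn : Q.Normal := Subgroup.normalizer_eq_top_iff.mp htop
    haveI := hM.simple
    rcases hn.eq_bot_or_eq_top with h | h
    · exact hQ h
    · -- `Q = ⊤`, so `P = ⊤` and `G` is abelian
      have hP : (P : Subgroup G) = ⊤ := top_le_iff.mp (h ▸ hQP)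
      obtain ⟨a, b, hab⟩ := hM.nonab
      have hcyc : IsCyclic (P : Subgroup G) := hM.cyc P
      obtain ⟨g, hg⟩ := hcyc.exists_generator
      have ha : a ∈ (P : Subgroup G) := hP ▸ Subgroup.mem_top a
      have hb : b ∈ (P : Subgroup G) := hP ▸ Subgroup.mem_top b
      obtain ⟨m, hm⟩ := Subgroup.mem_zpowers_iff.mp (hg ⟨a, ha⟩)
      obtain ⟨n, hn'⟩ := Subgroup.mem_zpowers_iff.mp (hg ⟨b, hb⟩)
      apply hab
      have hc : (⟨a, ha⟩ : (P : Subgroup G)) * ⟨b, hb⟩ = ⟨b, hb⟩ * ⟨a, ha⟩ := by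
        rw [← hm, ← hn', ← zpow_add, ← zpow_add, add_comm]
      exact congrArg Subtype.val hc

end Cfsg.Agent.Helper47.CYC
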