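import Mathlib
import Cfsg.Prelude.Def_Transfer
import Cfsg.Agent.Lib.Helper24.CYCDefs

/-!
# CYC lemma server (helper24, S4016), piece (C4) `ti_of_nq` (helper47)

TI: `⟨a⟩ ≤ P ⊓ Q` so `N_G(P) = N_G(⟨a⟩) = N_G(Q)`; `Q ≤ N_G(P)` is a `p`-subgroup, so `Q ≤ P`, `Q = P`.
-/

set_option autoImplicit false

namespace Cfsg.Agent.Helper47.CYC

open Subgroup Cfsg.Agent.Helper24.CYC

universe u

variable {G : Type u} [Group G] [Finite G] {p : ℕ} [Fact p.Prime]

/-- (C4) TI. -/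
theorem ti_of_nq (hnq : ∀ (P : Sylow p G) (Q : Subgroup G), Q ≤ P → Q ≠ ⊥ → nrm Q = NP P)
    (P Q : Sylow p G) (a : G) (haP : a ∈ P) (haQ : a ∈ Q) (ha : a ≠ 1) : P = Q := by
  have hZP : zpowers a ≤ (P : Subgroup G) := by rw [Subgroup.zpowers_le]; exact haP
  have hZQ : zpowers a ≤ (Q : Subgroup G) := by rw [Subgroup.zpowers_le]; exact haQ
  have hZ : zpowers a ≠ ⊥ := by
    intro h
    rw [Subgroup.zpowers_eq_bot] at h
    exact ha h
  have h1 : NP P = NP Q := (hnq P _ hZP hZ).symm.trans (hnq Q _ hZQ hZ)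
  have h2 : (Q : Subgroup G) ≤ NP P := by
    rw [h1]; exact Subgroup.le_normalizer
  have h3 : (Q : Subgroup G) ≤ (P : Subgroup G) := by
    have h := Q.isPGroup'.inf_normalizer_sylow P
    calc (Q : Subgroup G) = (Q : Subgroup G) ⊓ normalizer ((P : Subgroup G) : Set G) :=
          (inf_eq_left.mpr h2).symm
      _ = (Q : Subgroup G) ⊓ (P : Subgroup G) := h
      _ ≤ (P : Subgroup G) := inf_le_right
  exact Sylow.ext (Q.is_maximal' P.isPGroup' h3)

end Cfsg.Agent.Helper47.CYC
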