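import Mathlib
import Cfsg.Prelude.Def_Transfer
import Cfsg.Agent.Lib.Helper24.CYCDefs
import Cfsg.Agent.Lib.Helper76.EqOrd1

/-!
# CYC lemma server (helper24, S4016), piece (C5) `podd_of_nc` (helper47)

`p ≠ 2`: else `P ≠ 1` (cyclic) has exactly one involution `a`, so `x a x⁻¹ = a`, and `x ∈ C_G(P)` by `hfpf`.
-/

set_option autoImplicit false

namespace Cfsg.Agent.Helper47.CYC

open Subgroup Cfsg.Agent.Helper24.CYC

universe u

variable {G : Type u} [Group G] [Finite G] {p : ℕ} [Fact p.Prime]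

/-- (C5) `p ≠ 2`. -/
theorem podd_of_nc (hM : Min p G) (P : Sylow p G) (x : G) (hx : x ∈ NP P) (hxp : (orderOf x).Coprime p) (hxc : x ∉ CP P)
    (hfpf : ∀ a : G, a ∈ P → a ≠ 1 → x * a = a * x → x ∈ CP P) : p ≠ 2 := by
  classical
  intro hp2
  subst hp2
  -- an involution `a` of `P`
  have hdvd : 2 ∣ Nat.card (P : Subgroup G) := P.dvd_card_of_dvd_card hM.pdvd
  obtain ⟨a', ha'⟩ := exists_prime_orderOf_dvd_card' (G := (P : Subgroup G)) 2 hdvd
  obtain ⟨a, hadef⟩ : ∃ a : G, a = (a' : G) := ⟨_, rfl⟩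
  have haP : a ∈ (P : Subgroup G) := by rw [hadef]; exact a'.2
  have hao : orderOf a = 2 := by rw [hadef, Subgroup.orderOf_coe]; exact ha'
  have ha1 : a ≠ 1 := by
    intro h
    rw [h, orderOf_one] at hao
    omega
  -- `x a x⁻¹` is an involution of `P`
  have hbP : x * a * x⁻¹ ∈ (P : Subgroup G) := (Subgroup.mem_normalizer_iff.mp hx a).mp haP
  have hbo : orderOf (x * a * x⁻¹) = 2 := by
    rw [← hao, ← MulAut.conj_apply]
    exact (MulAut.conj x).orderOf_eq a
  -- `⟨a⟩ = ⟨x a x⁻¹⟩` in the cyclic group `P`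
  haveI : IsCyclic (P : Subgroup G) := hM.cyc P
  have hz : zpowers (x * a * x⁻¹) = zpowers a :=
    Cfsg.Agent.Helper76.EqOrd.eq_of_card_eq_of_le_isCyclic (P : Subgroup G) _ _
      (by rw [Subgroup.zpowers_le]; exact hbP) (by rw [Subgroup.zpowers_le]; exact haP)
      (by rw [Nat.card_zpowers, Nat.card_zpowers, hbo, hao])
  have hmem : x * a * x⁻¹ ∈ zpowers a := hz ▸ Subgroup.mem_zpowers _
  rw [(isOfFinOrder_of_finite a).mem_zpowers_iff_mem_range_orderOf, hao] at hmem
  simp only [Finset.mem_image, Finset.mem_range] at hmem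
  obtain ⟨k, hk, hk'⟩ := hmem
  have hk'' : a ^ k = x * a * x⁻¹ := hk'
  have hxa : x * a * x⁻¹ = a := by
    interval_cases k
    · exfalso
      rw [pow_zero] at hk''
      rw [← hk'', orderOf_one] at hbo
      omega
    · rw [← hk'', pow_one]
  apply hxc
  apply hfpf a haP ha1
  calc x * a = (x * a * x⁻¹) * x := by group
    _ = a * x := by rw [hxa]

end Cfsg.Agent.Helper47.CYC
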