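import Mathlib
import Cfsg.Prelude.Def_OddOrderLocal
import Cfsg.Agent.Lib.Helper73.BG161Ctx
import Cfsg.Agent.Lib.Helper22.Fitting
import Cfsg.Agent.Lib.Helper45.FittingHall

/-!
# B–G Lemma 16.1, piece (C1) of helper73's plan: `K ≤ F(H ∩ M*)`

`K_le_fitting` has the exact signature of `tools/bg161_sigs_helper73.lean.txt`.
-/

set_option autoImplicit false

namespace Cfsg.Agent.Helper47.BG161

open Subgroup Cfsg.Agent.Helper73.BG161

variable {G : Type*} [Group G] [Finite G]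

omit [Finite G] in
/-- a nilpotent subgroup `N ≤ J` normalized by `J` lies in `F(J)`. -/
theorem le_fittingOf_of_normal_nilpotent {J N : Subgroup G} (hNJ : N ≤ J)
    (hJN : J ≤ normalizer (N : Set G)) (hnil : Group.IsNilpotent ↥N) :
    N ≤ Cfsg.fittingOf J := by
  have hn : (N.subgroupOf J).Normal := Subgroup.normal_subgroupOf_of_le_normalizer hJN
  have hnil' : Group.IsNilpotent ↥(N.subgroupOf J) :=
    (Group.isNilpotent_congr (Subgroup.subgroupOfEquivOfLe hNJ)).mpr hnil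
  have h1 := Cfsg.Agent.Helper22.le_fittingSubgroup hn hnil'
  intro x hx
  exact ⟨⟨x, hNJ hx⟩, h1 (Subgroup.mem_subgroupOf.mpr hx), rfl⟩

omit [Finite G] in
/-- if `Ms` normalizes `X` then `H ∩ Ms` normalizes `H ∩ X`. -/
theorem inf_le_normalizer_inf {H Ms X : Subgroup G} (hX : Ms ≤ normalizer (X : Set G)) :
    H ⊓ Ms ≤ normalizer ((H ⊓ X : Subgroup G) : Set G) := by
  intro j hj
  rw [Subgroup.mem_normalizer_iff]
  intro h
  have h1 := (Subgroup.mem_normalizer_iff.mp (hX hj.2)) h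
  simp only [Subgroup.mem_inf]
  constructor
  · rintro ⟨hH, hXh⟩
    exact ⟨H.mul_mem (H.mul_mem hj.1 hH) (H.inv_mem hj.1), h1.mp hXh⟩
  · rintro ⟨hH, hXh⟩
    refine ⟨?_, h1.mpr hXh⟩
    have := H.mul_mem (H.mul_mem (H.inv_mem hj.1) hH) hj.1
    simpa [mul_assoc] using this

omit [Finite G] in
/-- a subgroup of a nilpotent subgroup is nilpotent. -/
theorem isNilpotent_of_le {N S : Subgroup G} (hNS : N ≤ S) (hS : Group.IsNilpotent ↥S) :
    Group.IsNilpotent ↥N :=
  (Group.isNilpotent_congr (Subgroup.subgroupOfEquivOfLe hNS)).mp inferInstance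

/-- a `q`-subgroup `K` of `S` lies in every `q`-subgroup `Q` normalized by `S` with
`q ∤ [S : S ∩ Q]`. -/
theorem le_of_isPGroup_of_not_dvd_relIndex {S Q K : Subgroup G} {q : ℕ} [Fact q.Prime]
    (hQ : IsPGroup q Q) (hSQ : S ≤ normalizer (Q : Set G)) (hidx : ¬ q ∣ Q.relIndex S)
    (hKS : K ≤ S) (hK : IsPGroup q K) : K ≤ Q := by
  have hn : (Q.subgroupOf S).Normal := Subgroup.normal_subgroupOf_of_le_normalizer hSQ
  have hQ' : IsPGroup q ↥(Q.subgroupOf S) := hQ.comap_subtype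
  let P : Sylow q ↥S := hQ'.toSylow hidx
  have hPn : (P : Subgroup ↥S).Normal := hn
  have hK' : IsPGroup q ↥(K.subgroupOf S) := hK.comap_subtype
  obtain ⟨P', hP'⟩ := hK'.exists_le_sylow
  have hun : Unique (Sylow q ↥S) := Sylow.unique_of_normal P hPn
  have hPP' : P' = P := Subsingleton.elim _ _
  intro k hk
  have h1 : (⟨k, hKS hk⟩ : ↥S) ∈ (P' : Subgroup ↥S) :=
    hP' (show (⟨k, hKS hk⟩ : ↥S) ∈ K.subgroupOf S from hk)
  rw [hPP'] at h1
  exact h1

/-- (C1) `K ≤ F(H ∩ M*)`. -/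
theorem K_le_fitting (f : Facts G) {M K U Mstar H : Subgroup G} (b : Base M K U Mstar H) :
    K ≤ Cfsg.fittingOf (H ⊓ Mstar) := by
  have hσle : Cfsg.sigmaCore Mstar ≤ Mstar := Subgroup.map_subtype_le _
  have hMsN : Mstar ≤ normalizer ((Cfsg.sigmaCore Mstar : Subgroup G) : Set G) := by
    have h1 := Subgroup.le_normalizer_map (H := Cfsg.piCore (Cfsg.sigma Mstar) ↥Mstar) Mstar.subtype
    rw [Subgroup.normalizer_eq_top, ← MonoidHom.range_eq_map, Subgroup.range_subtype] at h1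
    exact h1
  by_cases hF : Cfsg.fittingHallOf Mstar = Cfsg.sigmaCore Mstar
  · -- `M*_σ` nilpotent
    have hnil : Group.IsNilpotent ↥(Cfsg.sigmaCore Mstar) := by
      rw [← hF]
      have : Group.IsNilpotent ↥(Cfsg.fittingHall ↥Mstar) :=
        Cfsg.Agent.Helper45.FH.fittingHall_nilpotent
      exact Group.nilpotent_of_mulEquiv
        ((Cfsg.fittingHall ↥Mstar).equivMapOfInjective Mstar.subtype Mstar.subtype_injective)
    refine le_trans (le_inf b.hKH b.hKMs)
      (le_fittingOf_of_normal_nilpotent (N := H ⊓ Cfsg.sigmaCore Mstar)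
        (inf_le_inf_left _ hσle) (inf_le_normalizer_inf hMsN)
        (isNilpotent_of_le inf_le_right hnil))
  · -- `M*_F ≠ M*_σ`: B–G 15.2 (S1437) for `M*`
    obtain ⟨Ustar, hdec⟩ :=
      (f.t1352 Mstar b.hMstar _ (f.t1364 M b.hM K U b.hKU b.hK1).1 b.hKstH).1
    obtain ⟨-, -, -, hq, -, -, Q, hQF, hQn, hQp, hQidx, -⟩ :=
      f.t1437 Mstar b.hMstar _ Ustar hdec hF
    have hK' : K = Cfsg.sigmaCore Mstar ⊓
        centralizer (((Cfsg.sigmaCore M ⊓ centralizer (K : Set G) : Subgroup G)) : Set G) :=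
      b.hKst
    rw [← hK'] at hq hQp hQidx
    have : Fact (Nat.card ↥K).Prime := ⟨hq⟩
    have hKp : IsPGroup (Nat.card ↥K) ↥K := IsPGroup.of_card (n := 1) (pow_one _).symm
    have hKQ : K ≤ Q :=
      le_of_isPGroup_of_not_dvd_relIndex hQp (hσle.trans hQn) hQidx b.hKMs hKp
    have hQle : Q ≤ Mstar := hQF.trans (Subgroup.map_subtype_le _)
    refine le_trans (le_inf b.hKH hKQ)
      (le_fittingOf_of_normal_nilpotent (N := H ⊓ Q)
        (inf_le_inf_left _ hQle) (inf_le_normalizer_inf hQn)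
        (isNilpotent_of_le inf_le_right hQp.isNilpotent))

end Cfsg.Agent.Helper47.BG161
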