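import Mathlib
import Cfsg.Agent.Lib.Helper62.SLN0
import Cfsg.Agent.Lib.Helper78.CharOrtho

/-!
# SLN (R7) — helper47 for helper62's server (#7389, S2332)

`exists_irr_of_nontrivial`: a perfect finite group acting non-trivially has an irreducible
constituent of degree `≥ 2` (Maschke + one-dimensional representations of a perfect group are trivial).
-/

set_option autoImplicit false

namespace Cfsg.Agent.Helper47.SLN

open Matrix Module Cfsg.Agent.Helper93.U2 Cfsg.Agent.Helper62.SLN

universe uH uW

/-- a perfect group acts trivially on a line -/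
theorem h47_trivial_of_finrank_one {H : Type*} [Group H] (hH : commutator H = ⊤)
    {U : Type*} [AddCommGroup U] [Module ℂ U] (hU : finrank ℂ U = 1)
    (σ : Representation ℂ H U) (g : H) (x : U) : σ g x = x := by
  obtain ⟨v, _, hv⟩ := finrank_eq_one_iff'.mp hU
  have hcomm : ∀ f f' : Module.End ℂ U, f * f' = f' * f := by
    intro f f'
    obtain ⟨a, ha⟩ := hv (f v)
    obtain ⟨b, hb⟩ := hv (f' v)
    apply LinearMap.ext
    intro w
    obtain ⟨c, rfl⟩ := hv w
    simp only [Module.End.mul_apply, map_smul]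
    rw [← ha, ← hb, map_smul, map_smul, ← ha, ← hb]
    simp only [smul_smul]
    congr 1
    ring
  have hker : ∀ y ∈ commutator H, σ y = 1 := by
    intro y hy
    rw [commutator_eq_closure] at hy
    refine Subgroup.closure_induction (p := fun y _ => σ y = 1) ?_ ?_ ?_ ?_ hy
    · rintro z ⟨a, b, rfl⟩
      rw [commutatorElement_def, map_mul, map_mul, map_mul]
      calc σ a * σ b * σ a⁻¹ * σ b⁻¹ = σ a * (σ b * σ a⁻¹) * σ b⁻¹ := by rw [mul_assoc (σ a)]
        _ = σ a * (σ a⁻¹ * σ b) * σ b⁻¹ := by rw [hcomm (σ b)]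
        _ = (σ a * σ a⁻¹) * (σ b * σ b⁻¹) := by simp only [mul_assoc]
        _ = 1 := by rw [← map_mul, ← map_mul, mul_inv_cancel, mul_inv_cancel, map_one, mul_one]
    · exact map_one σ
    · intro a b _ _ ha hb
      rw [map_mul, ha, hb, mul_one]
    · intro a _ ha
      have h1 : σ a⁻¹ * σ a = 1 := by rw [← map_mul, inv_mul_cancel, map_one]
      rw [ha, mul_one] at h1
      exact h1
  have hg : σ g = 1 := hker g (by rw [hH]; exact Subgroup.mem_top g)
  rw [hg]
  rfl

theorem h47_main {H : Type uH} [Group H] [Fintype H] (hH : commutator H = ⊤) :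
    ∀ n : ℕ, ∀ (W : Type uW) [AddCommGroup W] [Module ℂ W] [FiniteDimensional ℂ W]
      (τ : Representation ℂ H W), finrank ℂ W = n → (∃ g w, τ g w ≠ w) →
      ∃ (k' : ℕ) (σ : Representation ℂ H (Fin k' → ℂ)), σ.IsIrreducible ∧ 2 ≤ k' ∧ k' ≤ n := by
  intro n
  induction n using Nat.strong_induction_on with
  | _ n ih =>
    intro W _ _ _ τ hn hnt
    obtain ⟨g, w, hgw⟩ := hnt
    have hW : Nontrivial W := ⟨⟨τ g w, w, hgw⟩⟩
    obtain ⟨υ, hυ⟩ := Cfsg.Agent.Helper78.exists_irreducible_subrep τ
    have hυnt : Nontrivial υ.toSubmodule := by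
      have := hυ.toNontrivial
      by_contra hcon
      rw [not_nontrivial_iff_subsingleton] at hcon
      obtain ⟨a, b, hab⟩ := this
      apply hab
      apply Subrepresentation.toSubmodule_injective
      exact Subsingleton.elim _ _
    have hυpos : 0 < finrank ℂ υ.toSubmodule := Module.finrank_pos
    have hυle : finrank ℂ υ.toSubmodule ≤ n := hn ▸ Submodule.finrank_le _
    by_cases hd : 2 ≤ finrank ℂ υ.toSubmodule
    · obtain ⟨ρ', ⟨φ⟩⟩ := Cfsg.Agent.Helper78.exists_equiv_fin υ.toRepresentation
      exact ⟨_, ρ', Cfsg.Agent.Helper78.isIrreducible_of_equiv φ, hd, hυle⟩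
    · have hd1 : finrank ℂ υ.toSubmodule = 1 := by omega
      have htriv : ∀ (g' : H) (x : W), x ∈ υ.toSubmodule → τ g' x = x := by
        intro g' x hx
        have h1 := h47_trivial_of_finrank_one hH hd1 υ.toRepresentation g' ⟨x, hx⟩
        exact congrArg Subtype.val h1
      have hNZ : NeZero (Nat.card H : ℂ) := ⟨Cfsg.Agent.Helper78.natCard_ne_zero_complex⟩
      have hss : Representation.IsSemisimpleRepresentation τ := inferInstance
      obtain ⟨υ', hc⟩ := exists_isCompl υ
      have hc' := Cfsg.Agent.Helper78.isCompl_toSubmodule hc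
      have hdim := Submodule.finrank_add_eq_of_isCompl hc'
      have hlt : finrank ℂ υ'.toSubmodule < n := by omega
      have hnt' : ∃ (g' : H) (x : υ'.toSubmodule), υ'.toRepresentation g' x ≠ x := by
        by_contra hcon
        have hcon : ∀ (g' : H) (x : υ'.toSubmodule), υ'.toRepresentation g' x = x := by
          intro g' x
          by_contra hne
          exact hcon ⟨g', x, hne⟩
        apply hgw
        have hw : w ∈ υ.toSubmodule ⊔ υ'.toSubmodule := by
          rw [hc'.sup_eq_top]; trivial
        obtain ⟨a, ha, b, hb, rfl⟩ := Submodule.mem_sup.mp hw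
        rw [map_add, htriv g a ha]
        have h2 := hcon g ⟨b, hb⟩
        have h3 : τ g b = b := congrArg Subtype.val h2
        rw [h3]
      obtain ⟨k', σ, hσ, hk2, hkle⟩ :=
        ih _ hlt υ'.toSubmodule υ'.toRepresentation rfl hnt'
      exact ⟨k', σ, hσ, hk2, by omega⟩

/-- piece R7 : a perfect finite group acting non-trivially has an irreducible constituent of degree `≥ 2` -/
theorem exists_irr_of_nontrivial {H : Type*} [Group H] [Fintype H] (hH : commutator H = ⊤)
    {W : Type*} [AddCommGroup W] [Module ℂ W] [FiniteDimensional ℂ W]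
    (τ : Representation ℂ H W) (h : ∃ g w, τ g w ≠ w) :
    ∃ (k' : ℕ) (σ : Representation ℂ H (Fin k' → ℂ)), σ.IsIrreducible ∧ 2 ≤ k' ∧
      k' ≤ finrank ℂ W :=
  h47_main hH _ W τ rfl h

end Cfsg.Agent.Helper47.SLN
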