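import Mathlib
import Cfsg.Agent.Lib.Helper30.BG144cDefs
import Cfsg.Agent.Lib.Helper30.BG144cCommon
import Cfsg.Agent.Lib.Helper25.BGHallConj
import Cfsg.Agent.Lib.Helper34.BG10a
import Cfsg.Agent.Lib.Helper55.BGHall

/-!
# B-G 14.4(c) (row S1376), piece (D2) of helper30's lemma server "BG144c" (helper47)

`sylow_le_sigmaCore_Nst`: for `s ∈ τ₂(M)` with the data `SetupD`, `s ∈ σ(N*)` and `S ≤ (N*)_σ`.
-/

set_option autoImplicit false
set_option linter.unusedVariables false

namespace Cfsg.Agent.Helper47.BG144c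

open Cfsg Subgroup
open Cfsg.Agent.Helper30.BG144c
open scoped Pointwise

universe u

variable {G : Type u} [Group G] [Finite G]

theorem sylow_le_sigmaCore_Nst (hG : IsMinSimpleOddOrder G) (r1350 : R1350 G) (r1367 : R1367 G)
    (r1432 : R1432 G)
    {M N Nst : Subgroup G} (hM : IsCoatom M) (hN : IsCoatom N) {x0 : G} {q p : ℕ}
    {K U : Subgroup G}
    (A : SetupA M N x0 q K U) (B : SetupB M N Nst x0 K U p)
    (hcomm : ∀ a ∈ M ⊓ Nst, ∀ b ∈ M ⊓ Nst, a * b = b * a)
    {s : ℕ} {A' S : Subgroup G} {a : G} (D : SetupD M Nst s A' S a) :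
    s ∈ sigma Nst ∧ S ≤ sigmaCore Nst := by
  have : Fact s.Prime := ⟨D.hs⟩
  obtain ⟨k, hk, hk1⟩ := B.exists_k
  have hkσ : k ∈ sigmaCore Nst := by
    have h := hk
    rw [B.hKst] at h
    exact h.1
  have haE : a ∈ M ⊓ Nst := D.hAE D.haA
  have hkE : k ∈ M ⊓ Nst := B.hKE hk
  have haNst : a ∈ Nst := haE.2
  have hac : a ∈ centralizer ({k} : Set G) := by
    rw [mem_centralizer_iff]
    intro y hy
    rw [Set.mem_singleton_iff] at hy
    subst hy
    exact hcomm y hkE a haE
  have hord : orderOf a = s := orderOf_eq_prime (D.hA.2 a D.haA) D.ha1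
  have hsσ : s ∈ sigma Nst := by
    by_contra hns
    have hσ : ∀ p' : ℕ, p'.Prime → p' ∣ orderOf a → p' ∉ sigma Nst := by
      intro p' hp' hd
      rw [hord] at hd
      rw [(Nat.prime_dvd_prime_iff_eq hp' D.hs).mp hd]
      exact hns
    rcases r1432 Nst B.hNst k hkσ hk1 a ⟨haNst, hac⟩ D.ha1 hσ with h1 | h2
    · -- `s ∈ κ(Nst)`: conjugate `a` into `Kst`
      have hsolv : Group.IsSolvable Nst :=
        Cfsg.Agent.Helper34.BG.solvable_of_ne_top hG B.hNst.1
      obtain ⟨m, hm, hmK⟩ := Cfsg.Agent.Helper25.BGHallConj.exists_conj_mem_of_isPiHallOf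
        B.hKstH hsolv a haNst (fun q' hq' hd => h1.1 q' hq' hd)
      have hXle : zpowers (m * a * m⁻¹) ≤ sigmaCore N ⊓ centralizer (K : Set G) :=
        (zpowers_le).mpr hmK
      have hXc : (Nat.card (zpowers (m * a * m⁻¹))).Prime := by
        rw [Nat.card_zpowers]
        have : orderOf (m * a * m⁻¹) = orderOf a := by
          have := (MulAut.conj m).orderOf_eq a
          rwa [MulAut.conj_apply] at this
        rw [this, hord]
        exact D.hs
      have h67 := (r1367 N hN K U A.hKU A.hK1 Nst B.hNst B.hKst B.hKstH).1 _ hXle hXc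
      have hle : centralizer ((zpowers (m * a * m⁻¹) : Subgroup G) : Set G) ≤ MulAut.conj m • M := by
        intro g hg
        rw [Cfsg.Agent.Helper33.mem_conj_smul]
        apply D.haM
        rw [mem_centralizer_iff]
        intro y hy
        rw [Set.mem_singleton_iff] at hy
        subst hy
        have h3 := (mem_centralizer_iff.mp hg) (m * y * m⁻¹) (mem_zpowers _)
        -- h3 : m * y * m⁻¹ * g = g * (m * y * m⁻¹)
        calc y * (m⁻¹ * g * m) = m⁻¹ * ((m * y * m⁻¹) * g) * m := by group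
          _ = m⁻¹ * (g * (m * y * m⁻¹)) * m := by rw [h3]
          _ = m⁻¹ * g * m * y := by group
      have heq : MulAut.conj m • M = N :=
        h67.2 _ (Cfsg.Agent.Helper34.BG.isCoatom_conj hM m) hle
      exact A.hnc m heq.symm
    · -- `C(a) ≤ Nst` uniquely: `Nst = M`
      have hNM : Nst = M := D.hauniq Nst B.hNst h2.2.2.1
      have hkσM : k ∈ sigmaCore M := by rw [← hNM]; exact hkσ
      exact hk1 (B.mem_E_sigmaCore hkE hkσM)
  refine ⟨hsσ, ?_⟩
  exact Cfsg.Agent.Helper55.BGB.le_sigmaCore_of_isPGroup D.hs (r1350 Nst B.hNst).1 hsσ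
    (D.hSE.trans inf_le_right) D.hSp

end Cfsg.Agent.Helper47.BG144c
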