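import Mathlib

set_option autoImplicit false

namespace Cfsg.Agent.Helper47

open Subgroup

section
variable {G : Type*} [Group G]

theorem le_frattini_of_forall_coatom {D : Subgroup G} (h : ∀ M : Subgroup G, IsCoatom M → D ≤ M) :
    D ≤ frattini G := by
  unfold frattini Order.radical
  exact le_iInf₂ (fun M hM => h M hM)

/-- If `A` is abelian normal and `A B = G`, then `A ∩ B` is normal. -/
theorem inf_normal_of_sup_eq_top {A B : Subgroup G} (hA : A.Normal)
    (hcomm : ∀ a ∈ A, ∀ b ∈ A, a * b = b * a) (hsup : A ⊔ B = ⊤) : (A ⊓ B).Normal := by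
  refine ⟨fun x hx g => ?_⟩
  have hg : g ∈ A ⊔ B := hsup ▸ mem_top g
  rw [← SetLike.mem_coe, normal_mul] at hg
  obtain ⟨n, hn, m, hm, rfl⟩ := Set.mem_mul.mp hg
  obtain ⟨hxN, hxM⟩ := hx
  have hyN : m * x * m⁻¹ ∈ A := hA.conj_mem x hxN m
  have hyM : m * x * m⁻¹ ∈ B := B.mul_mem (B.mul_mem hm hxM) (B.inv_mem hm)
  have e : n * m * x * (n * m)⁻¹ = n * (m * x * m⁻¹) * n⁻¹ := by group
  have e2 : n * (m * x * m⁻¹) * n⁻¹ = m * x * m⁻¹ := by
    rw [hcomm n hn _ hyN, mul_assoc, mul_inv_cancel, mul_one]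
  rw [e, e2]
  exact ⟨hyN, hyM⟩

/-- An abelian normal subgroup meeting the Frattini subgroup trivially is complemented. -/
theorem exists_complement_of_inf_frattini_eq_bot [Finite G] {A : Subgroup G} (hA : A.Normal)
    (hcomm : ∀ a ∈ A, ∀ b ∈ A, a * b = b * a) (hAΦ : A ⊓ frattini G = ⊥) :
    ∃ B : Subgroup G, A ⊓ B = ⊥ ∧ A ⊔ B = ⊤ := by
  obtain ⟨B, hB, hmin⟩ := wellFounded_lt.has_min {B : Subgroup G | A ⊔ B = ⊤} ⟨⊤, sup_top_eq A⟩
  have hB' : A ⊔ B = ⊤ := hB
  refine ⟨B, ?_, hB'⟩
  have hDn : (A ⊓ B).Normal := inf_normal_of_sup_eq_top hA hcomm hB'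
  have hDΦ : A ⊓ B ≤ frattini G := by
    apply le_frattini_of_forall_coatom
    intro M hM
    by_contra hDM
    have hsup : (A ⊓ B) ⊔ M = ⊤ := by
      have : M < (A ⊓ B) ⊔ M := by
        apply lt_of_le_of_ne le_sup_right
        intro h
        apply hDM
        rw [h]
        exact le_sup_left
      exact (hM.lt_iff).mp this
    have hBle : B ≤ (A ⊓ B) ⊔ (B ⊓ M) := by
      intro b hb
      have hb' : b ∈ (A ⊓ B) ⊔ M := hsup ▸ mem_top b
      rw [← SetLike.mem_coe, normal_mul] at hb'
      obtain ⟨d, hd, m, hm, rfl⟩ := Set.mem_mul.mp hb'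
      have hmB : m ∈ B := by
        have : m = d⁻¹ * (d * m) := by group
        rw [this]
        exact mul_mem (inv_mem hd.2) hb
      exact mul_mem (mem_sup_left hd) (mem_sup_right ⟨hmB, hm⟩)
    have h2 : A ⊔ (B ⊓ M) = ⊤ := by
      rw [eq_top_iff, ← hB']
      apply sup_le le_sup_left
      exact hBle.trans (sup_le (inf_le_left.trans le_sup_left) le_sup_right)
    have h3 : ¬ (B ⊓ M < B) := hmin (B ⊓ M) h2
    have h4 : B ⊓ M = B := by
      by_contra hne
      exact h3 (lt_of_le_of_ne inf_le_left hne)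
    exact hDM ((inf_le_right.trans (inf_eq_left.mp h4)))
  rw [eq_bot_iff, ← hAΦ]
  exact le_inf inf_le_left hDΦ

end

section
variable {G G' : Type*} [Group G] [Group G']

/-- The image of a coatom containing the kernel is a coatom. -/
theorem isCoatom_map_of_ker_le {φ : G →* G'} (hφ : Function.Surjective φ) {M : Subgroup G}
    (hM : IsCoatom M) (hk : φ.ker ≤ M) : IsCoatom (M.map φ) := by
  have hcm : (M.map φ).comap φ = M := comap_map_eq_self hk
  constructor
  · intro h
    apply hM.1
    rw [← hcm, h, comap_top]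
  · intro X hX
    have h1 : M < X.comap φ := by
      rw [← hcm]
      refine lt_of_le_of_ne (comap_mono hX.le) ?_
      intro h
      have := congrArg (map φ) h
      rw [map_comap_eq_self_of_surjective hφ, map_comap_eq_self_of_surjective hφ] at this
      exact hX.ne this
    have h2 := (hM.lt_iff).mp h1
    have := congrArg (map φ) h2
    rw [map_comap_eq_self_of_surjective hφ] at this
    rw [this, ← MonoidHom.range_eq_map, MonoidHom.range_eq_top.mpr hφ]

/-- If `ker φ ≤ Φ(G)` and `φ` is onto, then `Φ(G') ≤ φ(Φ(G))`. -/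
theorem frattini_le_map_of_ker_le {φ : G →* G'} (hφ : Function.Surjective φ)
    (hk : φ.ker ≤ frattini G) : frattini G' ≤ (frattini G).map φ := by
  intro y hy
  obtain ⟨x, rfl⟩ := hφ y
  refine ⟨x, ?_, rfl⟩
  apply le_frattini_of_forall_coatom (D := (frattini G').comap φ) _ hy
  intro M hM
  have hkM : φ.ker ≤ M := hk.trans (frattini_le_coatom hM)
  have h1 : frattini G' ≤ M.map φ := frattini_le_coatom (isCoatom_map_of_ker_le hφ hM hkM)
  have := comap_mono (f := φ) h1
  rwa [comap_map_eq_self hkM] at this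

/-- `Φ(N) ≤ Φ(G)` for a normal subgroup `N` of a finite group. -/
theorem frattini_map_subtype_le [Finite G] (N : Subgroup G) [hN : N.Normal] :
    (frattini ↥N).map N.subtype ≤ frattini G := by
  have hΦn : ((frattini ↥N).map N.subtype).Normal := inferInstance
  have hΦN : (frattini ↥N).map N.subtype ≤ N := map_subtype_le _
  apply le_frattini_of_forall_coatom
  intro M hM
  by_contra hDM
  have hsup : (frattini ↥N).map N.subtype ⊔ M = ⊤ := by
    have : M < (frattini ↥N).map N.subtype ⊔ M := by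
      apply lt_of_le_of_ne le_sup_right
      intro h
      apply hDM
      rw [h]
      exact le_sup_left
    exact (hM.lt_iff).mp this
  have h1 : M.subgroupOf N ⊔ frattini ↥N = ⊤ := by
    rw [eq_top_iff]
    intro x _
    have hx' : (x : G) ∈ (frattini ↥N).map N.subtype ⊔ M := hsup ▸ mem_top _
    rw [← SetLike.mem_coe, normal_mul] at hx'
    obtain ⟨d, hd, m, hm, hdm⟩ := Set.mem_mul.mp hx'
    obtain ⟨d', hd', rfl⟩ := hd
    have hmN : m ∈ N := by
      have : m = (N.subtype d')⁻¹ * (x : G) := by rw [← hdm]; group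
      rw [this]
      exact mul_mem (inv_mem d'.2) x.2
    have : x = d' * ⟨m, hmN⟩ := Subtype.ext hdm.symm
    rw [this]
    exact mul_mem (mem_sup_right hd') (mem_sup_left (show (⟨m, hmN⟩ : ↥N) ∈ M.subgroupOf N from hm))
  have h2 : M.subgroupOf N = ⊤ := frattini_nongenerating h1
  rw [subgroupOf_eq_top] at h2
  exact hDM (hΦN.trans h2)

end

end Cfsg.Agent.Helper47
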