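import Mathlib
import Cfsg.Agent.Lib.Helper31.G2Defs
import Cfsg.Agent.Lib.Helper12.SGRED

set_option autoImplicit false

/-!
# (RED2) Gross `p = 2` (S3795): reduction of (TOP) to the minimal faithful irreducible configuration
(piece of helper31's G2 server; adaptation of `Helper12.SG.sg_all`).
-/

namespace Cfsg.Agent.Helper47.G2

open Module Subgroup Cfsg.Agent.Helper31.SG Cfsg.Agent.Helper31.G2 Cfsg.Agent.Helper31
open Cfsg.Agent.Helper12.SG

universe u uG uK uV

/-- an eigenvector on an invariant subspace is an eigenvector -/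
theorem h47_eig_of_sub {K : Type*} [Field K] {V : Type*} [AddCommGroup V] [Module K V]
    {G : Type*} [Group G] (ρ : Representation K G V) (U : Submodule K V) (hU : HH.Inv ρ U)
    (x : G) (n : ℕ) (h : EigConcl (HH.subRep ρ U hU) x n) : EigConcl ρ x n := by
  intro ζ h1 h2
  obtain ⟨u, hu0, hu⟩ := h ζ h1 h2
  refine ⟨(u : V), fun h0 => hu0 (Subtype.ext h0), ?_⟩
  have := congrArg Subtype.val hu
  exact this

/-- an eigenvalue on a quotient by an invariant subspace is an eigenvalue -/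
theorem h47_eig_of_quot {K : Type*} [Field K] {V : Type*} [AddCommGroup V] [Module K V]
    [FiniteDimensional K V]
    {G : Type*} [Group G] (ρ : Representation K G V) (U : Submodule K V) (hU : HH.Inv ρ U)
    (x : G) (n : ℕ) (h : EigConcl (HH.quotRep ρ U hU) x n) : EigConcl ρ x n := by
  intro ζ h1 h2
  obtain ⟨w, hw0, hw⟩ := h ζ h1 h2
  by_contra hcon
  push Not at hcon
  -- `T = ρ x - ζ` is injective on `V`, hence surjective
  have hinj : Function.Injective (ρ x - ζ • (1 : End K V)) := by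
    rw [← LinearMap.ker_eq_bot, LinearMap.ker_eq_bot']
    intro v hv
    by_contra hv0
    apply hcon v hv0
    have : ρ x v - ζ • v = 0 := by
      simpa [LinearMap.sub_apply, LinearMap.smul_apply] using hv
    exact sub_eq_zero.mp this
  have hsurj : Function.Surjective (ρ x - ζ • (1 : End K V)) :=
    LinearMap.injective_iff_surjective.mp hinj
  -- the induced map on the quotient is surjective, hence injective
  have hsurjQ : Function.Surjective (HH.quotRep ρ U hU x - ζ • (1 : End K (V ⧸ U))) := by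
    intro w'
    obtain ⟨v', rfl⟩ := Submodule.Quotient.mk_surjective U w'
    obtain ⟨v, hv⟩ := hsurj v'
    refine ⟨Submodule.Quotient.mk v, ?_⟩
    rw [LinearMap.sub_apply, LinearMap.smul_apply, Module.End.one_apply, HH.quotRep_mk,
      ← Submodule.Quotient.mk_smul, ← Submodule.Quotient.mk_sub, ← hv]
    simp [LinearMap.sub_apply, LinearMap.smul_apply]
  have hinjQ : Function.Injective (HH.quotRep ρ U hU x - ζ • (1 : End K (V ⧸ U))) :=
    LinearMap.injective_iff_surjective.mpr hsurjQ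
  apply hw0
  apply hinjQ
  rw [map_zero, LinearMap.sub_apply, LinearMap.smul_apply, Module.End.one_apply, hw, sub_self]

/-- The faithful step. -/
theorem h47_top_faithful_step {K : Type uK} [Field K] [IsAlgClosed K] (q r : ℕ)
    [hq : Fact q.Prime] [hr : Fact r.Prime] (hrq : r ≠ q) [CharP K r]
    (FIN : TopFinal.{uG, uK, uV} K q)
    (N : ℕ) (ih : ∀ m < N, TopStmt.{uG, uK, uV} K q m)
    {V : Type uV} [AddCommGroup V] [Module K V] [FiniteDimensional K V]
    {G : Type uG} [Group G] [Finite G] (ρ : Representation K G V) (hfaith : Function.Injective ρ)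
    (Q : Subgroup G) (x : G) (n : ℕ) (hN : finrank K V + Nat.card Q ≤ N) (hn : 1 ≤ n)
    (hQ : IsPGroup q Q)
    (hQx : ∀ g ∈ Q, x * g * x⁻¹ ∈ Q) (hgen : Q ⊔ zpowers x = ⊤) (hx : orderOf x = 2 ^ (n + 1))
    (hNC : ∃ g ∈ Q, g * x ^ 2 ^ n ≠ x ^ 2 ^ n * g)
    (hfix : ∀ v : V, ρ x v = v → v = 0) (hfpf : FpfOn x Q) : EigConcl ρ x n := by
  have hxP : x ^ 2 ^ (n + 1) = 1 := by rw [← hx, pow_orderOf_eq_one]
  have hNCρ : ∃ g ∈ Q, ρ g * ρ (x ^ 2 ^ n) ≠ ρ (x ^ 2 ^ n) * ρ g := by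
    obtain ⟨g, hg, hgne⟩ := hNC
    refine ⟨g, hg, fun h => hgne (hfaith ?_)⟩
    rw [map_mul, map_mul]
    exact h
  have hQn : Q.Normal := by
    rw [← normalizer_eq_top_iff, eq_top_iff, ← hgen]
    exact sup_le le_normalizer
      (HH.zpowers_le_normalizer_of_conj_mem Q x (pow_pos Nat.two_pos (n + 1)) hxP hQx)
  have hnt : Nontrivial V := by
    by_contra hcon
    rw [not_nontrivial_iff_subsingleton] at hcon
    obtain ⟨g, hg, hgne⟩ := hNCρ
    apply hgne
    apply LinearMap.ext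
    intro v
    exact Subsingleton.elim _ _
  -- (S1)
  by_cases hS1 : ∃ Q₁ : Subgroup G, Q₁ ≤ Q ∧ Q₁ ≠ Q ∧ (∀ g ∈ Q₁, x * g * x⁻¹ ∈ Q₁) ∧
      ∃ g ∈ Q₁, g * x ^ 2 ^ n ≠ x ^ 2 ^ n * g
  · obtain ⟨Q₁, hle, hne, hinv, g, hg, hgne⟩ := hS1
    have hcard : Nat.card Q₁ < Nat.card Q := by
      by_contra hcon
      push Not at hcon
      exact hne (Subgroup.eq_of_le_of_card_ge hle hcon)
    have hgρ : ρ g * ρ (x ^ 2 ^ n) ≠ ρ (x ^ 2 ^ n) * ρ g := by
      intro h
      apply hgne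
      apply hfaith
      rw [map_mul, map_mul]
      exact h
    exact ih (finrank K V + Nat.card Q₁) (by omega) V G ρ Q₁ x n le_rfl hn (hQ.to_le hle) hinv hxP
      hfix (helper12_fpfOn_mono hle hfpf) ⟨g, hg, hgρ⟩
  -- (S2)
  by_cases hS2 : ∃ U : Submodule K V, HH.Inv ρ U ∧ U ≠ ⊥ ∧ U ≠ ⊤
  · obtain ⟨U, hU, hU0, hU1⟩ := hS2
    have hfU : finrank K U < finrank K V := Submodule.finrank_lt hU1
    have hfQ : finrank K (V ⧸ U) < finrank K V := by
      have h1 := Submodule.finrank_quotient_add_finrank U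
      have h2 : 0 < finrank K U := by
        rw [Module.finrank_pos_iff]
        exact (Submodule.nontrivial_iff_ne_bot).mpr hU0
      omega
    set y := x ^ 2 ^ n with hy
    have hfixU : ∀ u : U, HH.subRep ρ U hU x u = u → u = 0 := by
      intro u hu
      have h1 : ρ x (u : V) = (u : V) := congrArg Subtype.val hu
      exact Subtype.ext (hfix _ h1)
    have hfixQ : ∀ w : V ⧸ U, HH.quotRep ρ U hU x w = w → w = 0 := by
      intro w hw
      obtain ⟨v, rfl⟩ := Submodule.Quotient.mk_surjective U w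
      rw [HH.quotRep_mk, Submodule.Quotient.eq] at hw
      rw [Submodule.Quotient.mk_eq_zero]
      exact helper12_mem_of_sub_mem (ρ x) U (hU x) hfix v hw
    by_cases hsubNC : ∃ g ∈ Q, HH.subRep ρ U hU g * HH.subRep ρ U hU y ≠
        HH.subRep ρ U hU y * HH.subRep ρ U hU g
    · exact h47_eig_of_sub ρ U hU x n
        (ih (finrank K U + Nat.card Q) (by omega) U G (HH.subRep ρ U hU) Q x n le_rfl hn hQ hQx
          hxP hfixU hfpf hsubNC)
    by_cases hquotNC : ∃ g ∈ Q, HH.quotRep ρ U hU g * HH.quotRep ρ U hU y ≠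
        HH.quotRep ρ U hU y * HH.quotRep ρ U hU g
    · exact h47_eig_of_quot ρ U hU x n
        (ih (finrank K (V ⧸ U) + Nat.card Q) (by omega) (V ⧸ U) G (HH.quotRep ρ U hU) Q x n le_rfl
          hn hQ hQx hxP hfixQ hfpf hquotNC)
    push Not at hsubNC hquotNC
    exfalso
    obtain ⟨g, hg, hgne⟩ := hNCρ
    apply hgne
    apply HH.commute_of_sub_quot r q hrq ρ Q hQ y (HH.pow_conj_mem Q x hQx _) U hU g hg
    · intro u hu
      have := congrArg (fun f : End K U => ((f ⟨u, hu⟩ : U) : V)) (hsubNC g hg)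
      exact this
    · intro v
      have := congrArg (fun f : End K (V ⧸ U) => f (Submodule.Quotient.mk v)) (hquotNC g hg)
      simp only [Module.End.mul_apply, HH.quotRep_mk] at this
      exact (Submodule.Quotient.eq U).mp this
  -- (S3)
  have hminQ : ∀ Q₁ : Subgroup G, Q₁ ≤ Q → Q₁ ≠ Q → (∀ g ∈ Q₁, x * g * x⁻¹ ∈ Q₁) →
      ∀ g ∈ Q₁, g * x ^ 2 ^ n = x ^ 2 ^ n * g := by
    intro Q₁ h1 h2 h3 g hg
    by_contra hcon
    exact hS1 ⟨Q₁, h1, h2, h3, g, hg, hcon⟩
  have hirrG : ∀ U : Submodule K V, HH.Inv ρ U → U = ⊥ ∨ U = ⊤ := by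
    intro U hU
    by_contra hcon
    push Not at hcon
    exact hS2 ⟨U, hU, hcon.1, hcon.2⟩
  have hfixQ : ∀ g ∈ Q, x * g * x⁻¹ = g → g = 1 := by
    intro g hg hxg
    have h1 := hfpf ⊥ bot_le (fun a ha => by
      rw [Subgroup.mem_bot] at ha
      rw [ha, mul_one, mul_inv_cancel]
      exact Subgroup.mem_bot.mpr rfl) g hg (by
        rw [hxg, mul_inv_cancel]
        exact Subgroup.mem_bot.mpr rfl)
    exact Subgroup.mem_bot.mp h1
  exact FIN V G ρ hfaith Q hQ x n hn hgen hx hNC hminQ hirrG hfix hfixQ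

/-- (RED2) the reduction to the minimal faithful irreducible configuration. -/
theorem g2_top_red {K : Type uK} [Field K] [IsAlgClosed K] (q r : ℕ) [hq : Fact q.Prime]
    [hr : Fact r.Prime] (hrq : r ≠ q) [CharP K r] (FIN : TopFinal.{uG, uK, uV} K q) :
    ∀ N, TopStmt.{uG, uK, uV} K q N := by
  haveI : Fact (Nat.Prime 2) := ⟨Nat.prime_two⟩
  intro N
  induction N using Nat.strong_induction_on with
  | _ N ih =>
    intro V _ _ _ G _ _ ρ Q x n hN hn hQ hQx hx hfix hfpf hNC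
    set Γ : Subgroup G := Q ⊔ zpowers x with hΓ
    have hQΓ : Q ≤ Γ := le_sup_left
    have hxΓ : x ∈ Γ := (le_sup_right : zpowers x ≤ Γ) (mem_zpowers x)
    set φ : Γ →* End K V := ρ.comp Γ.subtype with hφ
    set Q' : Subgroup Γ := Q.subgroupOf Γ with hQ'
    set x' : Γ := ⟨x, hxΓ⟩ with hx'
    have hQ'p : IsPGroup q Q' := hQ.comap_subtype
    have hgen' : Q' ⊔ zpowers x' = ⊤ := HH.gen_subgroupOf Q x hxΓ
    have hx'P : x' ^ 2 ^ (n + 1) = 1 := by
      apply Subtype.ext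
      rw [Subgroup.coe_pow, Subgroup.coe_one]
      exact hx
    have hNC' : ∃ g ∈ Q', φ g * φ (x' ^ 2 ^ n) ≠ φ (x' ^ 2 ^ n) * φ g := by
      obtain ⟨g, hg, hgne⟩ := hNC
      refine ⟨⟨g, hQΓ hg⟩, by rw [hQ', mem_subgroupOf]; exact hg, ?_⟩
      exact hgne
    obtain ⟨h1, h2, h3, h4, h5, h6, h7, -⟩ :=
      HH.transfer_quot 2 q n φ Q' hQ'p x' hgen' hx'P hNC'
    have hcardQ' : Nat.card Q' = Nat.card Q := Nat.card_congr (subgroupOfEquivOfLe hQΓ).toEquiv
    have hQx' : ∀ g ∈ Q', x' * g * x'⁻¹ ∈ Q' := fun g hg =>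
      mem_subgroupOf.mpr (hQx _ (mem_subgroupOf.mp hg))
    have hQx'' : ∀ g ∈ Q'.map (QuotientGroup.mk' φ.ker),
        QuotientGroup.mk' φ.ker x' * g * (QuotientGroup.mk' φ.ker x')⁻¹ ∈
          Q'.map (QuotientGroup.mk' φ.ker) := by
      rintro _ ⟨g, hg, rfl⟩
      refine ⟨x' * g * x'⁻¹, hQx' g hg, by simp⟩
    have hfpf'' : FpfOn (QuotientGroup.mk' φ.ker x') (Q'.map (QuotientGroup.mk' φ.ker)) :=
      helper12_fpfOn_map (QuotientGroup.mk' φ.ker) x' Q' hQx'
        (helper12_fpfOn_subgroupOf Γ x hxΓ Q hfpf)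
    have hρx : HH.kerLiftM φ (QuotientGroup.mk' φ.ker x') = ρ x := h5
    have hfix'' : ∀ v : V, HH.kerLiftM φ (QuotientGroup.mk' φ.ker x') v = v → v = 0 := by
      rw [hρx]
      exact hfix
    have key := h47_top_faithful_step q r hrq FIN N ih (HH.kerLiftM φ) h1
      (Q'.map (QuotientGroup.mk' φ.ker)) (QuotientGroup.mk' φ.ker x') n (by omega) hn h2 hQx'' h3 h4
      h6 hfix'' hfpf''
    intro ζ hζ1 hζ2
    obtain ⟨v, hv0, hv⟩ := key ζ hζ1 hζ2
    exact ⟨v, hv0, by rw [← hρx]; exact hv⟩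

end Cfsg.Agent.Helper47.G2
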