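import Mathlib
import Cfsg.Agent.Lib.Helper31.G2Defs
import Cfsg.Agent.Lib.Helper12.SGRED

set_option autoImplicit false

/-!
# (TRED) Gross `p = 2` (S3795): reduction of the three-level statement to the minimal faithful
configuration (piece of helper31's G2 server).
-/

namespace Cfsg.Agent.Helper47.G2

open Module Subgroup Cfsg.Agent.Helper31.SG Cfsg.Agent.Helper31.G2 Cfsg.Agent.Helper31
open Cfsg.Agent.Helper12.SG

universe u uG uK uV

theorem h47_map_cm {G H : Type*} [Group G] [Group H] (f : G →* H) (t g : G) :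
    f (cm t g) = cm (f t) (f g) := by
  unfold cm
  rw [map_mul, map_mul, map_mul, map_inv, map_inv]

/-- `n = 0`: an involution without fixed vectors is `-1`, so `ρ (cm x g) = 1` -/
theorem h47_tt_zero {K : Type*} [Field K] {V : Type*} [AddCommGroup V] [Module K V]
    {G : Type*} [Group G] (ρ : Representation K G V) (x g : G) (hx : x ^ 2 = 1)
    (hfix : ∀ v : V, ρ x v = v → v = 0) : ρ (cm x g) = 1 := by
  have hxx : ∀ v : V, ρ x (ρ x v) = v := by
    intro v
    have : ρ x (ρ x v) = ρ (x ^ 2) v := by rw [pow_two, map_mul]; rfl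
    rw [this, hx, map_one]; rfl
  have hneg : ∀ v : V, ρ x v = -v := by
    intro v
    have h1 : ρ x (ρ x v + v) = ρ x v + v := by
      rw [map_add, hxx, add_comm]
    have h2 := hfix _ h1
    exact eq_neg_of_add_eq_zero_left h2
  have hcomm : ρ x * ρ g = ρ g * ρ x := by
    apply LinearMap.ext
    intro v
    rw [Module.End.mul_apply, Module.End.mul_apply, hneg, hneg, map_neg]
  unfold cm
  calc ρ (g⁻¹ * (x * g * x⁻¹)) = ρ g⁻¹ * (ρ x * ρ g) * ρ x⁻¹ := by
        simp only [map_mul, mul_assoc]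
    _ = ρ g⁻¹ * (ρ g * ρ x) * ρ x⁻¹ := by rw [hcomm]
    _ = ρ (g⁻¹ * g * x * x⁻¹) := by simp only [map_mul, mul_assoc]
    _ = 1 := by rw [inv_mul_cancel, one_mul, mul_inv_cancel, map_one]

/-- (TRED) reduction of the three-level statement to the minimal configuration. -/
theorem g2_tt_red {K : Type uK} [Field K] (q s : ℕ)
    (FIN : TTFinal.{uG, uK, uV} K q s) : ∀ N, TTStmt.{uG, uK, uV} K q s N := by
  intro N
  induction N using Nat.strong_induction_on with
  | _ N ih =>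
    intro V _ _ _ G _ _ ρ S Q x n hN hS hQ hQS hxS hxQ hx hfix hfS hfQ g₀ hg₀ a₀ ha₀
    rcases Nat.eq_zero_or_pos n with hn0 | hn
    · subst hn0
      have hx2 : x ^ 2 = 1 := by simpa using hx
      have h1 : ρ (cm (x ^ 2 ^ 0) g₀) = 1 := by
        rw [pow_zero, pow_one]
        exact h47_tt_zero ρ x g₀ hx2 hfix
      rw [h1, one_mul, mul_one]
    by_contra hcon
    -- pass to the faithful quotient
    set π : G →* G ⧸ (ρ : G →* End K V).ker := QuotientGroup.mk' (ρ : G →* End K V).ker with hπ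
    set ρ' : Representation K (G ⧸ (ρ : G →* End K V).ker) V := HH.kerLiftM (ρ : G →* End K V)
      with hρ'
    have hρπ : ∀ g : G, ρ' (π g) = ρ g := fun g => HH.kerLiftM_mk _ g
    have hinj : Function.Injective ρ' := HH.kerLiftM_injective _
    have hcardS : Nat.card (S.map π) ≤ Nat.card S :=
      Nat.le_of_dvd Nat.card_pos (Subgroup.card_map_dvd _ _)
    have hcardQ : Nat.card (Q.map π) ≤ Nat.card Q :=
      Nat.le_of_dvd Nat.card_pos (Subgroup.card_map_dvd _ _)
    have hS' : IsPGroup s (S.map π) := hS.map π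
    have hQ' : IsPGroup q (Q.map π) := hQ.map π
    have hQS' : ∀ g ∈ Q.map π, ∀ a ∈ S.map π, g * a * g⁻¹ ∈ S.map π := by
      rintro _ ⟨g, hg, rfl⟩ _ ⟨a, ha, rfl⟩
      exact ⟨g * a * g⁻¹, hQS g hg a ha, by simp⟩
    have hxS' : ∀ a ∈ S.map π, π x * a * (π x)⁻¹ ∈ S.map π := by
      rintro _ ⟨a, ha, rfl⟩
      exact ⟨x * a * x⁻¹, hxS a ha, by simp⟩
    have hxQ' : ∀ g ∈ Q.map π, π x * g * (π x)⁻¹ ∈ Q.map π := by
      rintro _ ⟨g, hg, rfl⟩
      exact ⟨x * g * x⁻¹, hxQ g hg, by simp⟩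
    have hx' : (π x) ^ 2 ^ (n + 1) = 1 := by rw [← map_pow, hx, map_one]
    have hfix' : ∀ v : V, ρ' (π x) v = v → v = 0 := by
      intro v hv
      rw [hρπ] at hv
      exact hfix v hv
    have hfS' : FpfOn (π x) (S.map π) := helper12_fpfOn_map π x S hxS hfS
    have hfQ' : FpfOn (π x) (Q.map π) := helper12_fpfOn_map π x Q hxQ hfQ
    -- from the representation back to the (faithful) group
    have hback : ∀ c a : G ⧸ (ρ : G →* End K V).ker, ρ' c * ρ' a = ρ' a * ρ' c → c * a = a * c := by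
      intro c a h
      apply hinj
      rw [map_mul, map_mul]
      exact h
    have hNC : ∃ g ∈ Q.map π, ∃ a ∈ S.map π,
        cm ((π x) ^ 2 ^ n) g * a ≠ a * cm ((π x) ^ 2 ^ n) g := by
      refine ⟨π g₀, ⟨g₀, hg₀, rfl⟩, π a₀, ⟨a₀, ha₀, rfl⟩, ?_⟩
      intro h
      apply hcon
      have h1 := congrArg ρ' h
      rw [map_mul, map_mul, ← map_pow, ← h47_map_cm, hρπ, hρπ] at h1
      exact h1
    have hminQ : ∀ Q₁ : Subgroup (G ⧸ (ρ : G →* End K V).ker), Q₁ ≤ Q.map π → Q₁ ≠ Q.map π →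
        (∀ g ∈ Q₁, π x * g * (π x)⁻¹ ∈ Q₁) →
        ∀ g ∈ Q₁, ∀ a ∈ S.map π, cm ((π x) ^ 2 ^ n) g * a = a * cm ((π x) ^ 2 ^ n) g := by
      intro Q₁ hle hne hinv g hg a ha
      have hcard : Nat.card Q₁ < Nat.card (Q.map π) := by
        by_contra hc
        push Not at hc
        exact hne (Subgroup.eq_of_le_of_card_ge hle hc)
      apply hback
      exact ih (Nat.card (S.map π) + Nat.card Q₁) (by omega) V _ ρ' (S.map π) Q₁ (π x) n le_rfl hS'
        (hQ'.to_le hle) (fun g hg => hQS' g (hle hg)) hxS' hinv hx' hfix' hfS'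
        (helper12_fpfOn_mono hle hfQ') g hg a ha
    have hminS : ∀ S₁ : Subgroup (G ⧸ (ρ : G →* End K V).ker), S₁ ≤ S.map π → S₁ ≠ S.map π →
        (∀ g ∈ Q.map π, ∀ a ∈ S₁, g * a * g⁻¹ ∈ S₁) → (∀ a ∈ S₁, π x * a * (π x)⁻¹ ∈ S₁) →
        ∀ g ∈ Q.map π, ∀ a ∈ S₁, cm ((π x) ^ 2 ^ n) g * a = a * cm ((π x) ^ 2 ^ n) g := by
      intro S₁ hle hne hQinv hxinv g hg a ha
      have hcard : Nat.card S₁ < Nat.card (S.map π) := by
        by_contra hc
        push Not at hc
        exact hne (Subgroup.eq_of_le_of_card_ge hle hc)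
      apply hback
      exact ih (Nat.card S₁ + Nat.card (Q.map π)) (by omega) V _ ρ' S₁ (Q.map π) (π x) n le_rfl
        (hS'.to_le hle) hQ' hQinv hxinv hxQ' hx' hfix' (helper12_fpfOn_mono hle hfS') hfQ' g hg a ha
    exact FIN V _ ρ' hinj (S.map π) (Q.map π) (π x) n hn hS' hQ' hQS' hxS' hxQ' hx' hfix' hfS' hfQ'
      hNC hminQ hminS

end Cfsg.Agent.Helper47.G2
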