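import Mathlib
import Cfsg.Agent.Lib.Helper31.H2Defs
import Cfsg.Agent.Lib.Helper48.CoprimeGen

/-!
# H2 (D1) `exists_noncentral` (helper31 lemma server "H2", row S3786)
-/

set_option autoImplicit false

namespace Cfsg.Agent.Helper47.H2

open Cfsg Cfsg.Agent.Helper31.H2 Cfsg.Agent.Helper31.HHB Cfsg.Agent.Helper48.Wreath

universe u

/-- if `b` commutes with `c` and `x` commutes with `c` then so does `b x b⁻¹`. -/
theorem h47_d1_conj_comm {H : Type*} [Group H] (b c x : H) (hbc : b * c = c * b)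
    (hxc : x * c = c * x) : b * x * b⁻¹ * c = c * (b * x * b⁻¹) := by
  have hbc' : b⁻¹ * c = c * b⁻¹ := by
    have : Commute b c := hbc
    exact this.inv_left.eq
  calc b * x * b⁻¹ * c = b * x * (b⁻¹ * c) := by group
    _ = b * x * (c * b⁻¹) := by rw [hbc']
    _ = b * (x * c) * b⁻¹ := by group
    _ = b * (c * x) * b⁻¹ := by rw [hxc]
    _ = (b * c) * x * b⁻¹ := by group
    _ = (c * b) * x * b⁻¹ := by rw [hbc]
    _ = c * (b * x * b⁻¹) := by group

theorem exists_noncentral {H : Type*} [Group H] [Finite H] {p : ℕ} [Fact p.Prime] (B R R₁ M : Subgroup H)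
    (hR : (Nat.card R).Coprime p) (hcfg : MinCfg B R R₁)
    (hfaith : ∀ b ∈ B, (∀ g ∈ R, b * g = g * b) → b = 1)
    (hMB : M ≤ B) (hMc : ∀ x ∈ M, ∀ y ∈ M, x * y = y * x) (hMp : ∀ x ∈ M, x ^ p = 1)
    (hMcard : Nat.card M = p ^ 2) (hMR₁ : ∀ m ∈ M, ∀ g ∈ R₁, m * g = g * m) :
    ∃ m ∈ M, ∃ b ∈ B, b * m ≠ m * b := by
  by_contra hcon
  push Not at hcon
  -- `M` normalises `R`
  have hMR : M ≤ Subgroup.normalizer (R : Set H) := by
    intro m hm
    rw [Subgroup.mem_normalizer_iff]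
    intro x
    constructor
    · intro hx
      exact hcfg.invR m (hMB hm) x hx
    · intro hx
      have := hcfg.invR m⁻¹ (B.inv_mem (hMB hm)) _ hx
      have e : m⁻¹ * (m * x * m⁻¹) * m⁻¹⁻¹ = x := by group
      rwa [e] at this
  have hK : ∀ c ∈ M, c ≠ 1 → R ⊓ Subgroup.centralizer ({c} : Set H) ≤ R₁ := by
    intro c hc hc1
    set C : Subgroup H := R ⊓ Subgroup.centralizer ({c} : Set H) with hC
    have hCinv : ∀ b ∈ B, ∀ x ∈ C, b * x * b⁻¹ ∈ C := by
      intro b hb x hx
      refine ⟨hcfg.invR b hb x hx.1, ?_⟩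
      show b * x * b⁻¹ ∈ Subgroup.centralizer {c}
      rw [Subgroup.mem_centralizer_singleton_iff]
      exact h47_d1_conj_comm b c x (hcon c hc b hb)
        (Subgroup.mem_centralizer_singleton_iff.mp hx.2)
    have hR₁C : R₁ ≤ C := by
      intro x hx
      refine ⟨hcfg.le hx, ?_⟩
      show x ∈ Subgroup.centralizer {c}
      rw [Subgroup.mem_centralizer_singleton_iff]
      exact (hMR₁ c hc x hx).symm
    rcases hcfg.max C hR₁C inf_le_left hCinv with hM | hM
    · exact hM.le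
    · exfalso
      apply hc1
      apply hfaith c (hMB hc)
      intro x hx
      have : x ∈ C := hM ▸ hx
      exact (Subgroup.mem_centralizer_singleton_iff.mp this.2).symm
  have hle : R ≤ R₁ :=
    Cfsg.Agent.Helper48.le_of_forall_inf_centralizer_le (p := p) M R R₁ hMc hMp hMcard.ge hMR hR hK
  exact hcfg.ne (le_antisymm hcfg.le hle)

end Cfsg.Agent.Helper47.H2
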