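import Mathlib
import Cfsg.Agent.Lib.Helper31.H2Defs

/-!
# H2 (E1) `cent_c_le` (helper31 lemma server "H2", row S3786)
-/

set_option autoImplicit false

namespace Cfsg.Agent.Helper47.H2

open Cfsg Cfsg.Agent.Helper31.H2 Cfsg.Agent.Helper31.HHB Cfsg.Agent.Helper48.Wreath

universe u

/-- conjugation by `b` maps `M₁ ⊔ M₂` into itself when it does so for `M₁` and `M₂`. -/
theorem h47_e1_sup_inv {H : Type*} [Group H] (b : H) (M₁ M₂ : Subgroup H)
    (h₁ : ∀ g ∈ M₁, b * g * b⁻¹ ∈ M₁) (h₂ : ∀ g ∈ M₂, b * g * b⁻¹ ∈ M₂) :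
    ∀ g ∈ M₁ ⊔ M₂, b * g * b⁻¹ ∈ M₁ ⊔ M₂ := by
  intro g hg
  have hmap : (M₁ ⊔ M₂).map (MulAut.conj b).toMonoidHom ≤ M₁ ⊔ M₂ := by
    rw [Subgroup.map_sup]
    apply sup_le_sup
    · rintro _ ⟨x, hx, rfl⟩
      exact h₁ x hx
    · rintro _ ⟨x, hx, rfl⟩
      exact h₂ x hx
  exact hmap ⟨g, hg, rfl⟩

theorem cent_c_le {H : Type*} [Group H] [Finite H] {p : ℕ} [Fact p.Prime] (B R R₁ : Subgroup H) (a c : H)
    (h : DecHyp p B R R₁ a c) : ∀ g ∈ R, c * g = g * c → g ∈ R₁ := by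
  intro g hgR hgc
  set C : Subgroup H := R ⊓ Subgroup.centralizer {c} with hC
  have hCinv : ∀ b ∈ B, ∀ x ∈ C, b * x * b⁻¹ ∈ C := by
    intro b hb x hx
    refine ⟨h.cfg.invR b hb x hx.1, ?_⟩
    show b * x * b⁻¹ ∈ Subgroup.centralizer {c}
    rw [Subgroup.mem_centralizer_singleton_iff]
    have hxc : x * c = c * x := Subgroup.mem_centralizer_singleton_iff.mp hx.2
    have hbc : b * c = c * b := h.c_central b hb
    have hbc' : b⁻¹ * c = c * b⁻¹ := by
      have : Commute b c := hbc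
      exact this.inv_left.eq
    calc b * x * b⁻¹ * c = b * x * (b⁻¹ * c) := by group
      _ = b * x * (c * b⁻¹) := by rw [hbc']
      _ = b * (x * c) * b⁻¹ := by group
      _ = b * (c * x) * b⁻¹ := by rw [hxc]
      _ = (b * c) * x * b⁻¹ := by group
      _ = (c * b) * x * b⁻¹ := by rw [hbc]
      _ = c * (b * x * b⁻¹) := by group
  have hMinv : ∀ b ∈ B, ∀ x ∈ C ⊔ R₁, b * x * b⁻¹ ∈ C ⊔ R₁ := fun b hb =>
    h47_e1_sup_inv b C R₁ (hCinv b hb) (h.cfg.invR₁ b hb)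
  have hMle : C ⊔ R₁ ≤ R := sup_le inf_le_left h.cfg.le
  have hMcent : C ⊔ R₁ ≤ Subgroup.centralizer {c} := by
    apply sup_le inf_le_right
    intro x hx
    rw [Subgroup.mem_centralizer_singleton_iff]
    exact (h.cR₁ x hx).symm
  rcases h.cfg.max (C ⊔ R₁) le_sup_right hMle hMinv with hM | hM
  · rw [← hM]
    apply le_sup_left (a := C)
    refine ⟨hgR, ?_⟩
    show g ∈ Subgroup.centralizer {c}
    rw [Subgroup.mem_centralizer_singleton_iff]
    exact hgc.symm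
  · exfalso
    apply h.c_ne
    apply h.faith c h.c_mem
    intro x hx
    have : x ∈ Subgroup.centralizer {c} := hMcent (hM ▸ hx)
    exact (Subgroup.mem_centralizer_singleton_iff.mp this).symm

end Cfsg.Agent.Helper47.H2
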