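import Mathlib
import Cfsg.Agent.Lib.Helper31.H2Defs

/-!
# H2 (E4) `Rj_perm` (helper31 lemma server "H2", row S3786)
-/

set_option autoImplicit false

namespace Cfsg.Agent.Helper47.H2

open Cfsg Cfsg.Agent.Helper31.H2 Cfsg.Agent.Helper31.HHB Cfsg.Agent.Helper48.Wreath

universe u

theorem Rj_perm {H : Type*} [Group H] [Finite H] {p : ℕ} [Fact p.Prime] (B R R₁ : Subgroup H) (a c : H)
    (h : DecHyp p B R R₁ a c) : ∀ b ∈ B, ∀ t : ZMod p, b * a * b⁻¹ = a * c ^ t.val →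
      ∀ j : ZMod p, ∀ g ∈ Rj R a c j, b * g * b⁻¹ ∈ Rj R a c (j + t) := by
  intro b hb t hbt j g hg
  have hgR : g ∈ R := hg.1
  have hgc : g * (a * c ^ j.val) = a * c ^ j.val * g :=
    Subgroup.mem_centralizer_singleton_iff.mp hg.2
  refine ⟨h.cfg.invR b hb g hgR, ?_⟩
  show b * g * b⁻¹ ∈ Subgroup.centralizer {a * c ^ (j + t).val}
  rw [Subgroup.mem_centralizer_singleton_iff]
  -- `b` commutes with powers of `c`
  have hbc : ∀ n : ℕ, b * c ^ n * b⁻¹ = c ^ n := by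
    intro n
    have h1 : Commute b c := h.c_central b hb
    have h2 : Commute b (c ^ n) := h1.pow_right n
    rw [h2.eq, mul_inv_cancel_right]
  -- the conjugate of `a c^j`
  have hconj : b * (a * c ^ j.val) * b⁻¹ = a * c ^ (j + t).val := by
    have e1 : b * (a * c ^ j.val) * b⁻¹ = (b * a * b⁻¹) * (b * c ^ j.val * b⁻¹) := by group
    rw [e1, hbt, hbc, mul_assoc, ← pow_add, ZMod.val_add, ← pow_eq_pow_mod _ h.cp, add_comm]
  rw [← hconj]
  have e2 : b * g * b⁻¹ * (b * (a * c ^ j.val) * b⁻¹) = b * (g * (a * c ^ j.val)) * b⁻¹ := by group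
  have e3 : b * (a * c ^ j.val) * b⁻¹ * (b * g * b⁻¹) = b * ((a * c ^ j.val) * g) * b⁻¹ := by group
  rw [e2, e3, hgc]

end Cfsg.Agent.Helper47.H2
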