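import Mathlib
import Cfsg.Agent.Lib.Helper32.C3Defs

/-!
# C3 server (helper32, S4415): piece (D1) `fix_com_decomp`

Coprime decomposition `V = C_V(X) ⊕ [V,X]` for a finite `3'`-group `X` acting on a `ZMod 3`-module.
-/

set_option autoImplicit false

namespace Cfsg.Agent.Helper47.C3

open Cfsg.Agent.Helper32.C3

universe u v

section aux

variable {G : Type u} [Group G] {V : Type v} [AddCommGroup V] [Module (ZMod 3) V]

/-- the sum `Σ_{x ∈ X} ρ x v` -/
noncomputable def h47_avg (ρ : Representation (ZMod 3) G V) (X : Subgroup G) [Fintype X] (v : V) : V :=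
  ∑ x : X, ρ (x : G) v

theorem h47_avg_add (ρ : Representation (ZMod 3) G V) (X : Subgroup G) [Fintype X] (v w : V) :
    h47_avg ρ X (v + w) = h47_avg ρ X v + h47_avg ρ X w := by
  simp [h47_avg, Finset.sum_add_distrib]

theorem h47_avg_smul (ρ : Representation (ZMod 3) G V) (X : Subgroup G) [Fintype X] (c : ZMod 3)
    (v : V) : h47_avg ρ X (c • v) = c • h47_avg ρ X v := by
  simp [h47_avg, Finset.smul_sum]

theorem h47_avg_zero (ρ : Representation (ZMod 3) G V) (X : Subgroup G) [Fintype X] :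
    h47_avg ρ X 0 = 0 := by
  simp [h47_avg]

theorem h47_avg_sub (ρ : Representation (ZMod 3) G V) (X : Subgroup G) [Fintype X] (v w : V) :
    h47_avg ρ X (v - w) = h47_avg ρ X v - h47_avg ρ X w := by
  simp [h47_avg, Finset.sum_sub_distrib]

/-- `ρ h (Σ ρ x v) = Σ ρ x v` for `h ∈ X` -/
theorem h47_avg_fixed (ρ : Representation (ZMod 3) G V) (X : Subgroup G) [Fintype X] (v : V)
    {h : G} (hh : h ∈ X) : ρ h (h47_avg ρ X v) = h47_avg ρ X v := by
  unfold h47_avg
  rw [map_sum]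
  refine Fintype.sum_equiv (Equiv.mulLeft (⟨h, hh⟩ : X)) _ _ ?_
  intro x
  simp [map_mul]

/-- `Σ ρ x (ρ h v) = Σ ρ x v` for `h ∈ X` -/
theorem h47_avg_comp (ρ : Representation (ZMod 3) G V) (X : Subgroup G) [Fintype X] (v : V)
    {h : G} (hh : h ∈ X) : h47_avg ρ X (ρ h v) = h47_avg ρ X v := by
  unfold h47_avg
  refine Fintype.sum_equiv (Equiv.mulRight (⟨h, hh⟩ : X)) _ _ ?_
  intro x
  simp [map_mul]

theorem h47_avg_mem_fixS (ρ : Representation (ZMod 3) G V) (X : Subgroup G) [Fintype X] (v : V) :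
    h47_avg ρ X v ∈ fixS ρ X := fun _ hh => h47_avg_fixed ρ X v hh

theorem h47_avg_of_mem_fixS (ρ : Representation (ZMod 3) G V) (X : Subgroup G) [Fintype X] {v : V}
    (hv : v ∈ fixS ρ X) : h47_avg ρ X v = (Nat.card X) • v := by
  unfold h47_avg
  rw [Finset.sum_congr rfl (fun (x : X) _ => hv (x : G) x.2), Finset.sum_const, Finset.card_univ,
    Nat.card_eq_fintype_card]

theorem h47_avg_of_mem_comS (ρ : Representation (ZMod 3) G V) (X : Subgroup G) [Fintype X] {w : V}
    (hw : w ∈ comS ρ X) : h47_avg ρ X w = 0 := by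
  unfold comS at hw
  induction hw using Submodule.span_induction with
  | mem w hw =>
    obtain ⟨h, hh, v, rfl⟩ := hw
    rw [h47_avg_sub, h47_avg_comp ρ X v hh, sub_self]
  | zero => exact h47_avg_zero ρ X
  | add a c _ _ ha hc => rw [h47_avg_add, ha, hc, add_zero]
  | smul c a _ ha => rw [h47_avg_smul, ha, smul_zero]

theorem h47_card_smul_sub_avg_mem (ρ : Representation (ZMod 3) G V) (X : Subgroup G) [Fintype X]
    (v : V) : (Nat.card X) • v - h47_avg ρ X v ∈ comS ρ X := by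
  have h1 : (Nat.card X) • v - h47_avg ρ X v = ∑ x : X, -(ρ (x : G) v - v) := by
    unfold h47_avg
    rw [Finset.sum_neg_distrib, Finset.sum_sub_distrib, Finset.sum_const, Finset.card_univ,
      Nat.card_eq_fintype_card]
    abel
  rw [h1]
  exact Submodule.sum_mem _ (fun x _ => Submodule.neg_mem _ (sub_mem_comS ρ X x.2 v))

end aux

/-- **D1.** Coprime decomposition `V = C_V(X) ⊕ [V,X]` for a finite `3'`-group `X`: with
`e = |X|⁻¹ Σ_x ρ x` one has `e v ∈ fixS`, `v - e v = |X|⁻¹ Σ (v - ρ x v) ∈ comS`, `e = 1` on `fixS`,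
`e = 0` on `comS` (as `e (ρ x v - v) = 0`). -/
theorem fix_com_decomp {G : Type u} [Group G] {V : Type v} [AddCommGroup V] [Module (ZMod 3) V]
    (ρ : Representation (ZMod 3) G V) (X : Subgroup G) [Finite X]
    (hX : (Nat.card X).Coprime 3) :
    fixS ρ X ⊓ comS ρ X = ⊥ ∧ fixS ρ X ⊔ comS ρ X = ⊤ := by
  classical
  let _ : Fintype X := Fintype.ofFinite X
  have hn0 : ((Nat.card X : ℕ) : ZMod 3) ≠ 0 := by
    intro h0
    rw [ZMod.natCast_eq_zero_iff] at h0
    exact (Nat.Prime.coprime_iff_not_dvd Nat.prime_three).mp hX.symm h0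
  set c : ZMod 3 := ((Nat.card X : ℕ) : ZMod 3)⁻¹ with hc
  have hcn : c * ((Nat.card X : ℕ) : ZMod 3) = 1 := inv_mul_cancel₀ hn0
  have hnsmul : ∀ v : V, c • ((Nat.card X) • v) = v := by
    intro v
    rw [← Nat.cast_smul_eq_nsmul (ZMod 3), smul_smul, hcn, one_smul]
  constructor
  · rw [eq_bot_iff]
    intro v hv
    have h1 := h47_avg_of_mem_fixS ρ X hv.1
    have h2 := h47_avg_of_mem_comS ρ X hv.2
    rw [Submodule.mem_bot]
    rw [← hnsmul v, ← h1, h2, smul_zero]
  · rw [eq_top_iff]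
    intro v _
    have h1 : v = c • h47_avg ρ X v + c • ((Nat.card X) • v - h47_avg ρ X v) := by
      rw [← smul_add, add_sub_cancel, hnsmul]
    rw [h1]
    exact Submodule.add_mem_sup (Submodule.smul_mem _ _ (h47_avg_mem_fixS ρ X v))
      (Submodule.smul_mem _ _ (h47_card_smul_sub_avg_mem ρ X v))

end Cfsg.Agent.Helper47.C3
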