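import Mathlib
import Cfsg.Agent.Lib.Helper32.C3Defs

/-!
# C3 server (helper32, S4415): piece (D2) `inv_fix_com`
-/

set_option autoImplicit false

namespace Cfsg.Agent.Helper47.C3

open Cfsg.Agent.Helper32.C3

universe u v

/-- **D2.** `C_V(X)` and `[V,X]` are invariant under the normaliser of `X`:
`x (g v) = g (g⁻¹ x g) v`; `g (ρ x v - v) = ρ (g x g⁻¹) (g v) - g v`. -/
theorem inv_fix_com {G : Type u} [Group G] {V : Type v} [AddCommGroup V] [Module (ZMod 3) V]
    (ρ : Representation (ZMod 3) G V) (X : Subgroup G) (g : G)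
    (hg : g ∈ Subgroup.normalizer (X : Set G)) :
    (∀ v ∈ fixS ρ X, ρ g v ∈ fixS ρ X) ∧ (∀ v ∈ comS ρ X, ρ g v ∈ comS ρ X) := by
  constructor
  · intro v hv x hx
    have hx' : g⁻¹ * x * g ∈ X := by
      rw [Subgroup.mem_normalizer_iff.mp hg]
      simpa [mul_assoc] using hx
    have h1 : ρ x (ρ g v) = ρ g (ρ (g⁻¹ * x * g) v) := by
      rw [← Module.End.mul_apply, ← Module.End.mul_apply, ← map_mul, ← map_mul]
      congr 2
      group
    rw [h1, hv _ hx']
  · intro w hw
    unfold comS at hw ⊢
    induction hw using Submodule.span_induction with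
    | mem w hw =>
      obtain ⟨h, hh, v, rfl⟩ := hw
      have hh' : g * h * g⁻¹ ∈ X := (Subgroup.mem_normalizer_iff.mp hg h).mp hh
      have h1 : ρ g (ρ h v - v) = ρ (g * h * g⁻¹) (ρ g v) - ρ g v := by
        rw [map_sub]
        congr 1
        rw [← Module.End.mul_apply, ← Module.End.mul_apply, ← map_mul, ← map_mul]
        congr 2
        group
      rw [h1]
      exact Submodule.subset_span ⟨_, hh', _, rfl⟩
    | zero => rw [map_zero]; exact Submodule.zero_mem _
    | add a c _ _ ha hc => rw [map_add]; exact Submodule.add_mem _ ha hc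
    | smul c a _ ha => rw [map_smul]; exact Submodule.smul_mem _ _ ha

end Cfsg.Agent.Helper47.C3
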