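import Mathlib
import Cfsg.Agent.Lib.Helper32.C3Defs
import Cfsg.Agent.Lib.Helper47.C3D1

/-!
# C3 server (helper32, S4415): piece (D3) `comS_idem`
-/

set_option autoImplicit false

namespace Cfsg.Agent.Helper47.C3

open Cfsg.Agent.Helper32.C3

universe u v

/-- **D3.** `[V,X,X] = [V,X]` for a finite `3'`-group `X`: write `u = c + m` with `c ∈ fixS`,
`m ∈ comS` (D1); then `ρ x u - u = ρ x m - m`. -/
theorem comS_idem {G : Type u} [Group G] {V : Type v} [AddCommGroup V] [Module (ZMod 3) V]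
    (ρ : Representation (ZMod 3) G V) (X : Subgroup G) [Finite X]
    (hX : (Nat.card X).Coprime 3) :
    Submodule.span (ZMod 3) {w | ∃ x ∈ X, ∃ v ∈ comS ρ X, w = ρ x v - v} = comS ρ X := by
  apply le_antisymm
  · rw [Submodule.span_le]
    rintro w ⟨x, hx, v, _, rfl⟩
    exact sub_mem_comS ρ X hx v
  · unfold comS
    rw [Submodule.span_le]
    rintro w ⟨h, hh, u, rfl⟩
    have hu : u ∈ fixS ρ X ⊔ comS ρ X := by
      rw [(fix_com_decomp ρ X hX).2]
      exact Submodule.mem_top
    obtain ⟨c, hc, m, hm, rfl⟩ := Submodule.mem_sup.mp hu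
    have h1 : ρ h (c + m) - (c + m) = ρ h m - m := by
      rw [map_add, hc h hh]
      abel
    rw [h1]
    exact Submodule.subset_span ⟨h, hh, m, hm, rfl⟩

end Cfsg.Agent.Helper47.C3
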