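import Mathlib
import Cfsg.Agent.Lib.Helper32.C3Defs

/-!
# C3 server (helper32, S4415): piece (S4) `not_card_eight`
-/

set_option autoImplicit false

namespace Cfsg.Agent.Helper47.C3

open Cfsg.Agent.Helper32.C3

universe u v

/-- fixed points of conjugation by an element `r` with `r ^ p = 1` on a finite `r`-invariant
subgroup `T`: `|T| ≡ |C_T(r)|` mod `p`. -/
theorem h47_card_modEq_centralizer {G : Type u} [Group G] (T : Subgroup G) [Finite T] (r : G)
    (hrT : ∀ t ∈ T, r * t * r⁻¹ ∈ T) {p : ℕ} [Fact p.Prime] (hr : r ^ p = 1) :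
    Nat.card T ≡ Nat.card ↥((Subgroup.centralizer {r}).subgroupOf T) [MOD p] := by
  classical
  let _ : Fintype T := Fintype.ofFinite T
  let f : Function.End ↥T := fun t => ⟨r * t * r⁻¹, hrT t t.2⟩
  have hpow : ∀ k : ℕ, ∀ t : T, (((f ^ k) t : T) : G) = r ^ k * t * (r ^ k)⁻¹ := by
    intro k
    induction k with
    | zero =>
      intro t
      rw [pow_zero, pow_zero]
      show (t : G) = 1 * t * 1⁻¹
      simp
    | succ k ih =>
      intro t
      rw [pow_succ']
      show r * ((f ^ k) t : G) * r⁻¹ = _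
      rw [ih, pow_succ']
      group
  have hf : f ^ p ^ 1 = 1 := by
    rw [pow_one]
    funext t
    apply Subtype.ext
    rw [hpow, hr]
    show 1 * (t : G) * 1⁻¹ = t
    simp
  have h := Equiv.Perm.card_fixedPoints_modEq hf
  rw [← Nat.card_eq_fintype_card, ← Nat.card_eq_fintype_card] at h
  have hset : Function.fixedPoints f = (((Subgroup.centralizer {r}).subgroupOf T : Subgroup ↥T) : Set ↥T) := by
    ext t
    rw [Function.mem_fixedPoints, Function.IsFixedPt, SetLike.mem_coe, Subgroup.mem_subgroupOf,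
      Subgroup.mem_centralizer_singleton_iff]
    constructor
    · intro ht
      have h1 : r * (t : G) * r⁻¹ = t := congrArg Subtype.val ht
      calc (t : G) * r = (r * (t : G) * r⁻¹) * r := by rw [h1]
        _ = r * t := by group
    · intro ht
      apply Subtype.ext
      show r * (t : G) * r⁻¹ = t
      calc r * (t : G) * r⁻¹ = ((t : G) * r) * r⁻¹ := by rw [ht]
        _ = t := by group
  rw [hset] at h
  exact h

/-- a subgroup of exponent 2 is commutative -/
theorem h47_comm_of_sq {G : Type u} [Group G] (Q : Subgroup G) (hsq : ∀ q ∈ Q, q * q = 1)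
    {a c : G} (ha : a ∈ Q) (hc : c ∈ Q) : a * c = c * a := by
  have h1 := hsq _ (Q.mul_mem ha hc)
  have h2 := hsq _ ha
  have h3 := hsq _ hc
  calc a * c = (c * c) * (a * c) * (a * a) := by rw [h2, h3, one_mul, mul_one]
    _ = c * (c * a) * (c * a) * a := by group
    _ = c * ((c * a) * (c * a)) * a := by group
    _ = c * a := by rw [hsq _ (Q.mul_mem hc ha), mul_one]

/-- **S4.** `|T| = 8` is impossible.  `R` is a 2-group: an element `r ∈ R` of odd prime order `p ≥ 5`
fixes each of the 3 nontrivial cosets of `{1,z}` in `T`, `r t r⁻¹ = t c(t)`, `c(t) ∈ {1,z}`, and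
`t = r^p t r^{-p} = t c(t)^p = t c(t)`: `r` centralises `T`, `r ∈ T` (`selfc`), a 2-group.  So `R` is a
normal 2-subgroup, `R ≤ T` (`max`), `R = T` has order 8; `z ∉ Q` (`b` moves every `q ≠ 1` of `Q`,
`z` is central), so `T = Q × <z>` is abelian, contradicting `ESLike.cen` (`|T| > 2`). -/
theorem not_card_eight {G : Type u} [Group G] [Finite G] {V : Type v} [AddCommGroup V]
    [Module (ZMod 3) V] [Finite V] (ρ : Representation (ZMod 3) G V) (R Q : Subgroup G) (b : G)
    (h : Cfg ρ R Q b) (T : Subgroup G) (hT : IsO2 R T) (z : G) (hES : ESLike ρ T z)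
    (hc : Nat.card ↥T = 8) : False := by
  classical
  have hTn : T.Normal := hT.normal
  -- `z ≠ 1`
  have hz1 : z ≠ 1 := by
    intro hz
    have h1 : ρ z = 1 := by rw [hz, map_one]
    rw [hES.rz] at h1
    -- `-1 = 1` on `V` forces `V = 0`, against `Cubic`
    have hV : ∀ v : V, v = 0 := by
      intro v
      have h2 : (-1 : Module.End (ZMod 3) V) v = (1 : Module.End (ZMod 3) V) v := by rw [h1]
      simp only [LinearMap.neg_apply, Module.End.one_apply] at h2
      have h3 : (2 : ZMod 3) • v = 0 := by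
        rw [two_smul]
        nth_rewrite 1 [← h2]
        exact neg_add_cancel v
      have h4 : (2 : ZMod 3) * 2 = 1 := by decide
      calc v = ((2 : ZMod 3) * 2) • v := by rw [h4, one_smul]
        _ = (2 : ZMod 3) • ((2 : ZMod 3) • v) := by rw [mul_smul]
        _ = 0 := by rw [h3, smul_zero]
    have h5 := h.cubic.1
    have h6 : LinearMap.range (dl ρ b) = ⊥ := by
      rw [eq_bot_iff]
      intro w _
      rw [Submodule.mem_bot]
      exact hV w
    rw [h6, finrank_bot] at h5
    omega
  -- step B: elements of `R` of prime order `p ≥ 5` are trivial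
  have hB : ∀ p : ℕ, p.Prime → 5 ≤ p → ∀ r ∈ R, r ^ p = 1 → r = 1 := by
    intro p hp hp5 r hrR hrp
    have : Fact p.Prime := ⟨hp⟩
    have hrT : ∀ t ∈ T, r * t * r⁻¹ ∈ T := fun t ht => hTn.conj_mem t ht r
    have hmod := h47_card_modEq_centralizer T r hrT hrp
    have hdvd : Nat.card ↥((Subgroup.centralizer {r}).subgroupOf T) ∣ Nat.card ↥T :=
      Subgroup.card_subgroup_dvd_card _
    have hne : (Subgroup.centralizer {r}).subgroupOf T ≠ ⊥ := by
      intro hbot
      have hzmem : (⟨z, hES.zT⟩ : T) ∈ (Subgroup.centralizer {r}).subgroupOf T := by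
        rw [Subgroup.mem_subgroupOf, Subgroup.mem_centralizer_singleton_iff]
        exact (hES.zc r).symm
      rw [hbot, Subgroup.mem_bot] at hzmem
      exact hz1 (congrArg Subtype.val hzmem)
    have hgt : 1 < Nat.card ↥((Subgroup.centralizer {r}).subgroupOf T) :=
      (Subgroup.one_lt_card_iff_ne_bot _).mpr hne
    rw [hc] at hmod hdvd
    have hle : Nat.card ↥((Subgroup.centralizer {r}).subgroupOf T) ≤ 8 :=
      Nat.le_of_dvd (by norm_num) hdvd
    have hpd : p ∣ 8 - Nat.card ↥((Subgroup.centralizer {r}).subgroupOf T) :=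
      (Nat.modEq_iff_dvd' hle).mp hmod.symm
    have hcard8 : Nat.card ↥((Subgroup.centralizer {r}).subgroupOf T) = 8 := by
      generalize Nat.card ↥((Subgroup.centralizer {r}).subgroupOf T) = c at *
      by_contra hc8
      have hpos : 0 < 8 - c := by omega
      have hple := Nat.le_of_dvd hpos hpd
      interval_cases c <;> first | omega | (exfalso; revert hdvd; decide) | skip
      all_goals
        have : p ≤ 6 := by omega
        interval_cases p <;> first | omega | (exfalso; revert hpd; decide) | (exfalso; revert hp; decide)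
    have htop : (Subgroup.centralizer {r}).subgroupOf T = ⊤ := by
      apply Subgroup.eq_top_of_card_eq
      rw [hcard8, hc]
    have hcen : ∀ t ∈ T, r * t = t * r := by
      intro t ht
      have : (⟨t, ht⟩ : T) ∈ (Subgroup.centralizer {r}).subgroupOf T := by
        rw [htop]; exact Subgroup.mem_top _
      rw [Subgroup.mem_subgroupOf, Subgroup.mem_centralizer_singleton_iff] at this
      exact this.symm
    have hrTmem : r ∈ T := hT.selfc r hrR hcen
    -- `r` has 2-power order dividing `p`
    obtain ⟨k, hk⟩ := hT.pg ⟨r, hrTmem⟩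
    have hk' : r ^ 2 ^ k = 1 := congrArg Subtype.val hk
    have h1 : orderOf r ∣ p := orderOf_dvd_of_pow_eq_one hrp
    have h2 : orderOf r ∣ 2 ^ k := orderOf_dvd_of_pow_eq_one hk'
    rcases (Nat.dvd_prime hp).mp h1 with h3 | h3
    · exact orderOf_eq_one_iff.mp h3
    · exfalso
      rw [h3] at h2
      have := (Nat.prime_dvd_prime_iff_eq hp Nat.prime_two).mp (hp.dvd_of_dvd_pow h2)
      omega
  -- step C: `R` is a 2-group
  have hR2 : IsPGroup 2 R := by
    have hRne : Nat.card ↥R ≠ 0 := Nat.card_pos.ne'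
    have hprime : ∀ {d : ℕ}, d.Prime → d ∣ Nat.card ↥R → d = 2 := by
      intro d hd hdd
      have : Fact d.Prime := ⟨hd⟩
      obtain ⟨x, hx⟩ := exists_prime_orderOf_dvd_card' d hdd
      have hxd : ((x : G)) ^ d = 1 := by
        have := pow_orderOf_eq_one x
        rw [hx] at this
        exact congrArg Subtype.val this
      have hd3 : d ≠ 3 := by
        intro h3
        rw [h3] at hdd
        have := h.Rcop
        rw [Nat.coprime_comm, Nat.Prime.coprime_iff_not_dvd Nat.prime_three] at this
        exact this hdd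
      by_contra hd2
      have hd5 : 5 ≤ d := by
        have := hd.two_le
        by_contra hlt
        have hlt' : d < 5 := by omega
        interval_cases d
        · exact hd2 rfl
        · exact hd3 rfl
        · exact absurd hd (by decide)
      have hx1 := hB d hd hd5 x x.2 hxd
      have hx1' : x = 1 := Subtype.ext hx1
      rw [hx1', orderOf_one] at hx
      have := hd.one_lt
      omega
    have := Nat.eq_prime_pow_of_unique_prime_dvd hRne hprime
    exact IsPGroup.of_card this
  -- step D: `R ≤ T`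
  have hRT : R ≤ T := hT.max R h.Rn hR2
  have hQT : Q ≤ T := h.QR.trans hRT
  obtain ⟨hQ4, hQsq, hQb, q₀, hq₀, hq₀b⟩ := h.four
  -- step E: `z ∉ Q`
  have hzQ : z ∉ Q := by
    intro hzQ
    have : Fact (Nat.Prime 3) := ⟨Nat.prime_three⟩
    have hmod := h47_card_modEq_centralizer Q b hQb h.b3
    have hdvd : Nat.card ↥((Subgroup.centralizer {b}).subgroupOf Q) ∣ Nat.card ↥Q :=
      Subgroup.card_subgroup_dvd_card _
    have hne : (Subgroup.centralizer {b}).subgroupOf Q ≠ ⊥ := by
      intro hbot
      have hzmem : (⟨z, hzQ⟩ : Q) ∈ (Subgroup.centralizer {b}).subgroupOf Q := by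
        rw [Subgroup.mem_subgroupOf, Subgroup.mem_centralizer_singleton_iff]
        exact (hES.zc b).symm
      rw [hbot, Subgroup.mem_bot] at hzmem
      exact hz1 (congrArg Subtype.val hzmem)
    have hgt : 1 < Nat.card ↥((Subgroup.centralizer {b}).subgroupOf Q) :=
      (Subgroup.one_lt_card_iff_ne_bot _).mpr hne
    rw [hQ4] at hmod hdvd
    have hle : Nat.card ↥((Subgroup.centralizer {b}).subgroupOf Q) ≤ 4 :=
      Nat.le_of_dvd (by norm_num) hdvd
    have hcard4 : Nat.card ↥((Subgroup.centralizer {b}).subgroupOf Q) = 4 := by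
      generalize Nat.card ↥((Subgroup.centralizer {b}).subgroupOf Q) = c at *
      interval_cases c
      · exfalso; revert hmod; decide
      · exfalso; revert hdvd; decide
      · rfl
    have htop : (Subgroup.centralizer {b}).subgroupOf Q = ⊤ := by
      apply Subgroup.eq_top_of_card_eq
      rw [hcard4, hQ4]
    have : (⟨q₀, hq₀⟩ : Q) ∈ (Subgroup.centralizer {b}).subgroupOf Q := by
      rw [htop]; exact Subgroup.mem_top _
    rw [Subgroup.mem_subgroupOf, Subgroup.mem_centralizer_singleton_iff] at this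
    apply hq₀b
    have h1 : q₀ * b = b * q₀ := this
    calc b * q₀ * b⁻¹ = (q₀ * b) * b⁻¹ := by rw [h1]
      _ = q₀ := by group
  -- step F: a nontrivial `q ∈ Q` is central in `T`
  have hQne : Q ≠ ⊥ := by
    intro hbot
    rw [hbot, Subgroup.card_bot] at hQ4
    omega
  obtain ⟨q, hq1⟩ := (Subgroup.ne_bot_iff_exists_ne_one.mp hQne)
  have hqQ' : (q : G) ∈ Q := q.2
  have hq1' : (q : G) ≠ 1 := fun e => hq1 (Subtype.ext e)
  set H : Subgroup G := T ⊓ Subgroup.centralizer {(q : G)} with hH
  have hQH : Q ≤ H := by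
    intro a ha
    exact Subgroup.mem_inf.mpr ⟨hQT ha,
      Subgroup.mem_centralizer_singleton_iff.mpr (h47_comm_of_sq Q hQsq ha hqQ')⟩
  have hzH : z ∈ H :=
    Subgroup.mem_inf.mpr ⟨hES.zT, Subgroup.mem_centralizer_singleton_iff.mpr (hES.zc q).symm⟩
  have hHT : H ≤ T := inf_le_left
  have hcardH : Nat.card ↥H = 8 := by
    have h1 : Nat.card ↥Q ∣ Nat.card ↥H := Subgroup.card_dvd_of_le hQH
    have h2 : Nat.card ↥H ∣ Nat.card ↥T := Subgroup.card_dvd_of_le hHT
    rw [hQ4] at h1
    rw [hc] at h2
    have hle : Nat.card ↥H ≤ 8 := Nat.le_of_dvd (by norm_num) h2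
    have hne4 : Nat.card ↥H ≠ 4 := by
      intro h4
      have : Q = H := Subgroup.eq_of_le_of_card_ge hQH (by rw [h4, hQ4])
      exact hzQ (this ▸ hzH)
    generalize Nat.card ↥H = c at *
    interval_cases c <;> first | rfl | omega | (exfalso; revert h1; decide) | (exfalso; revert h2; decide)
  have hHeq : H = T := Subgroup.eq_of_le_of_card_ge hHT (by rw [hcardH, hc])
  have hqcen : ∀ u ∈ T, (q : G) * u = u * q := by
    intro u hu
    have : u ∈ H := hHeq ▸ hu
    have h1 := (Subgroup.mem_inf.mp this).2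
    exact (Subgroup.mem_centralizer_singleton_iff.mp h1).symm
  rcases hES.cen q (hQT hqQ') hqcen with h1 | h1
  · exact hq1' h1
  · exact hzQ (h1 ▸ hqQ')

end Cfsg.Agent.Helper47.C3
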