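import Mathlib
import Cfsg.Agent.Lib.Helper32.C3Defs
import Cfsg.Agent.Lib.Helper8.InvCent
import Cfsg.Agent.Lib.Helper47.C3S4

/-!
# C3 server (helper32, S4415): piece (S6) `concl_of_eslike_32`
-/

set_option autoImplicit false

namespace Cfsg.Agent.Helper47.C3

open Cfsg.Agent.Helper32.C3

universe u v

/-- `ρ z = -1` on a nonzero module over `ZMod 3` forces `z ≠ 1`. -/
theorem h47_ne_one_of_neg_one {G : Type u} [Group G] {V : Type v} [AddCommGroup V]
    [Module (ZMod 3) V] (ρ : Representation (ZMod 3) G V) (b z : G) (hcub : Cubic ρ b)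
    (hz : ρ z = -1) : z ≠ 1 := by
  intro hz1
  have h1 : ρ z = 1 := by rw [hz1, map_one]
  rw [hz] at h1
  have hV : ∀ v : V, v = 0 := by
    intro v
    have h2 : (-1 : Module.End (ZMod 3) V) v = (1 : Module.End (ZMod 3) V) v := by rw [h1]
    simp only [LinearMap.neg_apply, Module.End.one_apply] at h2
    have h3 : (2 : ZMod 3) • v = 0 := by
      rw [two_smul]
      nth_rewrite 1 [← h2]
      exact neg_add_cancel v
    have h4 : (2 : ZMod 3) * 2 = 1 := by decide
    calc v = ((2 : ZMod 3) * 2) • v := by rw [h4, one_smul]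
      _ = (2 : ZMod 3) • ((2 : ZMod 3) • v) := by rw [mul_smul]
      _ = 0 := by rw [h3, smul_zero]
  have h5 := hcub.1
  have h6 : LinearMap.range (dl ρ b) = ⊥ := by
    rw [eq_bot_iff]
    intro w _
    rw [Submodule.mem_bot]
    exact hV w
  rw [h6, finrank_bot] at h5
  omega

/-- a central element `z ≠ 1` is not in the four-group `Q` on which `b` (of order 3) acts
nontrivially -/
theorem h47_central_not_mem_four {G : Type u} [Group G] [Finite G] (Q : Subgroup G) (b z : G)
    (hb3 : b ^ 3 = 1) (hfour : Four Q b) (hz1 : z ≠ 1) (hzc : ∀ g : G, g * z = z * g) : z ∉ Q := by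
  obtain ⟨hQ4, hQsq, hQb, q₀, hq₀, hq₀b⟩ := hfour
  intro hzQ
  have : Fact (Nat.Prime 3) := ⟨Nat.prime_three⟩
  have hmod := h47_card_modEq_centralizer Q b hQb hb3
  have hdvd : Nat.card ↥((Subgroup.centralizer {b}).subgroupOf Q) ∣ Nat.card ↥Q :=
    Subgroup.card_subgroup_dvd_card _
  have hne : (Subgroup.centralizer {b}).subgroupOf Q ≠ ⊥ := by
    intro hbot
    have hzmem : (⟨z, hzQ⟩ : Q) ∈ (Subgroup.centralizer {b}).subgroupOf Q := by
      rw [Subgroup.mem_subgroupOf, Subgroup.mem_centralizer_singleton_iff]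
      exact (hzc b).symm
    rw [hbot, Subgroup.mem_bot] at hzmem
    exact hz1 (congrArg Subtype.val hzmem)
  have hgt : 1 < Nat.card ↥((Subgroup.centralizer {b}).subgroupOf Q) :=
    (Subgroup.one_lt_card_iff_ne_bot _).mpr hne
  rw [hQ4] at hmod hdvd
  have hle : Nat.card ↥((Subgroup.centralizer {b}).subgroupOf Q) ≤ 4 :=
    Nat.le_of_dvd (by norm_num) hdvd
  have hcard4 : Nat.card ↥((Subgroup.centralizer {b}).subgroupOf Q) = 4 := by
    generalize Nat.card ↥((Subgroup.centralizer {b}).subgroupOf Q) = c at *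
    interval_cases c
    · exfalso; revert hmod; decide
    · exfalso; revert hdvd; decide
    · rfl
  have htop : (Subgroup.centralizer {b}).subgroupOf Q = ⊤ := by
    apply Subgroup.eq_top_of_card_eq
    rw [hcard4, hQ4]
  have : (⟨q₀, hq₀⟩ : Q) ∈ (Subgroup.centralizer {b}).subgroupOf Q := by
    rw [htop]; exact Subgroup.mem_top _
  rw [Subgroup.mem_subgroupOf, Subgroup.mem_centralizer_singleton_iff] at this
  apply hq₀b
  have h1 : q₀ * b = b * q₀ := this
  calc b * q₀ * b⁻¹ = (q₀ * b) * b⁻¹ := by rw [h1]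
    _ = q₀ := by group

/-- `Q × <z>` for a four-group `Q` of exponent 2 and a central involution `z ∉ Q`: an elementary
abelian subgroup of order 8. -/
theorem h47_exists_E8 {G : Type u} [Group G] [Finite G] (Q : Subgroup G) (z : G)
    (hQ4 : Nat.card ↥Q = 4) (hQsq : ∀ q ∈ Q, q * q = 1) (hz1 : z ≠ 1) (hz2 : z * z = 1)
    (hzc : ∀ g : G, g * z = z * g) (hzQ : z ∉ Q) :
    ∃ A : Subgroup G, A ≤ Q ⊔ Subgroup.zpowers z ∧ Cfsg.IsElementaryAbelian 2 A ∧
      Nat.card ↥A = 8 := by
  classical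
  have hzp : ∀ w ∈ Subgroup.zpowers z, w = 1 ∨ w = z := by
    intro w hw
    obtain ⟨k, rfl⟩ := Subgroup.mem_zpowers_iff.mp hw
    have hz2' : z ^ (2 : ℤ) = 1 := by
      rw [zpow_ofNat, pow_two]; exact hz2
    rcases Int.emod_two_eq_zero_or_one k with hk | hk
    · left
      have : k = 2 * (k / 2) := by omega
      rw [this, zpow_mul, hz2', one_zpow]
    · right
      have : k = 2 * (k / 2) + 1 := by omega
      rw [this, zpow_add, zpow_mul, hz2', one_zpow, one_mul, zpow_one]
  have hwc : ∀ w ∈ Subgroup.zpowers z, ∀ g : G, g * w = w * g := by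
    intro w hw g
    rcases hzp w hw with rfl | rfl
    · simp
    · exact hzc g
  have hw2 : ∀ w ∈ Subgroup.zpowers z, w * w = 1 := by
    intro w hw
    rcases hzp w hw with rfl | rfl
    · simp
    · exact hz2
  let f : ↥Q × ↥(Subgroup.zpowers z) →* G :=
    MonoidHom.noncommCoprod Q.subtype (Subgroup.zpowers z).subtype
      (fun q w => (hwc w w.2 q))
  have hf : ∀ x : ↥Q × ↥(Subgroup.zpowers z), f x = (x.1 : G) * (x.2 : G) := fun x => rfl
  have hinj : Function.Injective f := by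
    rw [injective_iff_map_eq_one]
    intro x hx
    rw [hf] at hx
    have h1 : (x.1 : G) = ((x.2 : G))⁻¹ := eq_inv_of_mul_eq_one_left hx
    have h2 : ((x.2 : G))⁻¹ ∈ Subgroup.zpowers z := (Subgroup.zpowers z).inv_mem x.2.2
    rcases hzp _ h2 with h3 | h3
    · have hx1 : (x.1 : G) = 1 := h1.trans h3
      have hx2 : (x.2 : G) = 1 := by rw [hx1, one_mul] at hx; exact hx
      exact Prod.ext (Subtype.ext hx1) (Subtype.ext hx2)
    · exfalso
      apply hzQ
      rw [← h3, ← h1]
      exact x.1.2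
  refine ⟨f.range, ?_, ⟨⟨⟨?_⟩⟩, ?_⟩, ?_⟩
  · rintro _ ⟨x, rfl⟩
    rw [hf]
    exact Subgroup.mul_mem _ (Subgroup.mem_sup_left x.1.2) (Subgroup.mem_sup_right x.2.2)
  · rintro ⟨_, ⟨x, rfl⟩⟩ ⟨_, ⟨y, rfl⟩⟩
    apply Subtype.ext
    show f x * f y = f y * f x
    rw [hf, hf]
    have h1 := hwc _ x.2.2
    have h2 := hwc _ y.2.2
    have h3 : (x.1 : G) * (y.1 : G) = (y.1 : G) * (x.1 : G) := h47_comm_of_sq Q hQsq x.1.2 y.1.2
    calc (x.1 : G) * (x.2 : G) * ((y.1 : G) * (y.2 : G))
        = (x.1 : G) * ((x.2 : G) * (y.1 : G)) * (y.2 : G) := by group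
      _ = (x.1 : G) * ((y.1 : G) * (x.2 : G)) * (y.2 : G) := by rw [← h1]
      _ = ((x.1 : G) * (y.1 : G)) * ((x.2 : G) * (y.2 : G)) := by group
      _ = ((y.1 : G) * (x.1 : G)) * ((y.2 : G) * (x.2 : G)) := by rw [h3, h1 (y.2 : G)]
      _ = (y.1 : G) * ((x.1 : G) * (y.2 : G)) * (x.2 : G) := by group
      _ = (y.1 : G) * ((y.2 : G) * (x.1 : G)) * (x.2 : G) := by rw [h2]
      _ = (y.1 : G) * (y.2 : G) * ((x.1 : G) * (x.2 : G)) := by group
  · rintro _ ⟨x, rfl⟩
    rw [hf, pow_two]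
    have h1 := hwc _ x.2.2 (x.1 : G)
    calc (x.1 : G) * (x.2 : G) * ((x.1 : G) * (x.2 : G))
        = (x.1 : G) * ((x.2 : G) * (x.1 : G)) * (x.2 : G) := by group
      _ = (x.1 : G) * ((x.1 : G) * (x.2 : G)) * (x.2 : G) := by rw [← h1]
      _ = ((x.1 : G) * (x.1 : G)) * ((x.2 : G) * (x.2 : G)) := by group
      _ = 1 := by rw [hQsq _ x.1.2, hw2 _ x.2.2, one_mul]
  · rw [← Nat.card_congr (MonoidHom.ofInjective hinj).toEquiv, Nat.card_prod, hQ4, Nat.card_zpowers,
      orderOf_eq_prime (by rw [pow_two]; exact hz2) hz1]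

open scoped commutatorElement in
/-- **S6.** The conclusion when `R` itself is extraspecial-like of order 32:
`Cfsg.Agent.Helper8.isExtraspecial_of_crit'` (`Lib/Helper8/InvCent.lean`) for `↥R` with the central
subgroup `{1,z}`; `A = Q ⊔ zpowers z` is elementary abelian of order 8 (`z ∉ Q` as `b` moves every
`1 ≠ q ∈ Q` and `z` is central). -/
theorem concl_of_eslike_32 {G : Type u} [Group G] [Finite G] {V : Type v} [AddCommGroup V]
    [Module (ZMod 3) V] [Finite V] (ρ : Representation (ZMod 3) G V) (R Q : Subgroup G) (b : G)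
    (h : Cfg ρ R Q b) (z : G) (hES : ESLike ρ R z) (hc : Nat.card ↥R = 32) : Concl R := by
  right
  have hz1 : z ≠ 1 := h47_ne_one_of_neg_one ρ b z h.cubic hES.rz
  have hz2 : z * z = 1 := by
    apply h.faith
    rw [map_mul, hES.rz, map_one]
    simp
  have hzQ : z ∉ Q := h47_central_not_mem_four Q b z h.b3 h.four hz1 hES.zc
  refine ⟨?_, hc, ?_⟩
  · -- extraspecial
    have : Fact (Nat.Prime 2) := ⟨Nat.prime_two⟩
    have hE : IsPGroup 2 ↥R := IsPGroup.of_card (n := 5) (by rw [hc]; norm_num)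
    have hz'1 : (⟨z, hES.zT⟩ : ↥R) ≠ 1 := fun e => hz1 (congrArg Subtype.val e)
    have hz'2 : (⟨z, hES.zT⟩ : ↥R) ^ 2 = 1 := by
      apply Subtype.ext
      show z ^ 2 = 1
      rw [pow_two]; exact hz2
    refine Cfsg.Agent.Helper8.InvC.isExtraspecial_of_crit' hE
      (Subgroup.zpowers (⟨z, hES.zT⟩ : ↥R)) ?_ ?_ ?_ ?_ ?_ ?_
    · rw [Nat.card_zpowers]
      exact orderOf_eq_prime hz'2 hz'1
    · rw [Subgroup.zpowers_le, Subgroup.mem_center_iff]
      intro g
      exact Subtype.ext (hES.zc g)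
    · intro t ht
      rw [Subgroup.mem_center_iff] at ht
      rcases hES.cen t t.2 (fun u hu => (congrArg Subtype.val (ht ⟨u, hu⟩)).symm) with h1 | h1
      · have : t = 1 := Subtype.ext h1
        rw [this]; exact Subgroup.one_mem _
      · have : t = ⟨z, hES.zT⟩ := Subtype.ext h1
        rw [this]; exact Subgroup.mem_zpowers _
    · intro x y
      rcases hES.comm x x.2 y y.2 with h1 | h1
      · have : ⁅x, y⁆ = 1 := commutatorElement_eq_one_iff_mul_comm.mpr (Subtype.ext h1)
        rw [this]; exact Subgroup.one_mem _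
      · have : ⁅x, y⁆ = ⟨z, hES.zT⟩ := by
          apply Subtype.ext
          show (x : G) * y * (x : G)⁻¹ * (y : G)⁻¹ = z
          calc (x : G) * y * (x : G)⁻¹ * (y : G)⁻¹ = ((x : G) * y) * ((y : G) * x)⁻¹ := by group
            _ = z * ((y : G) * x) * ((y : G) * x)⁻¹ := by rw [h1]
            _ = z := by group
        rw [this]; exact Subgroup.mem_zpowers _
    · intro x
      rcases hES.sq x x.2 with h1 | h1
      · have : x ^ 2 = 1 := by
          apply Subtype.ext
          show (x : G) ^ 2 = 1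
          rw [pow_two]; exact h1
        rw [this]; exact Subgroup.one_mem _
      · have : x ^ 2 = ⟨z, hES.zT⟩ := by
          apply Subtype.ext
          show (x : G) ^ 2 = z
          rw [pow_two]; exact h1
        rw [this]; exact Subgroup.mem_zpowers _
    · by_contra hab
      push Not at hab
      have hall : ∀ t : ↥R, t = 1 ∨ t = ⟨z, hES.zT⟩ := by
        intro t
        rcases hES.cen t t.2 (fun u hu => congrArg Subtype.val (hab t ⟨u, hu⟩)) with h1 | h1
        · left; exact Subtype.ext h1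
        · right; exact Subtype.ext h1
      have hle : Nat.card ↥R ≤ 2 := by
        have hsub : (Set.univ : Set ↥R) ⊆ {1, ⟨z, hES.zT⟩} := fun t _ => by
          rcases hall t with h | h <;> simp [h]
        calc Nat.card ↥R = (Set.univ : Set ↥R).ncard := (Set.ncard_univ _).symm
          _ ≤ ({1, ⟨z, hES.zT⟩} : Set ↥R).ncard := Set.ncard_le_ncard hsub (Set.toFinite _)
          _ ≤ 2 := (Set.ncard_insert_le _ _).trans (by rw [Set.ncard_singleton])
      omega
  · obtain ⟨A, hA, hAel, hA8⟩ :=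
      h47_exists_E8 Q z h.four.1 h.four.2.1 hz1 hz2 hES.zc hzQ
    refine ⟨A, hA.trans (sup_le h.QR ?_), hAel, hA8⟩
    rw [Subgroup.zpowers_le]
    exact hES.zT

end Cfsg.Agent.Helper47.C3
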