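import Mathlib
import Cfsg.Agent.Lib.Helper32.N5Defs

/-!
# Piece (E1b) `card_ne_16_of_center_two` of helper32's N5 lemma server (S1904).
-/

set_option autoImplicit false

namespace Cfsg.Agent.Helper47.N5

open Cfsg Cfsg.Agent.Helper32.N5
open scoped commutatorElement

universe u

variable {X : Type u} [Group X] [Finite X]

omit [Finite X] in
/-- the commutator hom `g ↦ ⁅g, x⁆` in class 2 -/
theorem h47_comm_mul (hcomm : ∀ x y : X, ⁅x, y⁆ ∈ Subgroup.center X) (x g h : X) :
    ⁅g * h, x⁆ = ⁅g, x⁆ * ⁅h, x⁆ := by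
  have hc := hcomm h x
  rw [Subgroup.mem_center_iff] at hc
  rw [hc ⁅g, x⁆]
  have : ⁅g * h, x⁆ = g * ⁅h, x⁆ * g⁻¹ * ⁅g, x⁆ := by
    simp only [commutatorElement_def]; group
  rw [this, hc g]; group

/-- the commutator hom -/
def h47_commHom (hcomm : ∀ x y : X, ⁅x, y⁆ ∈ Subgroup.center X) (x : X) : X →* X :=
  MonoidHom.mk' (fun g => ⁅g, x⁆) (fun g h => h47_comm_mul hcomm x g h)

omit [Finite X] in
theorem h47_commHom_ker (hcomm : ∀ x y : X, ⁅x, y⁆ ∈ Subgroup.center X) (x : X) :
    (h47_commHom hcomm x).ker = Subgroup.centralizer {x} := by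
  ext g
  rw [MonoidHom.mem_ker, Subgroup.mem_centralizer_singleton_iff]
  show ⁅g, x⁆ = 1 ↔ _
  exact commutatorElement_eq_one_iff_mul_comm

omit [Finite X] in
theorem h47_commHom_range (hcomm : ∀ x y : X, ⁅x, y⁆ ∈ Subgroup.center X) (x : X) :
    (h47_commHom hcomm x).range ≤ Subgroup.center X := by
  rintro _ ⟨g, rfl⟩
  exact hcomm g x

/-- centralisers of non-central elements have order 8 -/
theorem h47_card_centralizer (hcomm : ∀ x y : X, ⁅x, y⁆ ∈ Subgroup.center X)
    (hZ2 : Nat.card (Subgroup.center X) = 2) (h16 : Nat.card X = 16) (x : X)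
    (hx : x ∉ Subgroup.center X) : Nat.card (Subgroup.centralizer {x}) = 8 := by
  have h1 := Subgroup.index_ker (h47_commHom hcomm x)
  rw [h47_commHom_ker] at h1
  have h2 : Nat.card (h47_commHom hcomm x).range ≤ 2 := by
    rw [← hZ2]; exact Subgroup.card_le_of_le (h47_commHom_range hcomm x)
  have h3 := Subgroup.card_mul_index (Subgroup.centralizer {x})
  rw [h16] at h3
  have h4 : (Subgroup.centralizer {x}).index ≠ 1 := by
    intro h
    rw [Subgroup.index_eq_one] at h
    apply hx
    rw [Subgroup.mem_center_iff]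
    intro g
    have hg : g ∈ Subgroup.centralizer {x} := by rw [h]; exact Subgroup.mem_top g
    exact Subgroup.mem_centralizer_singleton_iff.mp hg
  have h5 : (Subgroup.centralizer {x}).index ≠ 0 := Subgroup.index_ne_zero_of_finite
  have h6 : (Subgroup.centralizer {x}).index = 2 := by omega
  rw [h6] at h3
  omega

/-- a group of order 8 whose centre has more than two elements is commutative -/
theorem h47_comm_of_center {M : Type*} [Group M] [Finite M] (h8 : Nat.card M = 8)
    (K : Subgroup M) (hK2 : Nat.card K = 2) (hKc : K ≤ Subgroup.center M)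
    (x : M) (hxc : x ∈ Subgroup.center M) (hxK : x ∉ K) : ∀ a b : M, a * b = b * a := by
  have h2dvd : 2 ∣ Nat.card (Subgroup.center M) := hK2 ▸ Subgroup.card_dvd_of_le hKc
  have hdvd8 : Nat.card (Subgroup.center M) ∣ 8 := h8 ▸ Subgroup.card_subgroup_dvd_card _
  have hne2 : Nat.card (Subgroup.center M) ≠ 2 := by
    intro h
    have := Subgroup.eq_of_le_of_card_ge hKc (by rw [h, hK2])
    exact hxK (this ▸ hxc)
  have hmul := Subgroup.card_mul_index (Subgroup.center M)
  rw [h8] at hmul
  have hle8 : Nat.card (Subgroup.center M) ≤ 8 := Nat.le_of_dvd (by norm_num) hdvd8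
  have hcases : Nat.card (Subgroup.center M) = 4 ∨ Nat.card (Subgroup.center M) = 8 := by
    have hpos : 0 < Nat.card (Subgroup.center M) := Nat.card_pos
    interval_cases h : Nat.card (Subgroup.center M) <;> simp_all
  intro a b
  rcases hcases with h4 | h8'
  · have hidx : (Subgroup.center M).index = 2 := by rw [h4] at hmul; omega
    by_cases ha : a ∈ Subgroup.center M
    · exact (Subgroup.mem_center_iff.mp ha b).symm
    by_cases hb : b ∈ Subgroup.center M
    · exact Subgroup.mem_center_iff.mp hb a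
    have hab : a⁻¹ * b ∈ Subgroup.center M := by
      rw [Subgroup.mul_mem_iff_of_index_two hidx, inv_mem_iff]
      exact ⟨fun h => absurd h ha, fun h => absurd h hb⟩
    have hc := Subgroup.mem_center_iff.mp hab a
    -- a * (a⁻¹ * b) = (a⁻¹ * b) * a
    have : b = a⁻¹ * b * a := by rw [← hc]; group
    calc a * b = a * (a⁻¹ * b * a) := by rw [← this]
      _ = b * a := by group
  · have htop : Subgroup.center M = ⊤ := by
      apply Subgroup.eq_top_of_card_eq
      rw [h8', h8]
    have ha : a ∈ Subgroup.center M := htop ▸ Subgroup.mem_top a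
    exact (Subgroup.mem_center_iff.mp ha b).symm


/-- piece (E1b) -/
theorem card_ne_16_of_center_two (Z : Subgroup X) (hd : SpData Z) (hZ2 : Nat.card Z = 2) :
    Nat.card X ≠ 16 := by
  intro h16
  obtain ⟨heq, hsq, hcomm, hel⟩ := hd
  subst heq
  -- pick x ∉ center
  have hex : ∃ x : X, x ∉ Subgroup.center X := by
    by_contra hcon
    push_neg at hcon
    have : Subgroup.center X = ⊤ := (Subgroup.eq_top_iff' _).mpr hcon
    have h := hZ2
    rw [this, Subgroup.card_top, h16] at h
    omega
  obtain ⟨x, hx⟩ := hex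
  set M := Subgroup.centralizer ({x} : Set X) with hM
  have hM8 : Nat.card M = 8 := h47_card_centralizer hcomm hZ2 h16 x hx
  -- M abelian
  have hZM : Subgroup.center X ≤ M := Subgroup.center_le_centralizer _
  have hxM : x ∈ M := Subgroup.mem_centralizer_singleton_iff.mpr rfl
  have hMab : ∀ a b : ↥M, a * b = b * a := by
    apply h47_comm_of_center hM8 ((Subgroup.center X).subgroupOf M) ?_ ?_ ⟨x, hxM⟩ ?_ ?_
    · rw [Nat.card_congr (Subgroup.subgroupOfEquivOfLe hZM).toEquiv]; exact hZ2
    · intro a ha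
      rw [Subgroup.mem_subgroupOf] at ha
      rw [Subgroup.mem_center_iff]
      intro b
      ext
      simp only [Subgroup.coe_mul]
      exact Subgroup.mem_center_iff.mp ha b
    · rw [Subgroup.mem_center_iff]
      intro b
      ext
      simp only [Subgroup.coe_mul]
      exact Subgroup.mem_centralizer_singleton_iff.mp b.2
    · rw [Subgroup.mem_subgroupOf]; exact hx
  -- pick w ∉ M
  have hexw : ∃ w : X, w ∉ M := by
    by_contra hcon
    push_neg at hcon
    have : M = ⊤ := (Subgroup.eq_top_iff' M).mpr hcon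
    rw [this, Subgroup.card_top, h16] at hM8
    omega
  obtain ⟨w, hw⟩ := hexw
  have hwZ : w ∉ Subgroup.center X := fun h => hw (hZM h)
  set N := Subgroup.centralizer ({w} : Set X) with hN
  have hN8 : Nat.card N = 8 := h47_card_centralizer hcomm hZ2 h16 w hwZ
  -- |M ⊓ N| ≥ 4
  have hMi : M.index = 2 := by
    have := Subgroup.card_mul_index M
    rw [hM8, h16] at this
    omega
  have hNi : N.index = 2 := by
    have := Subgroup.card_mul_index N
    rw [hN8, h16] at this
    omega
  have hinf : (M ⊓ N).index ≤ 4 := by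
    have := Subgroup.index_inf_le (H := M) (K := N)
    rw [hMi, hNi] at this
    exact this
  have hinfc : 4 ≤ Nat.card ↥(M ⊓ N) := by
    have := Subgroup.card_mul_index (M ⊓ N)
    rw [h16] at this
    nlinarith
  -- pick m ∈ M ⊓ N, m ∉ Z
  have hexm : ∃ m ∈ M ⊓ N, m ∉ Subgroup.center X := by
    by_contra hcon
    push_neg at hcon
    have hle : M ⊓ N ≤ Subgroup.center X := hcon
    have := Subgroup.card_le_of_le hle
    omega
  obtain ⟨m, hmMN, hmZ⟩ := hexm
  have hC8 := h47_card_centralizer hcomm hZ2 h16 m hmZ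
  have hMle : M ≤ Subgroup.centralizer ({m} : Set X) := by
    intro a ha
    rw [Subgroup.mem_centralizer_singleton_iff]
    have := hMab ⟨a, ha⟩ ⟨m, hmMN.1⟩
    exact congrArg Subtype.val this
  have hMeq := Subgroup.eq_of_le_of_card_ge hMle (by rw [hC8, hM8])
  apply hw
  rw [hMeq, Subgroup.mem_centralizer_singleton_iff]
  exact (Subgroup.mem_centralizer_singleton_iff.mp hmMN.2).symm

end Cfsg.Agent.Helper47.N5
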