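import Mathlib
import Cfsg.Agent.Lib.Helper52.FLDefs
import Cfsg.Agent.Lib.Helper52.Coprime
import Cfsg.Agent.Lib.Helper9.WielandtBasic
import Cfsg.Agent.Lib.Helper97.FXDefs

/-!
# FL server (helper52, S3822): piece (DNOR) `D_normal`
-/

set_option autoImplicit false

namespace Cfsg.Agent.Helper47.FL

open Cfsg.Agent.Helper52.FL Cfsg.Agent.Helper97.FX

variable {G : Type*} [Group G] [Finite G]

omit [Finite G] in
/-- an element normalising `Q` normalises `C(Q)` -/
theorem h47_normalizer_centralizer {Q : Subgroup G} {a : G}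
    (hQ : a ∈ Subgroup.normalizer (Q : Set G)) :
    a ∈ Subgroup.normalizer ((Subgroup.centralizer (Q : Set G) : Subgroup G) : Set G) := by
  rw [Subgroup.mem_normalizer_iff]
  intro x
  simp only [Subgroup.mem_centralizer_iff]
  constructor
  · intro hx q hq
    have hq' : a⁻¹ * q * a ∈ Q := (Subgroup.mem_normalizer_iff'.mp hQ _).mpr (by simpa [mul_assoc] using hq)
    have := hx _ hq'
    calc q * (a * x * a⁻¹) = a * ((a⁻¹ * q * a) * x) * a⁻¹ := by group
      _ = a * (x * (a⁻¹ * q * a)) * a⁻¹ := by rw [this]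
      _ = a * x * a⁻¹ * q := by group
  · intro hx q hq
    have hq' : a * q * a⁻¹ ∈ Q := (Subgroup.mem_normalizer_iff.mp hQ _).mp hq
    have := hx _ hq'
    calc q * x = a⁻¹ * ((a * q * a⁻¹) * (a * x * a⁻¹)) * a := by group
      _ = a⁻¹ * ((a * x * a⁻¹) * (a * q * a⁻¹)) * a := by rw [this]
      _ = x * q := by group

omit [Finite G] in
/-- `A ≤ N(V)`, `A ≤ N(Q)` ⟹ `A ≤ N(C_V(Q))` -/
theorem h47_le_normalizer_Dsub {A Q V : Subgroup G} (hAV : A ≤ Subgroup.normalizer (V : Set G))
    (hAQ : A ≤ Subgroup.normalizer (Q : Set G)) :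
    A ≤ Subgroup.normalizer (Dsub Q V : Set G) := fun _ ha =>
  Subgroup.inf_normalizer_le_normalizer_inf ⟨hAV ha, h47_normalizer_centralizer (hAQ ha)⟩

section CTX
variable {A Q V : Subgroup G} {r s : ℕ} [Fact r.Prime] [Fact s.Prime]

/-- **(DNOR) [S-M]** `normalizerCondition_of_isNilpotent` inside `↥V` (an `r`-group is nilpotent), the normaliser of `D` in `V` is `A`-invariant. -/
theorem D_normal (h : Ctx A Q V r s) : V ≤ Subgroup.normalizer (Dsub Q V : Set G) := by
  have hDV : Dsub Q V ≤ V := inf_le_left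
  have hAD : A ≤ Subgroup.normalizer (Dsub Q V : Set G) := h47_le_normalizer_Dsub h.hAV h.hAQ
  have hAN : A ≤ Subgroup.normalizer
      ((V ⊓ Subgroup.normalizer (Dsub Q V : Set G) : Subgroup G) : Set G) := fun a ha =>
    Subgroup.inf_normalizer_le_normalizer_inf ⟨h.hAV ha, Subgroup.le_normalizer (hAD ha)⟩
  by_contra hcon
  have hne : V ⊓ Subgroup.normalizer (Dsub Q V : Set G) ≠ V := fun e =>
    hcon (inf_eq_left.mp e)
  have hNc := h.hmin _ inf_le_left hne hAN
  have hND : V ⊓ Subgroup.normalizer (Dsub Q V : Set G) ≤ Dsub Q V := le_inf inf_le_left hNc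
  have hVn : Group.IsNilpotent ↥V := h.hV.isNilpotent
  have hself : Subgroup.normalizer (((Dsub Q V).subgroupOf V : Subgroup ↥V) : Set ↥V)
      = (Dsub Q V).subgroupOf V := by
    rw [← Subgroup.subgroupOf_normalizer_eq hDV]
    ext x
    simp only [Subgroup.mem_subgroupOf]
    exact ⟨fun hx => hND ⟨x.2, hx⟩, fun hx => Subgroup.le_normalizer hx⟩
  have htop := (normalizerCondition_iff_only_full_group_self_normalizing.mp
    Group.normalizerCondition_of_isNilpotent) _ hself
  rw [Subgroup.subgroupOf_eq_top] at htop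
  exact h.hnc (htop.trans inf_le_right)

end CTX

end Cfsg.Agent.Helper47.FL
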