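import Mathlib
import Cfsg.Prelude.Def_FusionSystem
import Cfsg.Prelude.Def_KGroupFacts
import Cfsg.Agent.Lib.Helper84.GrpFus

/-!
# Piece (AUT) of helper87's PSL3F lemma server (S5318): `N_G(S) = S C_G(S)` gives `Aut_F(S) = Inn(S)`.
-/

set_option autoImplicit false

namespace Cfsg.Agent.Helper47.Psl3

open Cfsg

theorem autGroup_eq_inn {G : Type*} [Group G] (S : Subgroup G)
    (h : ∀ g : G, g ∈ Subgroup.normalizer (S : Set G) →
      ∃ s ∈ S, ∃ c : G, (∀ x ∈ S, c * x = x * c) ∧ g = s * c) :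
    (groupFusionSystem S).autGroup S = Cfsg.Inn ↥S := by
  rw [Cfsg.Agent.Helper84.gfs_autGroup_eq S S le_rfl]
  ext α
  rw [Cfsg.Agent.Helper84.mem_autInducedBy_iff]
  constructor
  · rintro ⟨g, -, hg⟩
    have hgN : g ∈ Subgroup.normalizer (S : Set G) := by
      rw [Subgroup.mem_normalizer_iff]
      intro y
      constructor
      · intro hy
        have := hg ⟨y, hy⟩
        rw [← this]
        exact (α ⟨y, hy⟩).2
      · intro hy
        obtain ⟨x, hx⟩ := α.surjective ⟨g * y * g⁻¹, hy⟩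
        have h1 := hg x
        rw [hx] at h1
        have h2 : y = (x : G) := by
          have : g * y * g⁻¹ = g * (x : G) * g⁻¹ := h1
          exact mul_left_cancel (mul_right_cancel this)
        rw [h2]; exact x.2
    obtain ⟨s, hs, c, hc, rfl⟩ := h g hgN
    refine ⟨⟨s, hs⟩, ?_⟩
    ext x
    rw [hg x]
    show s * (x : G) * s⁻¹ = s * c * (x : G) * (s * c)⁻¹
    have := hc x x.2
    rw [mul_inv_rev, mul_assoc s c, this]
    group
  · rintro ⟨s, rfl⟩
    exact ⟨(s : G), Subgroup.mem_top _, fun x => rfl⟩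

end Cfsg.Agent.Helper47.Psl3
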