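import Mathlib

/-!
# JPC lemma server (helper35, S4150), piece (J2) `isMultiplyPretransitive_of_prime_cycle` (helper47)

A primitive group containing a cycle of prime length `ℓ < card Ω` is `(card Ω - ℓ + 1)`-transitive
(the first half of Mathlib's proof of Jordan's 3-cycle theorem).
-/

set_option autoImplicit false

namespace Cfsg.Agent.Helper47.JPC

open Equiv Equiv.Perm MulAction Subgroup

universe u

/-- (J2) a primitive group containing an `ℓ`-cycle is `(card Ω - ℓ + 1)`-transitive. -/
theorem isMultiplyPretransitive_of_prime_cycle {Ω : Type u} [Fintype Ω] [DecidableEq Ω]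
    (G : Subgroup (Perm Ω)) (hG : IsPreprimitive G Ω) {ℓ : ℕ} (hℓ : ℓ.Prime)
    (hℓ' : ℓ < Fintype.card Ω) {g : Perm Ω} (hgc : g.IsCycle) (hgℓ : g.support.card = ℓ)
    (hg : g ∈ G) : IsMultiplyPretransitive G Ω (Fintype.card Ω - ℓ + 1) := by
  classical
  obtain ⟨n, hn⟩ : ∃ n, Fintype.card Ω = ℓ + 1 + n := Nat.exists_eq_add_of_le hℓ'
  have hcard : Nat.card Ω = ℓ + 1 + n := by rw [Nat.card_eq_fintype_card, hn]
  suffices IsMultiplyPreprimitive G Ω (n + 2) by
    rw [show Fintype.card Ω - ℓ + 1 = n + 2 by omega]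
    exact IsMultiplyPreprimitive.isMultiplyPretransitive ..
  apply hG.isMultiplyPreprimitive (s := (g.supportᶜ : Set Ω))
  · apply Nat.add_left_cancel (n := (g.support : Set Ω).ncard)
    rw [Set.ncard_add_ncard_compl, Set.ncard_coe_finset, hgℓ, hcard]
    omega
  · have := hℓ.two_le
    omega
  have := isPretransitive_of_isCycle_mem hgc hg
  apply IsPreprimitive.of_prime_card
  convert hℓ
  rw [Nat.card_eq_fintype_card, Fintype.card_subtype, ← hgℓ]
  apply congr_arg
  ext x
  simp [SubMulAction.mem_ofFixingSubgroup_iff]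

end Cfsg.Agent.Helper47.JPC
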