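import Mathlib
import Cfsg.Agent.Lib.Helper1.Coprime
import Cfsg.Agent.Lib.Helper47.Comm
import Cfsg.Agent.Lib.Helper47.Conj

set_option autoImplicit false

namespace Cfsg.Agent.Helper47

open Subgroup
open scoped commutatorElement

variable {G : Type*} [Group G]

/-- If `k` normalizes `M` and `Y`, it normalizes `[M, Y]`. -/
theorem mem_normalizer_commutator_of_mem {M Y : Subgroup G} {k : G}
    (hM : k ∈ normalizer (M : Set G)) (hY : k ∈ normalizer (Y : Set G)) :
    k ∈ normalizer ((⁅M, Y⁆ : Subgroup G) : Set G) := by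
  rw [mem_normalizer_iff_map_conj_eq] at hM hY ⊢
  rw [Subgroup.map_commutator, hM, hY]

/-- A perfect subgroup `K` with `[K, [K, Y]] = 1` centralizes `Y`. -/
theorem commutator_eq_bot_of_perfect {K Y : Subgroup G} (hK : ⁅K, K⁆ = K)
    (h : ⁅K, ⁅K, Y⁆⁆ = ⊥) : ⁅K, Y⁆ = ⊥ := by
  have h1 : ⁅⁅K, Y⁆, K⁆ = ⊥ := by rw [commutator_comm]; exact h
  have h2 : ⁅⁅Y, K⁆, K⁆ = ⊥ := by rw [commutator_comm Y]; exact h1
  have h3 := commutator_commutator_eq_bot_of_rotate h1 h2
  rwa [hK] at h3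

/-- **Component part**: `E` generated by a family `𝒦` of perfect subgroups, each of which is
contained in or centralizes `[E, Y]`. Then `E = [E,Y] C_E(Y)` and `[E,Y,Y] = [E,Y]`. -/
theorem layer_action {E Y : Subgroup G} (𝒦 : Set (Subgroup G)) (hE : E = sSup 𝒦)
    (hYE : Y ≤ normalizer (E : Set G)) (hperf : ∀ K ∈ 𝒦, ⁅K, K⁆ = K)
    (hdich : ∀ K ∈ 𝒦, K ≤ ⁅E, Y⁆ ∨ ⁅K, ⁅E, Y⁆⁆ = ⊥) :
    E ≤ ⁅E, Y⁆ ⊔ (E ⊓ centralizer (Y : Set G)) ∧ ⁅⁅E, Y⁆, Y⁆ = ⁅E, Y⁆ := by
  have hKE : ∀ K ∈ 𝒦, K ≤ E := fun K hK => hE ▸ le_sSup hK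
  have hME : ⁅E, Y⁆ ≤ E := Helper1.commutator_le_of_le_normalizer hYE
  have hEM : E ≤ normalizer ((⁅E, Y⁆ : Subgroup G) : Set G) :=
    Helper1.le_normalizer_commutator_left E Y
  have hYM : Y ≤ normalizer ((⁅E, Y⁆ : Subgroup G) : Set G) :=
    Helper1.le_normalizer_commutator_right hYE
  -- each `K` is in `[E,Y]` or centralizes `Y`
  have hcase : ∀ K ∈ 𝒦, K ≤ ⁅E, Y⁆ ∨ K ≤ centralizer (Y : Set G) := by
    intro K hK
    rcases hdich K hK with h | h
    · exact Or.inl h
    · right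
      have h1 : ⁅K, ⁅K, Y⁆⁆ = ⊥ := by
        rw [eq_bot_iff, ← h]
        exact commutator_mono le_rfl (commutator_mono (hKE K hK) le_rfl)
      have h2 := commutator_eq_bot_of_perfect (hperf K hK) h1
      exact le_centralizer_iff.mp (commutator_eq_bot_iff_le_centralizer.mp
        (by rw [commutator_comm]; exact h2))
  constructor
  · refine hE.le.trans (sSup_le ?_)
    intro K hK
    rcases hcase K hK with h | h
    · exact h.trans le_sup_left
    · exact (le_inf (hKE K hK) h).trans le_sup_right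
  · apply le_antisymm (Helper1.commutator_le_of_le_normalizer hYM)
    -- `E ≤ commStab Y [[E,Y],Y]`
    have hYM2 : Y ≤ normalizer ((⁅⁅E, Y⁆, Y⁆ : Subgroup G) : Set G) :=
      Helper1.le_normalizer_commutator_right hYM
    have hMM2 : ⁅E, Y⁆ ≤ normalizer ((⁅⁅E, Y⁆, Y⁆ : Subgroup G) : Set G) :=
      Helper1.le_normalizer_commutator_left _ Y
    have hle : E ≤ commStab Y ⁅⁅E, Y⁆, Y⁆ := by
      refine hE.le.trans (sSup_le ?_)
      intro K hK
      rcases hcase K hK with h | h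
      · apply le_commStab (h.trans hMM2)
        rw [commutator_comm]
        exact commutator_mono h le_rfl
      · apply le_commStab
        · intro k hk
          exact mem_normalizer_commutator_of_mem (hEM (hKE K hK hk))
            (centralizer_le_normalizer _ (h hk))
        · rw [commutator_eq_bot_iff_le_centralizer.mpr (le_centralizer_iff.mp h)]
          exact bot_le
    have := (commutator_mono (le_refl Y) hle).trans (commutator_commStab_le Y _)
    rwa [commutator_comm] at this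

/-- **Combined**: `L = E F` with `[E, F] = 1`, `E` as in `layer_action` and `Y` acting coprimely
on `F`. Then `L = [L,Y] C_L(Y)` and `[L,Y] = [L,Y,Y]`. -/
theorem fstar_action [Finite G] {L E F Y : Subgroup G} (𝒦 : Set (Subgroup G)) (hE : E = sSup 𝒦)
    (hL : L = E ⊔ F) (hYL : Y ≤ normalizer (L : Set G))
    (hYE : Y ≤ normalizer (E : Set G)) (hYF : Y ≤ normalizer (F : Set G))
    (hEF : ⁅E, F⁆ = ⊥) (hperf : ∀ K ∈ 𝒦, ⁅K, K⁆ = K)
    (hdich : ∀ K ∈ 𝒦, K ≤ ⁅E, Y⁆ ∨ ⁅K, ⁅E, Y⁆⁆ = ⊥)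
    (hcop : (Nat.card Y).Coprime (Nat.card F))
    (hsolv : Group.IsSolvable Y ∨ Group.IsSolvable F) :
    ⁅L, Y⁆ ⊔ (L ⊓ centralizer (Y : Set G)) = L ∧ ⁅L, Y⁆ = ⁅⁅L, Y⁆, Y⁆ := by
  obtain ⟨hE1, hE2⟩ := layer_action 𝒦 hE hYE hperf hdich
  have hF1 := Helper1.commutator_sup_centralizer Y F hYF hcop hsolv
  have hF2 := Helper1.commutator_commutator_eq Y F hYF hcop hsolv
  have hEL : E ≤ L := hL ▸ le_sup_left
  have hFL : F ≤ L := hL ▸ le_sup_right
  have hLYL : ⁅L, Y⁆ ≤ L := Helper1.commutator_le_of_le_normalizer hYL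
  have hEY : ⁅E, Y⁆ ≤ ⁅L, Y⁆ := commutator_mono hEL le_rfl
  have hFY : ⁅F, Y⁆ ≤ ⁅L, Y⁆ := commutator_mono hFL le_rfl
  constructor
  · apply le_antisymm (sup_le hLYL inf_le_left)
    conv_lhs => rw [hL]
    apply sup_le
    · refine hE1.trans (sup_le (hEY.trans le_sup_left) ?_)
      exact (inf_le_inf_right _ hEL).trans le_sup_right
    · rw [← hF1]
      exact sup_le (hFY.trans le_sup_left) ((inf_le_inf_right _ hFL).trans le_sup_right)
  · have hYLY : Y ≤ normalizer ((⁅L, Y⁆ : Subgroup G) : Set G) :=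
      Helper1.le_normalizer_commutator_right hYL
    apply le_antisymm _ (Helper1.commutator_le_of_le_normalizer hYLY)
    -- `[L,Y] ≤ R := [E,Y] ⊔ [F,Y]`
    have hEcF : E ≤ centralizer (F : Set G) := commutator_eq_bot_iff_le_centralizer.mp hEF
    have hFcE : F ≤ centralizer (E : Set G) := le_centralizer_iff.mp hEcF
    have hFYF : ⁅F, Y⁆ ≤ F := Helper1.commutator_le_of_le_normalizer hYF
    have hEYE : ⁅E, Y⁆ ≤ E := Helper1.commutator_le_of_le_normalizer hYE
    have hEN : E ≤ normalizer ((⁅E, Y⁆ ⊔ ⁅F, Y⁆ : Subgroup G) : Set G) := by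
      refine (le_inf (Helper1.le_normalizer_commutator_left E Y) ?_).trans
        (normalizer_inf_normalizer_le_normalizer_sup _ _)
      exact (hEcF.trans (centralizer_le hFYF)).trans (centralizer_le_normalizer _)
    have hFN : F ≤ normalizer ((⁅E, Y⁆ ⊔ ⁅F, Y⁆ : Subgroup G) : Set G) := by
      refine (le_inf ?_ (Helper1.le_normalizer_commutator_left F Y)).trans
        (normalizer_inf_normalizer_le_normalizer_sup _ _)
      exact (hFcE.trans (centralizer_le hEYE)).trans (centralizer_le_normalizer _)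
    have hle : L ≤ commStab Y (⁅E, Y⁆ ⊔ ⁅F, Y⁆) := by
      rw [hL]
      apply sup_le
      · apply le_commStab hEN
        rw [commutator_comm]; exact le_sup_left
      · apply le_commStab hFN
        rw [commutator_comm]; exact le_sup_right
    have h1 : ⁅L, Y⁆ ≤ ⁅E, Y⁆ ⊔ ⁅F, Y⁆ := by
      have := (commutator_mono (le_refl Y) hle).trans (commutator_commStab_le Y _)
      rwa [commutator_comm] at this
    refine h1.trans (sup_le ?_ ?_)
    · rw [← hE2]; exact commutator_mono hEY le_rfl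
    · rw [← hF2]; exact commutator_mono hFY le_rfl

end Cfsg.Agent.Helper47
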