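import Mathlib
import Cfsg.Agent.Lib.Helper22.Structure
import Cfsg.Agent.Lib.Helper47.FStarAct
import Cfsg.Agent.Lib.Helper47.FStarP

set_option autoImplicit false

namespace Cfsg.Agent.Helper47

open Cfsg Subgroup

variable {G : Type*} [Group G]

theorem le_normalizer_sSup_of_cj_mem {Y : Subgroup G} {S : Set (Subgroup G)}
    (h : ∀ y ∈ Y, ∀ A ∈ S, cj y A ∈ S) : Y ≤ normalizer ((sSup S : Subgroup G) : Set G) := by
  have key : ∀ y ∈ Y, cj y (sSup S) ≤ sSup S := by
    intro y hy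
    unfold cj
    rw [map_le_iff_le_comap]
    apply sSup_le
    intro A hA
    rw [← map_le_iff_le_comap]
    exact le_sSup (h y hy A hA)
  intro y hy
  rw [← cj_eq_self_iff]
  apply le_antisymm (key y hy)
  have := key y⁻¹ (inv_mem hy)
  rw [cj_le_iff, inv_inv] at this
  exact this

/-- **Action of a `p`-group on a subnormal subgroup of `F*(G)`** when `O_p(G) = 1`:
`L = [L,Y] C_L(Y)` and `[L,Y] = [L,Y,Y]`. -/
theorem fstar_action_internal [Finite G] {p : ℕ} [hp : Fact p.Prime] (hO : pCore p G = ⊥)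
    {L Y : Subgroup G} (hY : IsPGroup p Y) (hLsn : L.IsSubnormal)
    (hLF : L ≤ generalizedFittingSubgroup G) (hYL : Y ≤ normalizer (L : Set G)) :
    ⁅L, Y⁆ ⊔ (L ⊓ centralizer (Y : Set G)) = L ∧ ⁅L, Y⁆ = ⁅⁅L, Y⁆, Y⁆ := by
  have hEL : sSup {K : Subgroup G | IsComponent K ∧ K ≤ L} ≤ L := sSup_le fun K hK => hK.2
  have hFL : fittingSubgroup G ⊓ L ≤ L := inf_le_right
  have hL : L = sSup {K : Subgroup G | IsComponent K ∧ K ≤ L} ⊔ (fittingSubgroup G ⊓ L) :=
    le_antisymm (Helper22.subnormal_le_generalizedFitting_decomp hLF hLsn) (sup_le hEL hFL)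
  have hperm : ∀ y ∈ normalizer (L : Set G), ∀ A ∈ {K : Subgroup G | IsComponent K ∧ K ≤ L},
      cj y A ∈ {K : Subgroup G | IsComponent K ∧ K ≤ L} := by
    intro y hy A hA
    refine ⟨Helper22.IsComponent.conj hA.1 y, ?_⟩
    have := cj_mono (a := y) hA.2
    rwa [cj_eq_self_iff.mpr hy] at this
  have hNE : normalizer (L : Set G) ≤
      normalizer ((sSup {K : Subgroup G | IsComponent K ∧ K ≤ L} : Subgroup G) : Set G) :=
    le_normalizer_sSup_of_cj_mem hperm
  have hYE := hYL.trans hNE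
  have hLE := (le_normalizer (H := L)).trans hNE
  have hYF : Y ≤ normalizer ((fittingSubgroup G ⊓ L : Subgroup G) : Set G) :=
    (le_inf le_normalizer_of_normal hYL).trans inf_normalizer_le_normalizer_inf
  have hEF : ⁅sSup {K : Subgroup G | IsComponent K ∧ K ≤ L}, fittingSubgroup G ⊓ L⁆ = ⊥ := by
    rw [eq_bot_iff, ← Helper22.commutator_layer_fittingSubgroup (G := G)]
    exact commutator_mono (sSup_le fun K hK => Helper22.IsComponent.le_layer hK.1) inf_le_left
  have hperf : ∀ K ∈ {K : Subgroup G | IsComponent K ∧ K ≤ L}, ⁅K, K⁆ = K :=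
    fun K hK => Helper22.IsQuasisimple.commutator_eq hK.1.2
  have hEsn : (sSup {K : Subgroup G | IsComponent K ∧ K ≤ L}).IsSubnormal :=
    IsSubnormal.step _ L hEL hLsn (normal_subgroupOf_of_le_normalizer hLE)
  have hMsn : (⁅sSup {K : Subgroup G | IsComponent K ∧ K ≤ L}, Y⁆).IsSubnormal :=
    IsSubnormal.step _ _ (Helper1.commutator_le_of_le_normalizer hYE) hEsn
      (normal_subgroupOf_of_le_normalizer (Helper1.le_normalizer_commutator_left _ Y))
  have hdich : ∀ K ∈ {K : Subgroup G | IsComponent K ∧ K ≤ L},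
      K ≤ ⁅sSup {K : Subgroup G | IsComponent K ∧ K ≤ L}, Y⁆ ∨
      ⁅K, ⁅sSup {K : Subgroup G | IsComponent K ∧ K ≤ L}, Y⁆⁆ = ⊥ :=
    fun K hK => Helper22.component_le_or_commutator_eq_bot hK.1 hMsn
  haveI := Helper22.isNilpotent_fittingSubgroup (G := G)
  have hFcop : (Nat.card (fittingSubgroup G)).Coprime p := card_coprime_of_normal_nilpotent hO _
  have hcop : (Nat.card Y).Coprime (Nat.card ↥(fittingSubgroup G ⊓ L)) := by
    obtain ⟨n, hn⟩ := IsPGroup.iff_card.mp hY
    rw [hn]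
    apply Nat.Coprime.pow_left
    exact (Nat.Coprime.coprime_dvd_left (card_dvd_of_le inf_le_left) hFcop).symm
  have hsolv : Group.IsSolvable Y ∨ Group.IsSolvable ↥(fittingSubgroup G ⊓ L) :=
    Or.inl (by haveI := hY.isNilpotent; infer_instance)
  exact fstar_action _ rfl hL hYL hYE hYF hEF hperf hdich hcop hsolv

end Cfsg.Agent.Helper47
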