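import Mathlib
import Cfsg.Prelude.Def_LocalStructure
import Cfsg.Prelude.Def_Amalgam
import Cfsg.Agent.S2801
import Cfsg.Agent.Lib.Helper48.PReduced
import Cfsg.Agent.Lib.Helper46.Omega
import Cfsg.Agent.Lib.Helper47.Comm
import Cfsg.Agent.Lib.Helper47.Conj

set_option autoImplicit false

namespace Cfsg.Agent.Helper47

open Cfsg Subgroup

section inL

variable {L : Type*} [Group L] {p : ℕ}

/-- Under characteristic `p`, `Y_L` is itself `p`-reduced (from `S2801`). -/
theorem isPReducedNormal_largestPReduced [Finite L] [Fact p.Prime]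
    (hchar : centralizer (pCore p L : Set L) ≤ pCore p L) :
    IsPReducedNormal p (largestPReduced p L) := by
  obtain ⟨Y, hY, hmax⟩ := Cfsg.Agent.S2801.result hchar
  have : largestPReduced p L = Y := le_antisymm (sSup_le hmax) (le_sSup hY)
  rw [this]; exact hY

theorem le_largestPReduced {V : Subgroup L} (hV : IsPReducedNormal p V) :
    V ≤ largestPReduced p L := le_sSup hV

/-- `Ω₁(Z(S))`, elementwise. -/
def omegaZ (p : ℕ) (S : Subgroup L) : Subgroup L where
  carrier := {x | x ∈ S ∧ x ∈ centralizer (S : Set L) ∧ x ^ p = 1}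
  one_mem' := ⟨one_mem _, one_mem _, one_pow _⟩
  mul_mem' := by
    rintro a b ⟨ha1, ha2, ha3⟩ ⟨hb1, hb2, hb3⟩
    refine ⟨mul_mem ha1 hb1, mul_mem ha2 hb2, ?_⟩
    have hc : Commute a b := (mem_centralizer_iff.mp hb2 a ha1)
    rw [hc.mul_pow, ha3, hb3, one_mul]
  inv_mem' := by
    rintro a ⟨ha1, ha2, ha3⟩
    exact ⟨inv_mem ha1, inv_mem ha2, by rw [inv_pow, ha3, inv_one]⟩

theorem mem_omegaZ {S : Subgroup L} {x : L} :
    x ∈ omegaZ p S ↔ x ∈ S ∧ x ∈ centralizer (S : Set L) ∧ x ^ p = 1 := Iff.rfl

theorem omegaZ_sylow_le_omegaZCore [Finite L] [Fact p.Prime]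
    (hchar : centralizer (pCore p L : Set L) ≤ pCore p L) (S : Sylow p L) :
    omegaZ p (S : Subgroup L) ≤ Helper46.omegaZCore p L := by
  intro x hx
  have hQS : pCore p L ≤ S := Helper46.pCore_le_sylow S
  have h2 : x ∈ centralizer (pCore p L : Set L) := centralizer_le hQS hx.2.1
  exact ⟨hchar h2, h2, hx.2.2⟩

/-- The normal closure of `Ω₁(Z(S))` is `p`-reduced in a group of characteristic `p`. -/
theorem normalClosure_omegaZ_isPReducedNormal [Finite L] [Fact p.Prime]
    (hchar : centralizer (pCore p L : Set L) ≤ pCore p L) (S : Sylow p L) :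
    IsPReducedNormal p (normalClosure (omegaZ p (S : Subgroup L) : Set L)) := by
  set A := omegaZ p (S : Subgroup L) with hA
  set V := normalClosure (A : Set L) with hV
  have hVE : V ≤ Helper46.omegaZCore p L :=
    normalClosure_le_normal (omegaZ_sylow_le_omegaZCore hchar S)
  have hVn : V.Normal := normalClosure_normal
  haveI := hVn
  have hCn : (centralizer (V : Set L)).Normal := inferInstance
  refine ⟨hVn, Helper46.isElementaryAbelian_of_le_omegaZCore hVE, hCn, ?_⟩
  apply Helper46.pCore_quotient_eq_bot_of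
  intro D hD hpow
  have h1 : D ≤ centralizer (A : Set L) := by
    intro d hd
    obtain ⟨c, hc, t, ht, rfl⟩ := Helper46.exists_mul_of_pow_mem hD hpow S d hd
    rw [mem_centralizer_iff]
    intro a ha
    have hca : a * c = c * a := mem_centralizer_iff.mp hc a (subset_normalClosure ha)
    have hta : a * t = t * a := (mem_centralizer_iff.mp ha.2.1 t ht).symm
    calc a * (c * t) = c * a * t := by rw [← mul_assoc, hca]
      _ = c * t * a := by rw [mul_assoc, hta, ← mul_assoc]
  have h2 : A ≤ centralizer (D : Set L) := le_centralizer_iff.mp h1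
  haveI := hD
  have h3 : V ≤ centralizer (D : Set L) := normalClosure_le_normal h2
  exact le_centralizer_iff.mp h3

theorem omegaZ_le_largestPReduced [Finite L] [Fact p.Prime]
    (hchar : centralizer (pCore p L : Set L) ≤ pCore p L) (S : Sylow p L) :
    omegaZ p (S : Subgroup L) ≤ largestPReduced p L :=
  le_trans (fun _ hx => subset_normalClosure hx)
    (le_largestPReduced (normalClosure_omegaZ_isPReducedNormal hchar S))

end inL

section inH

variable {H : Type*} [Group H] {p : ℕ}

/-- `N(Y) ≤ N(C(Y))`. -/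
theorem normalizer_le_normalizer_centralizer (Y : Subgroup H) :
    normalizer (Y : Set H) ≤ normalizer ((centralizer (Y : Set H) : Subgroup H) : Set H) := by
  intro g hg
  rw [← cj_eq_self_iff, ← centralizer_cj, cj_eq_self_iff.mpr hg]

/-- `Z_L ≤ Y_L` for `L` of characteristic `p`. -/
theorem sylowCenterClosure_le_largestPReducedOf [Fact p.Prime] (L : Subgroup H) [Finite L]
    (hL : centralizer (pCore p ↥L : Set ↥L) ≤ pCore p ↥L) :
    sylowCenterClosure p L ≤ largestPReducedOf p L := by
  unfold sylowCenterClosure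
  apply iSup_le
  intro S
  unfold omegaOne
  rw [closure_le]
  rintro x ⟨⟨hxS, hxC⟩, hxp⟩
  obtain ⟨y, hy, rfl⟩ := hxS
  refine ⟨y, omegaZ_le_largestPReduced hL S ⟨hy, ?_, ?_⟩, rfl⟩
  · rw [mem_centralizer_iff]
    intro s hs
    apply Subtype.ext
    have := mem_centralizer_iff.mp hxC (s : H) ⟨s, hs, rfl⟩
    simpa using this
  · apply Subtype.ext
    simpa using hxp

/-- If a Sylow `p`-subgroup `T` normalizes `C`, then `T ∩ C` has `p'`-index in `C`. -/
theorem not_dvd_relIndex_of_le_normalizer [Finite H] [Fact p.Prime] (T : Sylow p H)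
    (C : Subgroup H) (h : (T : Subgroup H) ≤ normalizer (C : Set H)) :
    ¬ p ∣ (T : Subgroup H).relIndex C := by
  haveI : (C.subgroupOf (normalizer (C : Set H))).Normal := normal_in_normalizer
  have := Helper46.not_dvd_relIndex_normal (T.subtype h) (C.subgroupOf (normalizer (C : Set H)))
  rwa [Sylow.coe_subtype, relIndex_subgroupOf le_normalizer] at this

/-- If a Sylow `p`-subgroup `T` normalizes `C`, then `T ∩ C` is a Sylow `p`-subgroup of `C`. -/
theorem exists_sylow_inf_of_le_normalizer [Finite H] [Fact p.Prime] (T : Sylow p H)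
    (C : Subgroup H) (h : (T : Subgroup H) ≤ normalizer (C : Set H)) :
    ∃ P : Sylow p ↥C, (P : Subgroup ↥C) = ((T : Subgroup H) ⊓ C).subgroupOf C := by
  have hp : IsPGroup p (((T : Subgroup H) ⊓ C).subgroupOf C) :=
    (T.isPGroup'.to_le inf_le_left).comap_subtype
  have hidx : ¬ p ∣ (((T : Subgroup H) ⊓ C).subgroupOf C).index := by
    have := not_dvd_relIndex_of_le_normalizer T C h
    rwa [← inf_relIndex_right] at this
  exact ⟨hp.toSylow hidx, rfl⟩

end inH

end Cfsg.Agent.Helper47
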