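import Mathlib
import Cfsg.Agent.Lib.Helper47.FStarAct2
import Cfsg.Agent.Lib.Helper47.Frat2
import Cfsg.Agent.Lib.Helper47.PRed
import Cfsg.Agent.Lib.Helper47.Transfer

set_option autoImplicit false

namespace Cfsg.Agent.Helper47

open Cfsg Subgroup
open scoped commutatorElement

variable {G : Type*} [Group G]

theorem cj_sup (g : G) (A B : Subgroup G) : cj g (A ⊔ B) = cj g A ⊔ cj g B := by
  unfold cj
  exact map_sup _ _ _

theorem cj_commutator (g : G) (A B : Subgroup G) : cj g ⁅A, B⁆ = ⁅cj g A, cj g B⁆ := by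
  unfold cj
  exact map_commutator _ _ _

theorem normalizer_inf_normalizer_le_normalizer_sup (A B : Subgroup G) :
    normalizer (A : Set G) ⊓ normalizer (B : Set G) ≤ normalizer ((A ⊔ B : Subgroup G) : Set G) := by
  intro g hg
  rw [← cj_eq_self_iff, cj_sup, cj_eq_self_iff.mpr hg.1, cj_eq_self_iff.mpr hg.2]

theorem normalizer_inf_normalizer_le_normalizer_commutator (A B : Subgroup G) :
    normalizer (A : Set G) ⊓ normalizer (B : Set G) ≤ normalizer ((⁅A, B⁆ : Subgroup G) : Set G) := by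
  intro g hg
  rw [← cj_eq_self_iff, cj_commutator, cj_eq_self_iff.mpr hg.1, cj_eq_self_iff.mpr hg.2]

theorem centralizer_sup_eq (A B : Subgroup G) :
    centralizer ((A ⊔ B : Subgroup G) : Set G) = centralizer (A : Set G) ⊓ centralizer (B : Set G) := by
  apply le_antisymm
  · exact le_inf (centralizer_le (by exact_mod_cast (le_sup_left : A ≤ A ⊔ B)))
      (centralizer_le (by exact_mod_cast (le_sup_right : B ≤ A ⊔ B)))
  · rw [le_centralizer_iff]
    apply sup_le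
    · rw [← le_centralizer_iff]; exact inf_le_left
    · rw [← le_centralizer_iff]; exact inf_le_right

theorem commutatorElement_mul_central (m₁ m₂ c₁ c₂ : G) (h1 : ∀ g, g * c₁ = c₁ * g)
    (h2 : ∀ g, g * c₂ = c₂ * g) : ⁅m₁ * c₁, m₂ * c₂⁆ = ⁅m₁, m₂⁆ := by
  rw [commutatorElement_def, commutatorElement_def]
  rw [mul_inv_rev, mul_inv_rev]
  have : m₁ * c₁ * (m₂ * c₂) * (c₁⁻¹ * m₁⁻¹) * (c₂⁻¹ * m₂⁻¹) =
      m₁ * (c₁ * (m₂ * (c₂ * c₁⁻¹))) * m₁⁻¹ * c₂⁻¹ * m₂⁻¹ := by group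
  rw [this, ← h1 (m₂ * (c₂ * c₁⁻¹))]
  have : m₁ * (m₂ * (c₂ * c₁⁻¹) * c₁) * m₁⁻¹ * c₂⁻¹ * m₂⁻¹ =
      m₁ * m₂ * (c₂ * m₁⁻¹) * c₂⁻¹ * m₂⁻¹ := by group
  rw [this, ← h2 m₁⁻¹]
  group

/-- `Z(G) ∩ G' ≤ Φ(G)`. -/
theorem center_inf_commutator_le_frattini : center G ⊓ commutator G ≤ frattini G := by
  apply le_frattini_of_forall_coatom
  intro M hM z hz
  by_contra hzM
  have hsup : M ⊔ zpowers z = ⊤ := by
    apply hM.2
    apply lt_of_le_of_ne le_sup_left
    intro h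
    apply hzM
    rw [h]
    exact mem_sup_right (mem_zpowers z)
  have hzc : zpowers z ≤ center G := by
    rw [zpowers_le]; exact hz.1
  have hzn : zpowers z ≤ normalizer (M : Set G) := hzc.trans (center_le_normalizer _)
  have hcomm : commutator G ≤ M := by
    rw [_root_.commutator_def, commutator_le]
    intro a _ b _
    have ha : a ∈ M ⊔ zpowers z := hsup ▸ mem_top a
    have hb : b ∈ M ⊔ zpowers z := hsup ▸ mem_top b
    obtain ⟨m₁, hm₁, c₁, hc₁, rfl⟩ := exists_mul_of_mem_sup_of_le_normalizer hzn ha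
    obtain ⟨m₂, hm₂, c₂, hc₂, rfl⟩ := exists_mul_of_mem_sup_of_le_normalizer hzn hb
    rw [commutatorElement_mul_central m₁ m₂ c₁ c₂ (mem_center_iff.mp (hzc hc₁))
      (mem_center_iff.mp (hzc hc₂))]
    rw [commutatorElement_def]
    exact M.mul_mem (M.mul_mem (M.mul_mem hm₁ hm₂) (M.inv_mem hm₁)) (M.inv_mem hm₂)
  exact hzM (hcomm hz.2)

/-- If `O_p(G) = 1`, `L` is a subnormal subgroup of `F*(G)` normalized by the `p`-group `Q` and
`L = [L,Q]`, then `C_L(Q) ≤ L'`. -/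
theorem mem_commutator_of_mem_centralizer [Finite G] {p : ℕ} [hp : Fact p.Prime]
    (hO : pCore p G = ⊥) {L Q : Subgroup G} (hQ : IsPGroup p Q) (hLsn : L.IsSubnormal)
    (hLF : L ≤ generalizedFittingSubgroup G) (hQL : Q ≤ normalizer (L : Set G))
    (hLQ : ⁅L, Q⁆ = L) {z : G} (hzL : z ∈ L) (hzQ : z ∈ centralizer (Q : Set G)) :
    (⟨z, hzL⟩ : ↥L) ∈ commutator ↥L := by
  classical
  -- the action of `Q` on `L`
  let θ : ↥Q →* MulAut ↥L := L.normalizerMonoidHom.comp (inclusion hQL)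
  have hθ : ∀ (q : ↥Q) (l : ↥L), ((θ q l : ↥L) : G) = q * l * (q : G)⁻¹ := fun q l => rfl
  have : Fintype ↥Q := Fintype.ofFinite _
  let N : ↥L →* Abelianization ↥L := ∏ q : ↥Q, (Abelianization.of).comp (θ q).toMonoidHom
  have hN : ∀ l, N l = ∏ q : ↥Q, Abelianization.of (θ q l) := by
    intro l
    simp [N]
  have hNinv : ∀ (x : ↥Q) l, N (θ x l) = N l := by
    intro x l
    rw [hN, hN]
    have : ∀ q : ↥Q, Abelianization.of (θ q (θ x l)) = Abelianization.of (θ (q * x) l) := by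
      intro q; rw [map_mul]; rfl
    simp_rw [this]
    exact Equiv.prod_comp (Equiv.mulRight x) (fun q => Abelianization.of (θ q l))
  -- `N` is trivial since `L = [L,Q]`
  have hNtriv : ∀ l, N l = 1 := by
    have : L ≤ N.ker.map L.subtype := by
      conv_lhs => rw [← hLQ]
      rw [commutator_le]
      intro l hl x hx
      refine ⟨⟨l, hl⟩ * (θ ⟨x, hx⟩ ⟨l, hl⟩)⁻¹, ?_, ?_⟩
      · rw [SetLike.mem_coe, MonoidHom.mem_ker, map_mul, map_inv, hNinv, mul_inv_cancel]
      · simp [hθ, commutatorElement_def, mul_assoc]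
    intro l
    obtain ⟨l', hl', e⟩ := this l.2
    have : l' = l := Subtype.ext e
    rw [← this]
    exact hl'
  -- `N z = (of z) ^ |Q|`
  have hz1 : (Abelianization.of (⟨z, hzL⟩ : ↥L)) ^ Nat.card ↥Q = 1 := by
    rw [← hNtriv ⟨z, hzL⟩, hN]
    have : ∀ q : ↥Q, θ q ⟨z, hzL⟩ = ⟨z, hzL⟩ := by
      intro q
      apply Subtype.ext
      rw [hθ]
      have := mem_centralizer_iff.mp hzQ q q.2
      simp only
      rw [this, mul_inv_cancel_right]
    simp_rw [this]
    rw [Finset.prod_const, Finset.card_univ, Nat.card_eq_fintype_card]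
  -- the `p'`-part
  have hE : sSup {K : Subgroup G | IsComponent K ∧ K ≤ L} ≤ ⁅L, L⁆ := by
    apply sSup_le
    intro K hK
    rw [← Helper22.IsQuasisimple.commutator_eq hK.1.2]
    exact commutator_mono hK.2 hK.2
  have hdec : L ≤ ⁅L, L⁆ ⊔ (fittingSubgroup G ⊓ L) :=
    (Helper22.subnormal_le_generalizedFitting_decomp hLF hLsn).trans (sup_le_sup_right hE _)
  have hAn : fittingSubgroup G ⊓ L ≤ normalizer ((⁅L, L⁆ : Subgroup G) : Set G) :=
    inf_le_right.trans (Helper1.le_normalizer_commutator_left L L)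
  obtain ⟨c, hc, a, ha, hza⟩ := exists_mul_of_mem_sup_of_le_normalizer hAn (hdec hzL)
  have hcL : c ∈ L := commutator_le_self L hc
  have hc' : (⟨c, hcL⟩ : ↥L) ∈ commutator ↥L := by
    rw [← map_subtype_commutator] at hc
    obtain ⟨c', hc', e⟩ := hc
    have : c' = ⟨c, hcL⟩ := Subtype.ext e
    rwa [← this]
  have hz2 : (Abelianization.of (⟨z, hzL⟩ : ↥L)) ^ Nat.card ↥(fittingSubgroup G ⊓ L) = 1 := by
    have e1 : (⟨z, hzL⟩ : ↥L) = ⟨c, hcL⟩ * ⟨a, ha.2⟩ := Subtype.ext hza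
    have e2 : Abelianization.of (⟨c, hcL⟩ : ↥L) = 1 := by
      rw [← MonoidHom.mem_ker, Abelianization.ker_of]; exact hc'
    rw [e1, map_mul, e2, one_mul, ← map_pow]
    have e3 : (⟨a, ha.2⟩ : ↥L) ^ Nat.card ↥(fittingSubgroup G ⊓ L) = 1 := by
      apply Subtype.ext
      have := pow_card_eq_one' (G := ↥(fittingSubgroup G ⊓ L)) (x := ⟨a, ha⟩)
      have := congrArg Subtype.val this
      simpa using this
    rw [e3, map_one]
  haveI := Helper22.isNilpotent_fittingSubgroup (G := G)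
  have hFcop : (Nat.card (fittingSubgroup G)).Coprime p := card_coprime_of_normal_nilpotent hO _
  obtain ⟨n, hn⟩ := IsPGroup.iff_card.mp hQ
  have hcop : (Nat.card ↥(fittingSubgroup G ⊓ L)).Coprime (p ^ n) :=
    Nat.Coprime.pow_right _ (Nat.Coprime.coprime_dvd_left (card_dvd_of_le inf_le_left) hFcop)
  rw [hn] at hz1
  have h1 : Abelianization.of (⟨z, hzL⟩ : ↥L) ∈ (⊥ : Subgroup (Abelianization ↥L)) :=
    mem_of_pow_mem_of_pow_eq_one hcop hz1 (by rw [hz2]; exact one_mem _)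
  rw [mem_bot, ← MonoidHom.mem_ker, Abelianization.ker_of] at h1
  exact h1

end Cfsg.Agent.Helper47
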