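import Mathlib
import Cfsg.Agent.Lib.Helper47.PRed

set_option autoImplicit false

namespace Cfsg.Agent.Helper47

open Cfsg Subgroup

variable {H : Type*} [Group H] {p : ℕ}

theorem mem_centralizer_map_subtype {M : Subgroup H} {V : Subgroup ↥M} {x : ↥M} :
    x ∈ centralizer (V : Set ↥M) ↔
      (x : H) ∈ centralizer ((V.map M.subtype : Subgroup H) : Set H) := by
  rw [mem_centralizer_iff, mem_centralizer_iff]
  constructor
  · rintro h _ ⟨v, hv, rfl⟩
    exact congrArg Subtype.val (h v hv)
  · intro h v hv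
    apply Subtype.ext
    exact h (v : H) ⟨v, hv, rfl⟩

/-- `H`-level reformulation of "`O_p(M / C_M(Y)) = 1`". -/
def RedIn (p : ℕ) (M Y : Subgroup H) : Prop :=
  ∀ E : Subgroup H, E ≤ M → M ≤ normalizer (E : Set H) →
    (∀ e ∈ E, ∃ k : ℕ, e ^ p ^ k ∈ centralizer (Y : Set H)) → E ≤ centralizer (Y : Set H)

theorem redIn_of_pCore_quotient_eq_bot {M : Subgroup H} (V : Subgroup ↥M)
    [hn : (centralizer (V : Set ↥M)).Normal]
    (h : pCore p (↥M ⧸ centralizer (V : Set ↥M)) = ⊥) : RedIn p M (V.map M.subtype) := by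
  intro E hEM hME hpow
  have hD : (E.subgroupOf M).Normal := normal_subgroupOf_of_le_normalizer hME
  have hle : E.subgroupOf M ≤ centralizer (V : Set ↥M) := by
    apply Helper46.le_of_pCore_quotient_eq_bot h hD
    intro d hd
    obtain ⟨k, hk⟩ := hpow (d : H) hd
    refine ⟨k, ?_⟩
    rw [mem_centralizer_map_subtype]
    simpa using hk
  intro e he
  have := hle (show (⟨e, hEM he⟩ : ↥M) ∈ E.subgroupOf M from he)
  rw [mem_centralizer_map_subtype] at this
  exact this

theorem pCore_quotient_eq_bot_of_redIn {M : Subgroup H} (V : Subgroup ↥M)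
    [hn : (centralizer (V : Set ↥M)).Normal]
    (h : RedIn p M (V.map M.subtype)) : pCore p (↥M ⧸ centralizer (V : Set ↥M)) = ⊥ := by
  apply Helper46.pCore_quotient_eq_bot_of
  intro D hD hpow
  haveI := hD
  have hE : D.map M.subtype ≤ centralizer ((V.map M.subtype : Subgroup H) : Set H) := by
    apply h
    · rintro _ ⟨d, -, rfl⟩; exact d.2
    · exact Helper48.le_normalizer_map_subtype_of_normal M D
    · rintro _ ⟨d, hd, rfl⟩
      obtain ⟨k, hk⟩ := hpow d hd
      refine ⟨k, ?_⟩
      rw [mem_centralizer_map_subtype] at hk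
      simpa using hk
  intro d hd
  rw [mem_centralizer_map_subtype]
  exact hE ⟨d, hd, rfl⟩

/-- `(c d)^n ≡ d^n` modulo `C` when `d` normalizes `C ∋ c`. -/
theorem mul_pow_mul_inv_mem {C : Subgroup H} {c d : H} (hc : c ∈ C)
    (hd : d ∈ normalizer (C : Set H)) (n : ℕ) : (c * d) ^ n * (d ^ n)⁻¹ ∈ C := by
  induction n with
  | zero => simp
  | succ n ih =>
    have h1 : d ^ n * c * (d ^ n)⁻¹ ∈ C :=
      (mem_normalizer_iff.mp (pow_mem hd n) c).mp hc
    have : (c * d) ^ (n + 1) * (d ^ (n + 1))⁻¹ =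
        ((c * d) ^ n * (d ^ n)⁻¹) * (d ^ n * c * (d ^ n)⁻¹) := by
      rw [pow_succ, pow_succ]; group
    rw [this]
    exact mul_mem ih h1

theorem pow_mem_of_mul {C : Subgroup H} {c d : H} (hc : c ∈ C)
    (hd : d ∈ normalizer (C : Set H)) {n : ℕ} (h : d ^ n ∈ C) : (c * d) ^ n ∈ C := by
  have := mul_mem (mul_pow_mul_inv_mem hc hd n) h
  simpa using this

/-- Transfer of `p`-reducedness along `L C = M C`. -/
theorem redIn_of_sup_eq {Y L M : Subgroup H} (hMN : M ≤ normalizer (Y : Set H))
    (hsup : L ⊔ centralizer (Y : Set H) = M ⊔ centralizer (Y : Set H))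
    (hred : RedIn p M Y) : RedIn p L Y := by
  set C := centralizer (Y : Set H) with hC
  have hNC : normalizer (Y : Set H) ≤ normalizer ((C : Subgroup H) : Set H) :=
    normalizer_le_normalizer_centralizer Y
  have hCN : C ≤ normalizer (Y : Set H) := centralizer_le_normalizer _
  have hLN : L ≤ normalizer (Y : Set H) :=
    le_sup_left.trans (hsup.le.trans (sup_le hMN hCN))
  intro D hDL hLD hpow
  -- the auxiliary subgroup
  have hDNC : D ≤ normalizer ((C : Subgroup H) : Set H) := hDL.trans (hLN.trans hNC)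
  have hMNC : M ≤ normalizer ((C : Subgroup H) : Set H) := hMN.trans hNC
  have hE : (C ⊔ D) ⊓ M ≤ C := by
    apply hred
    · exact inf_le_right
    · have h1 : L ⊔ C ≤ normalizer (((C ⊔ D : Subgroup H)) : Set H) := by
        apply sup_le
        · exact (le_inf (hLN.trans hNC) hLD).trans
            (normalizer_inf_normalizer_le_normalizer_sup C D)
        · exact le_sup_left.trans le_normalizer
      have h2 : M ≤ normalizer (((C ⊔ D : Subgroup H)) : Set H) :=
        le_sup_left.trans (hsup.ge.trans h1)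
      exact (le_inf h2 le_normalizer).trans inf_normalizer_le_normalizer_inf
    · intro e he
      obtain ⟨c, hc, d, hd, rfl⟩ := exists_mul_of_mem_sup_of_le_normalizer hDNC he.1
      obtain ⟨k, hk⟩ := hpow d hd
      exact ⟨k, pow_mem_of_mul hc (hDNC hd) hk⟩
  intro d hd
  have hd' : d ∈ C ⊔ M := by
    rw [sup_comm, ← hsup]; exact mem_sup_left (hDL hd)
  obtain ⟨c, hc, m, hm, rfl⟩ := exists_mul_of_mem_sup_of_le_normalizer hMNC hd'
  have hmE : m ∈ (C ⊔ D) ⊓ M := by
    refine ⟨?_, hm⟩
    have : m = c⁻¹ * (c * m) := by group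
    rw [this]
    exact mul_mem (mem_sup_left (inv_mem hc)) (mem_sup_right hd)
  exact mul_mem hc (hE hmE)

/-- If `Y ≤ L` is normalized by `L`, elementary abelian, and `RedIn p L Y`, then
`Y ≤ Y_L`. -/
theorem le_largestPReducedOf_of_redIn {Y L : Subgroup H} (hYL : Y ≤ L)
    (hLN : L ≤ normalizer (Y : Set H)) (hY : IsElementaryAbelian p Y) (hred : RedIn p L Y) :
    Y ≤ largestPReducedOf p L := by
  have hmap : (Y.subgroupOf L).map L.subtype = Y := by
    rw [subgroupOf_map_subtype, inf_eq_left.mpr hYL]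
  have hVn : (Y.subgroupOf L).Normal := normal_subgroupOf_of_le_normalizer hLN
  haveI := hVn
  have hCn : (centralizer ((Y.subgroupOf L : Subgroup ↥L) : Set ↥L)).Normal := inferInstance
  have hV : IsPReducedNormal p (Y.subgroupOf L) := by
    refine ⟨hVn, ⟨?_, ?_⟩, hCn, ?_⟩
    · haveI := hY.1
      infer_instance
    · intro a ha
      apply Subtype.ext
      simpa using hY.2 (a : H) ha
    · apply pCore_quotient_eq_bot_of_redIn
      rw [hmap]; exact hred
  have := Subgroup.map_mono (f := L.subtype) (le_largestPReduced hV)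
  rw [hmap] at this
  exact this

/-- `RedIn p M Y_M` for `M` of characteristic `p`. -/
theorem redIn_largestPReducedOf [Fact p.Prime] (M : Subgroup H) [Finite M]
    (hM : centralizer (pCore p ↥M : Set ↥M) ≤ pCore p ↥M) :
    RedIn p M (largestPReducedOf p M) := by
  obtain ⟨_, _, hCn, hO⟩ := isPReducedNormal_largestPReduced hM
  exact redIn_of_pCore_quotient_eq_bot (largestPReduced p ↥M) hO

/-- `L C(Y_M) = M C(Y_M)` and `Y_M ≤ L` imply `Y_M ≤ Y_L`. -/
theorem largestPReducedOf_le_of_sup_eq [Fact p.Prime] (L M : Subgroup H) [Finite M]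
    (hM : centralizer (pCore p ↥M : Set ↥M) ≤ pCore p ↥M)
    (hYL : largestPReducedOf p M ≤ L)
    (hsup : L ⊔ centralizer ((largestPReducedOf p M : Subgroup H) : Set H) =
      M ⊔ centralizer ((largestPReducedOf p M : Subgroup H) : Set H)) :
    largestPReducedOf p M ≤ largestPReducedOf p L := by
  have hMN := Helper48.le_normalizer_largestPReducedOf (p := p) M
  have hLN : L ≤ normalizer ((largestPReducedOf p M : Subgroup H) : Set H) :=
    le_sup_left.trans (hsup.le.trans (sup_le hMN (centralizer_le_normalizer _)))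
  exact le_largestPReducedOf_of_redIn hYL hLN (Helper48.isElementaryAbelian_largestPReducedOf M)
    (redIn_of_sup_eq hMN hsup (redIn_largestPReducedOf M hM))

/-- `Y_M ≤ O_p(M)`. -/
theorem largestPReducedOf_le_pCoreOf [Fact p.Prime] (M : Subgroup H) :
    largestPReducedOf p M ≤ pCoreOf p M := by
  rintro _ ⟨y, hy, rfl⟩
  exact ⟨y, (Helper48.largestPReduced_le_omegaZCore hy).1, rfl⟩

/-- `O_p(M) ≤ T` for a Sylow `p`-subgroup `T ≤ M` of the ambient group. -/
theorem pCoreOf_le_sylow [Fact p.Prime] (T : Sylow p H) (M : Subgroup H)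
    (hTM : (T : Subgroup H) ≤ M) : pCoreOf p M ≤ (T : Subgroup H) := by
  rintro _ ⟨x, hx, rfl⟩
  have h1 : x ∈ ((T.subtype hTM : Sylow p ↥M) : Subgroup ↥M) := Helper46.pCore_le_sylow _ hx
  rw [Sylow.coe_subtype, mem_subgroupOf] at h1
  exact h1

end Cfsg.Agent.Helper47
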