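import Mathlib
import Cfsg.Agent.Lib.Helper47.PRed2
import Cfsg.Agent.S2803

set_option autoImplicit false

namespace Cfsg.Agent.Helper47

open Cfsg Subgroup

variable {H : Type*} [Group H] {p : ℕ}

/-- A normal `p`-subgroup of `K` (in the ambient group) lies in `O_p(K)`. -/
theorem le_pCoreOf {Q K : Subgroup H} (hQK : Q ≤ K) (hKN : K ≤ normalizer (Q : Set H))
    (hQ : IsPGroup p Q) : Q ≤ pCoreOf p K := by
  have hn : (Q.subgroupOf K).Normal := normal_subgroupOf_of_le_normalizer hKN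
  have hp : IsPGroup p (Q.subgroupOf K) := hQ.comap_subtype
  intro q hq
  exact ⟨⟨q, hQK hq⟩, Helper46.le_pCore hn hp (show (⟨q, hQK hq⟩ : ↥K) ∈ Q.subgroupOf K from hq), rfl⟩

/-- A subgroup `K` with `T ≤ K ≤ M` of a group `M` of characteristic `p` has characteristic `p`. -/
theorem charP_of_sylow_le [Fact p.Prime] (T : Sylow p H) {K M : Subgroup H}
    (hTK : (T : Subgroup H) ≤ K) (hKM : K ≤ M)
    (hM : centralizer (pCore p ↥M : Set ↥M) ≤ pCore p ↥M) :
    centralizer (pCore p ↥K : Set ↥K) ≤ pCore p ↥K := by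
  have hQT : pCoreOf p M ≤ (T : Subgroup H) := pCoreOf_le_sylow T M (hTK.trans hKM)
  have hQK : pCoreOf p M ≤ K := hQT.trans hTK
  have hQle : pCoreOf p M ≤ pCoreOf p K :=
    le_pCoreOf hQK (hKM.trans (Helper48.le_normalizer_pCoreOf M)) (Helper48.isPGroup_pCoreOf M)
  intro x hx
  -- `x` centralizes `O_p(M)`
  have h1 : (⟨(x : H), hKM x.2⟩ : ↥M) ∈ centralizer (pCore p ↥M : Set ↥M) := by
    rw [mem_centralizer_iff]
    intro z hz
    apply Subtype.ext
    obtain ⟨w, hw, hwz⟩ := hQle ⟨z, hz, rfl⟩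
    have := mem_centralizer_iff.mp hx w hw
    have h2 := congrArg Subtype.val this
    simp only [Subgroup.coe_mul] at h2
    have hwz' : (w : H) = (z : H) := hwz
    rw [hwz'] at h2
    exact h2
  have h2 := hM h1
  obtain ⟨w, hw, hwx⟩ := hQle ⟨_, h2, rfl⟩
  have : w = x := Subtype.ext hwx
  rw [← this]; exact hw

/-- Frattini argument: if `T ≤ M ≤ N(C)`, then `M ≤ N_M(T ∩ C) C`. -/
theorem le_inf_normalizer_sup [Finite H] [Fact p.Prime] (T : Sylow p H) {M C : Subgroup H}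
    (hTM : (T : Subgroup H) ≤ M) (hMC : M ≤ normalizer (C : Set H)) :
    M ≤ (M ⊓ normalizer ((((T : Subgroup H) ⊓ C : Subgroup H)) : Set H)) ⊔ C := by
  haveI hCn : (C.subgroupOf M).Normal := normal_subgroupOf_of_le_normalizer hMC
  have hfr := Helper46.frattini_inf (T.subtype hTM) (C.subgroupOf M)
  intro m hm
  have hm' : (⟨m, hm⟩ : ↥M) ∈ normalizer ((((T.subtype hTM : Sylow p ↥M) : Subgroup ↥M) ⊓
      C.subgroupOf M : Subgroup ↥M) : Set ↥M) ⊔ C.subgroupOf M := by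
    rw [hfr]; exact mem_top _
  rw [← SetLike.mem_coe, mul_normal] at hm'
  obtain ⟨a, ha, c, hc, hac⟩ := Set.mem_mul.mp hm'
  have hac' : m = (a : H) * (c : H) := by
    have := congrArg Subtype.val hac
    simpa using this.symm
  rw [hac']
  refine mul_mem (mem_sup_left ⟨a.2, ?_⟩) (mem_sup_right hc)
  have hsub : ((T.subtype hTM : Sylow p ↥M) : Subgroup ↥M) ⊓ C.subgroupOf M =
      ((T : Subgroup H) ⊓ C).subgroupOf M := by
    rw [Sylow.coe_subtype]
    ext y
    simp only [mem_inf, mem_subgroupOf]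
  rw [SetLike.mem_coe, hsub, ← subgroupOf_normalizer_eq (inf_le_left.trans hTM),
    mem_subgroupOf] at ha
  exact ha

/-- `Y_L = Ω₁ Z(C_T(Y_L))`, elementwise (from `S2803`). -/
theorem mem_largestPReducedOf_of_mem_center [Finite H] [Fact p.Prime] (T : Sylow p H)
    {L : Subgroup H} (hTL : (T : Subgroup H) ≤ L)
    (hL : centralizer (pCore p ↥L : Set ↥L) ≤ pCore p ↥L) {x : H}
    (hx : x ∈ (T : Subgroup H) ⊓ centralizer ((largestPReducedOf p L : Subgroup H) : Set H))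
    (hxc : x ∈ centralizer ((((T : Subgroup H) ⊓
      centralizer ((largestPReducedOf p L : Subgroup H) : Set H) : Subgroup H)) : Set H))
    (hxp : x ^ p = 1) : x ∈ largestPReducedOf p L := by
  have hY : IsPReducedNormal p (largestPReduced p ↥L) ∧
      ∀ V : Subgroup ↥L, IsPReducedNormal p V → V ≤ largestPReduced p ↥L :=
    ⟨isPReducedNormal_largestPReduced hL, fun V hV => le_sSup hV⟩
  obtain ⟨-, -, h3⟩ := Cfsg.Agent.S2803.result hL (T.subtype hTL) (largestPReduced p ↥L) hY _ rfl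
  have hxL : x ∈ L := hTL hx.1
  have hxT : (⟨x, hxL⟩ : ↥L) ∈ ((T.subtype hTL : Sylow p ↥L) : Subgroup ↥L) := by
    rw [Sylow.coe_subtype, mem_subgroupOf]; exact hx.1
  have hxC : (⟨x, hxL⟩ : ↥L) ∈ centralizer ((largestPReduced p ↥L : Subgroup ↥L) : Set ↥L) := by
    rw [mem_centralizer_map_subtype]; exact hx.2
  have hxZ : (⟨x, hxL⟩ : ↥L) ∈ centralizer (((((T.subtype hTL : Sylow p ↥L) : Subgroup ↥L) ⊓
      centralizer ((largestPReduced p ↥L : Subgroup ↥L) : Set ↥L) : Subgroup ↥L)) : Set ↥L) := by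
    rw [mem_centralizer_iff]
    intro t ht
    obtain ⟨ht1, ht2⟩ := mem_inf.mp ht
    apply Subtype.ext
    refine mem_centralizer_iff.mp hxc (t : H) (mem_inf.mpr ⟨?_, ?_⟩)
    · rw [Sylow.coe_subtype, mem_subgroupOf] at ht1; exact ht1
    · rw [mem_centralizer_map_subtype] at ht2; exact ht2
  refine ⟨⟨x, hxL⟩, ?_, rfl⟩
  rw [h3]
  refine subset_closure ⟨mem_inf.mpr ⟨mem_inf.mpr ⟨hxT, hxC⟩, hxZ⟩, ?_⟩
  apply Subtype.ext
  simpa using hxp

end Cfsg.Agent.Helper47
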