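import Mathlib
import Cfsg.Prelude.Def_LocalStructure
import Cfsg.Agent.Lib.Helper47.Conj
import Cfsg.Agent.Lib.Helper47.Comm
import Cfsg.Agent.Lib.Helper47.PRed3
import Cfsg.Agent.Lib.Helper48.PReduced
import Cfsg.Agent.Lib.Helper1.Coprime
import Cfsg.Agent.S2845

set_option autoImplicit false
set_option linter.unusedSectionVars false
set_option linter.style.haveILetI false

/-!
# The basic property `M ∈ 𝔐_G(S)` with a large subgroup: first consequences

`Y = Y_M`, `B = O_p(M)`, `C = C_G(Y)`, `M† = M ⊔ C`.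
-/

namespace Cfsg.Agent.Helper47

open Cfsg Subgroup

section generic

variable {G : Type*} [Group G] {p : ℕ}

/-- every member of `𝓛_G` lies in a maximal member -/
theorem exists_le_maxCharP [Finite G] {L : Subgroup G} (hL : L ∈ charPSubgroups p G) :
    ∃ X ∈ maxCharPSubgroups p G, L ≤ X := by
  obtain ⟨X, hLX, hX⟩ := (Set.toFinite (charPSubgroups p G)).exists_le_maximal hL
  exact ⟨X, ⟨hX.prop, fun L' hL' hXL' => le_antisymm (hX.le_of_ge hL' hXL') hXL'⟩, hLX⟩

theorem pCoreOf_ne_bot_iff {L : Subgroup G} : pCoreOf p L ≠ ⊥ ↔ pCore p ↥L ≠ ⊥ := by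
  unfold pCoreOf
  rw [Ne, Ne, map_eq_bot_iff_of_injective _ L.subtype_injective]

theorem pCoreOf_le' (L : Subgroup G) : pCoreOf p L ≤ L := Helper48.pCoreOf_le L

end generic

section large

variable {G : Type*} [Group G] [Finite G] {p : ℕ} [Fact p.Prime]

/-- With a large subgroup `Q ≤ S`: every subgroup `N ≥ S` with `O_p(N) ≠ 1` lies in `𝓛_G`. -/
theorem mem_charP_of_sylow_le (S : Sylow p G) (Q : Subgroup G) (hQp : IsPGroup p ↥Q) (hQ1 : Q ≠ ⊥)
    (hQ : IsLarge Q) {N : Subgroup G} (hSN : (S : Subgroup G) ≤ N) (hN : pCoreOf p N ≠ ⊥) :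
    N ∈ charPSubgroups p G := by
  have h := (Cfsg.Agent.S2845.result Q hQp hQ1 hQ).2.1 N ⟨S, hSN⟩ (pCoreOf_ne_bot_iff.mp hN)
  exact ⟨pCoreOf_ne_bot_iff.mp hN, h⟩

/-- With a large subgroup: the normalizer of a nontrivial `p`-subgroup containing `S` lies in
`𝓛_G`. -/
theorem normalizer_mem_charP (S : Sylow p G) (Q : Subgroup G) (hQp : IsPGroup p ↥Q) (hQ1 : Q ≠ ⊥)
    (hQ : IsLarge Q) {W : Subgroup G} (hW : IsPGroup p W) (hW1 : W ≠ ⊥)
    (hSW : (S : Subgroup G) ≤ normalizer (W : Set G)) :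
    normalizer (W : Set G) ∈ charPSubgroups p G := by
  apply mem_charP_of_sylow_le S Q hQp hQ1 hQ hSW
  have : W ≤ pCoreOf p (normalizer (W : Set G)) := le_pCoreOf le_normalizer le_rfl hW
  intro h
  apply hW1
  rw [eq_bot_iff]
  exact this.trans h.le

end large

section std

variable {G : Type*} [Group G] [Finite G] {p : ℕ} [Fact p.Prime]

/-- the standing hypotheses of the local structure theorem -/
structure Std (p : ℕ) [Fact p.Prime] (S : Sylow p G) (Q M : Subgroup G) : Prop where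
  hQp : IsPGroup p ↥Q
  hQ1 : Q ≠ ⊥
  hQS : Q ≤ (S : Subgroup G)
  hQ : IsLarge Q
  hSM : (S : Subgroup G) ≤ M
  hM : IsInFrakM p M

/-- `Y_M` -/
abbrev YM (p : ℕ) (M : Subgroup G) : Subgroup G := largestPReducedOf p M
/-- `O_p(M)` -/
abbrev BM (p : ℕ) (M : Subgroup G) : Subgroup G := pCoreOf p M
/-- `C_G(Y_M)` -/
abbrev CM (p : ℕ) (M : Subgroup G) : Subgroup G := centralizer (largestPReducedOf p M : Set G)
/-- `M† = M C_G(Y_M)` -/
abbrev dag (p : ℕ) (M : Subgroup G) : Subgroup G :=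
  M ⊔ centralizer (largestPReducedOf p M : Set G)

variable {S : Sylow p G} {Q M : Subgroup G}

theorem YM_le_BM (M : Subgroup G) : YM p M ≤ BM p M := by
  rintro _ ⟨x, hx, rfl⟩
  exact ⟨x, (Helper48.largestPReduced_le_omegaZCore hx).1, rfl⟩

theorem BM_le_CM (M : Subgroup G) : BM p M ≤ CM p M :=
  Helper48.pCoreOf_le_centralizer_largestPReducedOf M

theorem BM_isPGroup (M : Subgroup G) : IsPGroup p (BM p M) := Helper48.isPGroup_pCoreOf M

theorem le_normalizer_BM (M : Subgroup G) : M ≤ normalizer (BM p M : Set G) :=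
  Helper48.le_normalizer_pCoreOf M

theorem le_normalizer_YM (M : Subgroup G) : M ≤ normalizer (YM p M : Set G) :=
  Helper48.le_normalizer_largestPReducedOf M

theorem dag_le_normalizer_YM (M : Subgroup G) : dag p M ≤ normalizer (YM p M : Set G) :=
  Helper48.sup_centralizer_le_normalizer_largestPReducedOf M

theorem dag_le_normalizer_CM (M : Subgroup G) :
    dag p M ≤ normalizer ((CM p M : Subgroup G) : Set G) :=
  (dag_le_normalizer_YM M).trans (normalizer_le_normalizer_centralizer _)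

theorem Std.BM_le_S (h : Std p S Q M) : BM p M ≤ (S : Subgroup G) := by
  rintro _ ⟨x, hx, rfl⟩
  exact Helper46.pCore_le_sylow (S.subtype h.hSM) hx

theorem Std.BM_ne_bot (h : Std p S Q M) : BM p M ≠ ⊥ := pCoreOf_ne_bot_iff.mpr h.hM.1.1

/-- every `p`-subgroup of `C_M(Y_M)` lies in `O_p(M)` (as `C_M(Y_M)` is `p`-closed) -/
theorem Std.le_BM_of_le_inf (h : Std p S Q M) {P : Subgroup G} (hP : IsPGroup p P)
    (hPM : P ≤ M ⊓ CM p M) : P ≤ BM p M := by
  have hclosed : IsPClosed p ↥(M ⊓ CM p M) := h.hM.2.2.2.2.1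
  obtain ⟨P0⟩ : Nonempty (Sylow p ↥(M ⊓ CM p M)) := inferInstance
  have hP0n : (P0 : Subgroup ↥(M ⊓ CM p M)).Normal := hclosed P0
  have hle : ∀ H : Subgroup G, H ≤ M ⊓ CM p M → IsPGroup p H →
      H ≤ (P0 : Subgroup ↥(M ⊓ CM p M)).map (M ⊓ CM p M).subtype := by
    intro H hH hHp
    have h1 : IsPGroup p (H.subgroupOf (M ⊓ CM p M)) := hHp.comap_subtype
    obtain ⟨P', hP'⟩ := h1.exists_le_sylow
    have hPP : P' = P0 := by
      haveI := Sylow.unique_of_normal P0 hP0n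
      exact Subsingleton.elim _ _
    have h2 : H.subgroupOf (M ⊓ CM p M) ≤ (P0 : Subgroup ↥(M ⊓ CM p M)) := hPP ▸ hP'
    intro x hx
    exact ⟨⟨x, hH hx⟩, h2 (show (⟨x, hH hx⟩ : ↥(M ⊓ CM p M)) ∈ H.subgroupOf (M ⊓ CM p M) from hx),
      rfl⟩
  set P1 := (P0 : Subgroup ↥(M ⊓ CM p M)).map (M ⊓ CM p M).subtype with hP1
  have hP1p : IsPGroup p P1 := P0.isPGroup'.map _
  have hP1MC : P1 ≤ M ⊓ CM p M := by
    rintro _ ⟨x, -, rfl⟩
    exact x.2
  have hMC : M ≤ normalizer ((CM p M : Subgroup G) : Set G) :=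
    le_sup_left.trans (dag_le_normalizer_CM M)
  have hP1M : M ≤ normalizer (P1 : Set G) := by
    apply Helper1.le_normalizer_of_conj_smul_le
    intro m hm
    apply hle
    · rintro _ ⟨y, hy, rfl⟩
      have hy' := hP1MC hy
      refine ⟨?_, ?_⟩
      · simp only [MulDistribMulAction.toMonoidEnd_apply, MulDistribMulAction.toMonoidHom_apply,
          MulAut.smul_def, MulAut.conj_apply]
        exact M.mul_mem (M.mul_mem hm hy'.1) (M.inv_mem hm)
      · simp only [MulDistribMulAction.toMonoidEnd_apply, MulDistribMulAction.toMonoidHom_apply,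
          MulAut.smul_def, MulAut.conj_apply]
        exact (mem_normalizer_iff.mp (hMC hm) y).mp hy'.2
    · exact hP1p.map _
  exact (hle P hPM hP).trans (le_pCoreOf (hP1MC.trans inf_le_left) hP1M hP1p)

/-- `S ∩ C_G(Y_M) = O_p(M)` -/
theorem Std.S_inf_CM (h : Std p S Q M) : (S : Subgroup G) ⊓ CM p M = BM p M := by
  apply le_antisymm
  · apply h.le_BM_of_le_inf (S.isPGroup'.to_le inf_le_left)
    exact inf_le_inf_right _ h.hSM
  · exact le_inf h.BM_le_S (BM_le_CM M)

/-- `O_p(M)` is a Sylow `p`-subgroup of `C_G(Y_M)`. -/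
theorem Std.eq_BM_of_le_CM (h : Std p S Q M) {P : Subgroup G} (hP : IsPGroup p P)
    (hBP : BM p M ≤ P) (hPC : P ≤ CM p M) : P = BM p M := by
  have hSC : (S : Subgroup G) ≤ normalizer ((CM p M : Subgroup G) : Set G) :=
    h.hSM.trans (le_sup_left.trans (dag_le_normalizer_CM M))
  obtain ⟨P0, hP0⟩ := exists_sylow_inf_of_le_normalizer S (CM p M) hSC
  rw [h.S_inf_CM] at hP0
  have h1 : IsPGroup p (P.subgroupOf (CM p M)) := hP.comap_subtype
  have h2 : (P0 : Subgroup ↥(CM p M)) ≤ P.subgroupOf (CM p M) := by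
    rw [hP0]
    intro x hx
    rw [mem_subgroupOf] at hx ⊢
    exact hBP hx
  have h3 := P0.is_maximal' h1 h2
  apply le_antisymm _ hBP
  intro x hx
  have : (⟨x, hPC hx⟩ : ↥(CM p M)) ∈ P.subgroupOf (CM p M) := hx
  rw [h3, hP0] at this
  exact this

/-- `M†` contains the normalizer of every nontrivial `p`-subgroup normalized by `M`. -/
theorem Std.normalizer_le_dag (h : Std p S Q M) {W : Subgroup G} (hW : IsPGroup p W)
    (hW1 : W ≠ ⊥) (hMW : M ≤ normalizer (W : Set G)) : normalizer (W : Set G) ≤ dag p M := by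
  have h1 := normalizer_mem_charP S Q h.hQp h.hQ1 h.hQ hW hW1 (h.hSM.trans hMW)
  obtain ⟨X, hX, hNX⟩ := exists_le_maxCharP h1
  have := h.hM.2.2.1 X hX (hMW.trans hNX)
  rw [this] at hNX
  exact hNX

theorem Std.normalizer_BM_le_dag (h : Std p S Q M) : normalizer (BM p M : Set G) ≤ dag p M :=
  h.normalizer_le_dag (BM_isPGroup M) h.BM_ne_bot (le_normalizer_BM M)

/-- asymmetry: two conjugates of `Y` normalizing each other commute -/
theorem commute_of_asymmetric {Y : Subgroup G} (hasym : ¬ IsSymmetricIn Y) {a b : G}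
    (h1 : cj a Y ≤ normalizer ((cj b Y : Subgroup G) : Set G))
    (h2 : cj b Y ≤ normalizer ((cj a Y : Subgroup G) : Set G)) :
    cj a Y ≤ centralizer ((cj b Y : Subgroup G) : Set G) := by
  -- reduce to `a = 1`
  have h1' : Y ≤ normalizer ((cj (a⁻¹ * b) Y : Subgroup G) : Set G) := by
    have := cj_mono (a := a⁻¹) h1
    rwa [cj_inv_cj, ← normalizer_cj, ← cj_mul] at this
  have h2' : cj (a⁻¹ * b) Y ≤ normalizer (Y : Set G) := by
    have := cj_mono (a := a⁻¹) h2
    rwa [← cj_mul, ← normalizer_cj, cj_inv_cj] at this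
  have h3 : ⁅Y, cj (a⁻¹ * b) Y⁆ ≤ Y := Helper1.commutator_le_of_le_normalizer h2'
  have h4 : ⁅Y, cj (a⁻¹ * b) Y⁆ ≤ cj (a⁻¹ * b) Y := by
    rw [commutator_comm]
    exact Helper1.commutator_le_of_le_normalizer h1'
  have h5 : ⁅Y, cj (a⁻¹ * b) Y⁆ = ⊥ := by
    by_contra hne
    exact hasym ⟨a⁻¹ * b, hne, le_inf h3 h4⟩
  have h6 : Y ≤ centralizer ((cj (a⁻¹ * b) Y : Subgroup G) : Set G) :=
    commutator_eq_bot_iff_le_centralizer.mp h5
  have := cj_mono (a := a) h6
  rwa [← centralizer_cj, ← cj_mul, mul_inv_cancel_left] at this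

end std

end Cfsg.Agent.Helper47
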