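import Mathlib
import Cfsg.Agent.Lib.Helper47.MSSAsym

set_option autoImplicit false
set_option linter.unusedSectionVars false

/-!
# Asymmetric `Y_M`: the normalizer of a `p`-group containing `O_p(M)`

The word-length induction (an amalgam-type argument).
-/

namespace Cfsg.Agent.Helper47

open Cfsg Subgroup

section words

variable {G : Type*} [Group G]

/-- products of `n` elements of `U` -/
def wordSet (U : Set G) : ℕ → Set G
  | 0 => {1}
  | n + 1 => {x | ∃ a ∈ U, ∃ y ∈ wordSet U n, x = a * y}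

theorem mem_wordSet_zero {U : Set G} {x : G} : x ∈ wordSet U 0 ↔ x = 1 := Iff.rfl

theorem mem_wordSet_succ {U : Set G} {n : ℕ} {x : G} :
    x ∈ wordSet U (n + 1) ↔ ∃ a ∈ U, ∃ y ∈ wordSet U n, x = a * y := Iff.rfl

theorem mem_wordSet_succ_right {U : Set G} : ∀ (n : ℕ) {x : G},
    x ∈ wordSet U (n + 1) ↔ ∃ z ∈ wordSet U n, ∃ b ∈ U, x = z * b
  | 0, x => by
    rw [mem_wordSet_succ]
    constructor
    · rintro ⟨a, ha, y, hy, rfl⟩
      rw [mem_wordSet_zero] at hy
      subst hy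
      exact ⟨1, rfl, a, ha, by simp⟩
    · rintro ⟨z, hz, b, hb, rfl⟩
      rw [mem_wordSet_zero] at hz
      subst hz
      exact ⟨b, hb, 1, rfl, by simp⟩
  | n + 1, x => by
    rw [mem_wordSet_succ]
    constructor
    · rintro ⟨a, ha, y, hy, rfl⟩
      obtain ⟨z, hz, b, hb, rfl⟩ := (mem_wordSet_succ_right n).mp hy
      exact ⟨a * z, ⟨a, ha, z, hz, rfl⟩, b, hb, by rw [mul_assoc]⟩
    · rintro ⟨z, hz, b, hb, rfl⟩
      obtain ⟨a, ha, y, hy, rfl⟩ := hz
      exact ⟨a, ha, y * b, (mem_wordSet_succ_right n).mpr ⟨y, hy, b, hb, rfl⟩, by rw [mul_assoc]⟩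

theorem inv_mem_wordSet {U : Set G} (hU : ∀ a ∈ U, a⁻¹ ∈ U) : ∀ (n : ℕ) {x : G},
    x ∈ wordSet U n → x⁻¹ ∈ wordSet U n
  | 0, x, hx => by
    rw [mem_wordSet_zero] at hx ⊢
    rw [hx, inv_one]
  | n + 1, x, hx => by
    obtain ⟨a, ha, y, hy, rfl⟩ := hx
    rw [mem_wordSet_succ_right]
    exact ⟨y⁻¹, inv_mem_wordSet hU n hy, a⁻¹, hU a ha, by rw [mul_inv_rev]⟩

theorem mul_mem_wordSet {U : Set G} : ∀ (m n : ℕ) {x y : G},
    x ∈ wordSet U m → y ∈ wordSet U n → x * y ∈ wordSet U (m + n)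
  | 0, n, x, y, hx, hy => by
    rw [mem_wordSet_zero] at hx
    rw [hx, one_mul, Nat.zero_add]
    exact hy
  | m + 1, n, x, y, hx, hy => by
    obtain ⟨a, ha, x', hx', rfl⟩ := hx
    rw [Nat.succ_add]
    exact ⟨a, ha, x' * y, mul_mem_wordSet m n hx' hy, by rw [mul_assoc]⟩

theorem exists_mem_wordSet {U : Set G} (hU : ∀ a ∈ U, a⁻¹ ∈ U) {x : G} (hx : x ∈ closure U) :
    ∃ n, x ∈ wordSet U n := by
  induction hx using closure_induction with
  | mem x hx => exact ⟨1, x, hx, 1, rfl, by simp⟩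
  | one => exact ⟨0, rfl⟩
  | mul x y _ _ hx hy =>
    obtain ⟨m, hm⟩ := hx
    obtain ⟨n, hn⟩ := hy
    exact ⟨m + n, mul_mem_wordSet m n hm hn⟩
  | inv x _ hx =>
    obtain ⟨m, hm⟩ := hx
    exact ⟨m, inv_mem_wordSet hU m hm⟩

end words

section main

variable {G : Type*} [Group G] [Finite G] {p : ℕ} [Fact p.Prime]
variable {S : Sylow p G} {Q M : Subgroup G}

/-- the word-length induction -/
theorem Std.cj_YM_le_BM_of_mem_wordSet (h : Std p S Q M) (hasym : ¬ IsSymmetricIn (YM p M))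
    {L : Subgroup G} (hL : IsPGroup p L) (hBL : BM p M ≤ L) (hLd : L ≤ dag p M) :
    ∀ (n : ℕ) (x : G), x ∈ wordSet ((M : Set G) ∪ (normalizer (L : Set G) : Subgroup G)) n →
      cj x (YM p M) ≤ BM p M := by
  intro n
  induction n with
  | zero =>
    intro x hx
    rw [mem_wordSet_zero] at hx
    rw [hx, cj_one]
    exact YM_le_BM M
  | succ n ih =>
    intro x hx
    have hx2 := (mem_wordSet_succ_right n).mp hx
    obtain ⟨a, ha, y, hy, rfl⟩ := hx
    have hy' := ih y hy
    rw [cj_mul]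
    rcases ha with ha | ha
    · -- `a ∈ M`
      have := cj_mono (a := a) hy'
      rwa [cj_eq_self_iff.mpr (le_normalizer_BM M ha)] at this
    · -- `a ∈ N(L)`
      have hxL : cj a (cj y (YM p M)) ≤ L := by
        have := cj_mono (a := a) (hy'.trans hBL)
        rwa [cj_eq_self_iff.mpr ha] at this
      obtain ⟨z, hz, b, hb, hzb⟩ := hx2
      have hU : ∀ c ∈ ((M : Set G) ∪ (normalizer (L : Set G) : Subgroup G)), c⁻¹ ∈
          ((M : Set G) ∪ (normalizer (L : Set G) : Subgroup G)) := by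
        rintro c (hc | hc)
        · exact Or.inl (inv_mem hc)
        · exact Or.inr (inv_mem hc)
      have hz' := ih z⁻¹ (inv_mem_wordSet hU n hz)
      have hinv : cj (a * y)⁻¹ (YM p M) ≤ L := by
        rw [hzb, mul_inv_rev, cj_mul]
        rcases hb with hb | hb
        · have := cj_mono (a := b⁻¹) hz'
          rw [cj_eq_self_iff.mpr (le_normalizer_BM M (inv_mem hb))] at this
          exact this.trans hBL
        · have := cj_mono (a := b⁻¹) (hz'.trans hBL)
          rwa [cj_eq_self_iff.mpr (inv_mem hb)] at this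
      rw [← cj_mul] at hxL ⊢
      have hLN : L ≤ normalizer (YM p M : Set G) := hLd.trans (dag_le_normalizer_YM M)
      have n1 : cj (a * y) (YM p M) ≤ normalizer ((cj 1 (YM p M) : Subgroup G) : Set G) := by
        rw [cj_one]; exact hxL.trans hLN
      have n2 : cj 1 (YM p M) ≤ normalizer ((cj (a * y) (YM p M) : Subgroup G) : Set G) := by
        rw [cj_one, normalizer_cj]
        have := cj_le_iff.mp (hinv.trans hLN)
        rwa [inv_inv] at this
      have hc := commute_of_asymmetric hasym n1 n2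
      rw [cj_one] at hc
      have hP : BM p M ⊔ cj (a * y) (YM p M) = BM p M := by
        apply h.eq_BM_of_le_CM (hL.to_le (sup_le hBL hxL)) le_sup_left
        exact sup_le (BM_le_CM M) hc
      rw [← hP]
      exact le_sup_right

end main

end Cfsg.Agent.Helper47
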