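import Mathlib
import Cfsg.Agent.Lib.Helper47.MSSAsym2
import Cfsg.Agent.Lib.Helper48.SPE
import Cfsg.Agent.Lib.Helper9.FourGraph

set_option autoImplicit false
set_option linter.unusedSectionVars false

/-!
# Asymmetric `Y_M`: `O_p(M)` is weakly closed in `G`, and consequences
-/

namespace Cfsg.Agent.Helper47

open Cfsg Subgroup

variable {G : Type*} [Group G] [Finite G] {p : ℕ} [Fact p.Prime]
variable {S : Sylow p G} {Q M : Subgroup G}

theorem dag_eq_top_of_YM_eq_bot (hY : YM p M = ⊥) : dag p M = ⊤ := by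
  rw [eq_top_iff]
  intro x _
  apply mem_sup_right
  rw [mem_centralizer_iff]
  intro y hy
  have : y ∈ YM p M := hy
  rw [hY, mem_bot] at this
  rw [this, one_mul, mul_one]

/-- `N_G(L) ≤ M†` for a `p`-subgroup `L` with `O_p(M) ≤ L ≤ M†`. -/
theorem Std.normalizer_le_dag_of_le (h : Std p S Q M) (hasym : ¬ IsSymmetricIn (YM p M))
    {L : Subgroup G} (hL : IsPGroup p L) (hBL : BM p M ≤ L) (hLd : L ≤ dag p M) :
    normalizer (L : Set G) ≤ dag p M := by
  by_cases hY : YM p M = ⊥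
  · rw [dag_eq_top_of_YM_eq_bot hY]; exact le_top
  set U : Set G := (M : Set G) ∪ (normalizer (L : Set G) : Subgroup G) with hU
  have hUinv : ∀ c ∈ U, c⁻¹ ∈ U := by
    rintro c (hc | hc)
    · exact Or.inl (inv_mem hc)
    · exact Or.inr (inv_mem hc)
  set J := closure U with hJ
  set W : Subgroup G := ⨆ x : J, cj (x : G) (YM p M) with hW
  have hWB : W ≤ BM p M := by
    apply iSup_le
    intro x
    obtain ⟨n, hn⟩ := exists_mem_wordSet hUinv x.2
    exact h.cj_YM_le_BM_of_mem_wordSet hasym hL hBL hLd n x hn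
  have hYW : YM p M ≤ W := by
    have := le_iSup (fun x : J => cj (x : G) (YM p M)) ⟨1, one_mem _⟩
    simpa [cj_one] using this
  have hW1 : W ≠ ⊥ := by
    intro hb
    apply hY
    rw [eq_bot_iff]
    exact hYW.trans hb.le
  have hJW : J ≤ normalizer (W : Set G) := by
    apply Helper1.le_normalizer_of_conj_smul_le
    intro a ha
    rw [← cj_eq_smul, hW]
    unfold cj
    rw [Subgroup.map_iSup]
    apply iSup_le
    intro x
    have e : ((cj (x : G) (YM p M)).map (MulAut.conj a).toMonoidHom) = cj (a * x) (YM p M) := by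
      rw [cj_mul]
    rw [e]
    exact le_iSup (fun x : J => cj (x : G) (YM p M)) ⟨a * x, mul_mem ha x.2⟩
  have hMJ : M ≤ J := fun m hm => subset_closure (Or.inl hm)
  have hNJ : normalizer (L : Set G) ≤ J := fun m hm => subset_closure (Or.inr hm)
  have := h.normalizer_le_dag ((BM_isPGroup M).to_le hWB) hW1 (hMJ.trans hJW)
  exact hNJ.trans (hJW.trans this)

/-- `N_G(L) ≤ N_G(O_p(M))` for a `p`-subgroup `L` with `O_p(M) ≤ L ≤ M†`. -/
theorem Std.normalizer_le_normalizer_BM_of_le (h : Std p S Q M)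
    (hasym : ¬ IsSymmetricIn (YM p M))
    {L : Subgroup G} (hL : IsPGroup p L) (hBL : BM p M ≤ L) (hLd : L ≤ dag p M) :
    normalizer (L : Set G) ≤ normalizer (BM p M : Set G) := by
  have key : ∀ g ∈ normalizer (L : Set G), cj g (BM p M) ≤ BM p M := by
    intro g hg
    have hgd : g ∈ dag p M := h.normalizer_le_dag_of_le hasym hL hBL hLd hg
    have h1 : cj g (BM p M) ≤ L := by
      have := cj_mono (a := g) hBL
      rwa [cj_eq_self_iff.mpr hg] at this
    have h2 : cj g (BM p M) ≤ CM p M := by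
      have h3 : cj g (CM p M) = CM p M := cj_eq_self_iff.mpr (dag_le_normalizer_CM M hgd)
      have := cj_mono (a := g) (BM_le_CM (p := p) M)
      rwa [h3] at this
    have hP : BM p M ⊔ cj g (BM p M) = BM p M := by
      apply h.eq_BM_of_le_CM (hL.to_le (sup_le hBL h1)) le_sup_left
      exact sup_le (BM_le_CM M) h2
    exact le_sup_right.trans hP.le
  intro g hg
  apply cj_eq_self_iff.mp
  apply le_antisymm (key g hg)
  have := key g⁻¹ (inv_mem hg)
  rwa [cj_le_iff, inv_inv] at this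

/-- every `p`-subgroup containing `O_p(M)` normalizes it -/
theorem Std.le_normalizer_BM_of_isPGroup (h : Std p S Q M) (hasym : ¬ IsSymmetricIn (YM p M))
    {L : Subgroup G} (hL : IsPGroup p L) (hBL : BM p M ≤ L) :
    L ≤ normalizer (BM p M : Set G) := by
  by_contra hcon
  set L1 := L ⊓ normalizer (BM p M : Set G) with hL1
  have hL1L : L1 ≤ L := inf_le_left
  have hne : L1 ≠ L := by
    intro he
    apply hcon
    rw [← he]
    exact inf_le_right
  obtain ⟨u, huL, huL1, huN⟩ := Helper48.exists_mem_normalizer_not_mem hL hL1L hne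
  have hBL1 : BM p M ≤ L1 := le_inf hBL le_normalizer
  have hL1d : L1 ≤ dag p M := inf_le_right.trans h.normalizer_BM_le_dag
  have := h.normalizer_le_normalizer_BM_of_le hasym (hL.to_le hL1L) hBL1 hL1d huN
  exact huL1 ⟨huL, this⟩

/-- `N_G(L) ≤ N_G(O_p(M))` for every `p`-subgroup `L ≥ O_p(M)`. -/
theorem Std.normalizer_le_normalizer_BM (h : Std p S Q M) (hasym : ¬ IsSymmetricIn (YM p M))
    {L : Subgroup G} (hL : IsPGroup p L) (hBL : BM p M ≤ L) :
    normalizer (L : Set G) ≤ normalizer (BM p M : Set G) :=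
  h.normalizer_le_normalizer_BM_of_le hasym hL hBL
    ((h.le_normalizer_BM_of_isPGroup hasym hL hBL).trans h.normalizer_BM_le_dag)

/-- `O_p(M)` is weakly closed in `S` with respect to `G`. -/
theorem Std.mem_normalizer_BM_of_cj_le_sylow (h : Std p S Q M)
    (hasym : ¬ IsSymmetricIn (YM p M)) {g : G} (hg : cj g (BM p M) ≤ (S : Subgroup G)) :
    g ∈ normalizer (BM p M : Set G) := by
  have h1 : BM p M ≤ ((g⁻¹ • S : Sylow p G) : Subgroup G) := by
    rw [sylow_smul_coe]; exact cj_le_iff.mp hg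
  have h2 : ((g⁻¹ • S : Sylow p G) : Subgroup G) ≤ normalizer (BM p M : Set G) :=
    h.le_normalizer_BM_of_isPGroup hasym (g⁻¹ • S).isPGroup' h1
  have h3 : (S : Subgroup G) ≤ normalizer (BM p M : Set G) := h.hSM.trans (le_normalizer_BM M)
  obtain ⟨n, hn, hnS⟩ := Helper48.exists_smul_eq_of_le S (g⁻¹ • S) h3 h2
  have h4 : (g * n) • S = S := by
    rw [mul_smul, hnS, smul_smul, mul_inv_cancel, one_smul]
  have h5 : g * n ∈ normalizer ((S : Subgroup G) : Set G) := Sylow.smul_eq_iff_mem_normalizer.mp h4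
  have h6 := h.normalizer_le_normalizer_BM hasym S.isPGroup' h.BM_le_S h5
  have := mul_mem h6 (inv_mem hn)
  rwa [mul_inv_cancel_right] at this

/-- `O_p(M)` is weakly closed in every `p`-subgroup containing it. -/
theorem Std.mem_normalizer_BM_of_cj_le (h : Std p S Q M)
    (hasym : ¬ IsSymmetricIn (YM p M)) {P : Subgroup G} (hP : IsPGroup p P)
    (hBP : BM p M ≤ P) {y : G} (hy : cj y (BM p M) ≤ P) :
    y ∈ normalizer (BM p M : Set G) := by
  obtain ⟨T, hT⟩ := hP.exists_le_sylow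
  have h2 : (T : Subgroup G) ≤ normalizer (BM p M : Set G) :=
    h.le_normalizer_BM_of_isPGroup hasym T.isPGroup' (hBP.trans hT)
  have h3 : (S : Subgroup G) ≤ normalizer (BM p M : Set G) := h.hSM.trans (le_normalizer_BM M)
  obtain ⟨n, hn, hnS⟩ := Helper48.exists_smul_eq_of_le S T h3 h2
  have h4 : cj (n⁻¹ * y) (BM p M) ≤ (S : Subgroup G) := by
    rw [cj_mul, cj_le_iff, inv_inv, ← sylow_smul_coe, hnS]
    exact hy.trans hT
  have := mul_mem hn (h.mem_normalizer_BM_of_cj_le_sylow hasym h4)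
  rwa [mul_inv_cancel_left] at this

/-- a Sylow `p`-subgroup of `L ≥ O_p(M)` containing `O_p(M)` lies in `N_G(O_p(M)) ≤ M†` -/
theorem Std.exists_sylow_le_normalizer_BM (h : Std p S Q M)
    (hasym : ¬ IsSymmetricIn (YM p M)) {L : Subgroup G} (hBL : BM p M ≤ L) :
    ∃ T : Sylow p ↥L, BM p M ≤ (T : Subgroup ↥L).map L.subtype ∧
      (T : Subgroup ↥L).map L.subtype ≤ normalizer (BM p M : Set G) := by
  have h1 : IsPGroup p ((BM p M).subgroupOf L) := (BM_isPGroup M).comap_subtype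
  obtain ⟨T, hT⟩ := h1.exists_le_sylow
  have h2 : BM p M ≤ (T : Subgroup ↥L).map L.subtype := by
    intro x hx
    exact ⟨⟨x, hBL hx⟩, hT (mem_subgroupOf.mpr hx), rfl⟩
  exact ⟨T, h2, h.le_normalizer_BM_of_isPGroup hasym (T.isPGroup'.map _) h2⟩

/-- `M` controls fusion in `Y_M`. -/
theorem Std.fusion_YM (h : Std p S Q M) (hasym : ¬ IsSymmetricIn (YM p M))
    {x : G} (hx : x ∈ YM p M) {g : G} (hgx : g * x * g⁻¹ ∈ YM p M) :
    ∃ m ∈ M, m * x * m⁻¹ = g * x * g⁻¹ := by
  set K := centralizer ({x} : Set G) with hK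
  have hBK : BM p M ≤ K := by
    intro b hb
    rw [hK, mem_centralizer_iff]
    intro y hy
    rw [Set.mem_singleton_iff] at hy
    subst hy
    exact mem_centralizer_iff.mp (BM_le_CM M hb) y hx
  have hBK' : cj g⁻¹ (BM p M) ≤ K := by
    intro b hb
    rw [mem_cj, inv_inv] at hb
    rw [hK, mem_centralizer_iff]
    intro y hy
    rw [Set.mem_singleton_iff] at hy
    subst hy
    have := mem_centralizer_iff.mp (BM_le_CM M hb) _ hgx
    -- `g y g⁻¹ * (g b g⁻¹) = (g b g⁻¹) * g y g⁻¹`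
    have e : g * (y * b) * g⁻¹ = g * (b * y) * g⁻¹ := by
      calc g * (y * b) * g⁻¹ = g * y * g⁻¹ * (g * b * g⁻¹) := by group
        _ = g * b * g⁻¹ * (g * y * g⁻¹) := this
        _ = g * (b * y) * g⁻¹ := by group
    exact mul_left_cancel (mul_right_cancel e)
  obtain ⟨c, hc, hcp⟩ := Helper9.exists_conj_sup_isPGroup p K (BM p M) (cj g⁻¹ (BM p M)) hBK hBK'
    (BM_isPGroup M) (cj_isPGroup (BM_isPGroup M))
  rw [← cj_eq_smul, ← cj_mul] at hcp
  have hn : c * g⁻¹ ∈ normalizer (BM p M : Set G) :=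
    h.mem_normalizer_BM_of_cj_le hasym hcp le_sup_left le_sup_right
  have hd : c * g⁻¹ ∈ CM p M ⊔ M := by
    have : c * g⁻¹ ∈ M ⊔ CM p M := h.normalizer_BM_le_dag hn
    rwa [sup_comm] at this
  have hMC : M ≤ normalizer ((CM p M : Subgroup G) : Set G) :=
    le_sup_left.trans (dag_le_normalizer_CM M)
  obtain ⟨c', hc', m, hm, hcm⟩ := exists_mul_of_mem_sup_of_le_normalizer hMC hd
  refine ⟨m⁻¹, inv_mem hm, ?_⟩
  have e1 : c * x = x * c := (mem_centralizer_iff.mp hc x rfl).symm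
  have e2 : c' * x = x * c' := (mem_centralizer_iff.mp hc' x hx).symm
  have e3 : g⁻¹ = c⁻¹ * (c' * m) := by rw [← hcm]; group
  have e4 : g = m⁻¹ * c'⁻¹ * c := by
    have := congrArg (·⁻¹) e3
    simp only [inv_inv, mul_inv_rev] at this
    rw [this, mul_assoc]
  rw [e4]
  have e5 : c'⁻¹ * x * c' = x := by rw [mul_assoc, ← e2, ← mul_assoc, inv_mul_cancel, one_mul]
  calc m⁻¹ * x * m⁻¹⁻¹ = m⁻¹ * (c'⁻¹ * x * c') * m := by rw [e5, inv_inv]
    _ = m⁻¹ * c'⁻¹ * (c * x * c⁻¹) * c' * m := by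
        rw [e1, mul_assoc x, mul_inv_cancel, mul_one]; group
    _ = m⁻¹ * c'⁻¹ * c * x * (m⁻¹ * c'⁻¹ * c)⁻¹ := by group

end Cfsg.Agent.Helper47
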