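import Mathlib
import Cfsg.Agent.Lib.Helper47.MSSAsym3
import Cfsg.Agent.Lib.Helper48.Cores
import Cfsg.Agent.Lib.Helper48.CoprimeGen

set_option autoImplicit false
set_option linter.unusedSectionVars false
set_option linter.style.haveILetI false

/-!
# `ℌ_G(O_p(M))` is nonempty if `Y_M` is char-`p`-tall and asymmetric
-/

namespace Cfsg.Agent.Helper47

open Cfsg Subgroup

section generic

variable {G : Type*} [Group G] {p : ℕ}

/-- characteristic `p` for a subgroup, in the form used in the statements -/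
abbrev CharPSub (p : ℕ) (L : Subgroup G) : Prop :=
  centralizer (pCore p ↥L : Set ↥L) ≤ pCore p ↥L

theorem cj_pCoreOf_le [Fact p.Prime] (g : G) (L : Subgroup G) :
    cj g (pCoreOf p L) ≤ pCoreOf p (cj g L) := by
  apply le_pCoreOf (cj_mono (Helper48.pCoreOf_le L)) _ (cj_isPGroup (Helper48.isPGroup_pCoreOf L))
  rw [normalizer_cj]
  exact cj_mono (Helper48.le_normalizer_pCoreOf L)

theorem pCoreOf_cj [Fact p.Prime] (g : G) (L : Subgroup G) :
    pCoreOf p (cj g L) = cj g (pCoreOf p L) := by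
  apply le_antisymm _ (cj_pCoreOf_le g L)
  have := cj_pCoreOf_le (p := p) g⁻¹ (cj g L)
  rw [cj_inv_cj] at this
  rw [cj_le_iff] at this
  rwa [inv_inv] at this

theorem charPSub_cj (g : G) {L : Subgroup G} (h : CharPSub p L) : CharPSub p (cj g L) :=
  Helper48.CharPGroup.of_equiv ((MulAut.conj g).subgroupMap L) h

/-- if `N ⊴ K` then `O_p(N) ≤ O_p(K)` -/
theorem pCoreOf_le_pCoreOf_of_le_normalizer [Finite G] [Fact p.Prime] {N K : Subgroup G} (hNK : N ≤ K)
    (hK : K ≤ normalizer (N : Set G)) : pCoreOf p N ≤ pCoreOf p K := by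
  apply le_pCoreOf ((Helper48.pCoreOf_le N).trans hNK) _ (Helper48.isPGroup_pCoreOf N)
  intro x hx
  rw [← cj_eq_self_iff, ← pCoreOf_cj, cj_eq_self_iff.mpr (hK hx)]

/-- a subgroup of a group of characteristic `p` containing its `O_p` has characteristic `p` -/
theorem charPSub_of_pCoreOf_le [Finite G] [Fact p.Prime] {K M : Subgroup G} (hQK : pCoreOf p M ≤ K)
    (hKM : K ≤ M) (hM : CharPSub p M) : CharPSub p K := by
  have hQle : pCoreOf p M ≤ pCoreOf p K :=
    le_pCoreOf hQK (hKM.trans (Helper48.le_normalizer_pCoreOf M)) (Helper48.isPGroup_pCoreOf M)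
  intro x hx
  have h1 : (⟨(x : G), hKM x.2⟩ : ↥M) ∈ centralizer (pCore p ↥M : Set ↥M) := by
    rw [mem_centralizer_iff]
    intro z hz
    apply Subtype.ext
    obtain ⟨w, hw, hwz⟩ := hQle ⟨z, hz, rfl⟩
    have := mem_centralizer_iff.mp hx w hw
    have h2 := congrArg Subtype.val this
    simp only [Subgroup.coe_mul] at h2
    have hwz' : (w : G) = (z : G) := hwz
    rw [hwz'] at h2
    exact h2
  have h2 := hM h1
  obtain ⟨w, hw, hwx⟩ := hQle ⟨_, h2, rfl⟩
  have : w = x := Subtype.ext hwx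
  rw [← this]; exact hw

/-- a normal subgroup of a group of characteristic `p` has characteristic `p` -/
theorem charPSub_of_le_normalizer [Finite G] [Fact p.Prime] {N H : Subgroup G} (hNH : N ≤ H)
    (hH : H ≤ normalizer (N : Set G)) (hc : CharPSub p H) : CharPSub p N := by
  haveI : (N.subgroupOf H).Normal := normal_subgroupOf_of_le_normalizer hH
  have h1 : Helper48.CharPGroup p ↥(N.subgroupOf H) := Helper48.CharPGroup.of_normal hc _
  exact Helper48.CharPGroup.of_equiv (subgroupOfEquivOfLe hNH) h1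

end generic

section main

variable {G : Type*} [Group G] [Finite G] {p : ℕ} [Fact p.Prime]
variable {S : Sylow p G} {Q M : Subgroup G}

/-- char-`p`-tall gives an overgroup of `O_p(M)` of characteristic `p` with `Y_M ≰ O_p` -/
theorem Std.exists_charP_overgroup (_h : Std p S Q M) (htall : IsCharPTall p (YM p M)) :
    ∃ L : Subgroup G, CharPSub p L ∧ BM p M ≤ L ∧ ¬ YM p M ≤ pCoreOf p L := by
  obtain ⟨T, L, hTL, hLc, hYL⟩ := htall
  set T1 : Subgroup G := (T : Subgroup ↥(CM p M)).map (CM p M).subtype with hT1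
  have hT1C : T1 ≤ CM p M := by
    rintro _ ⟨x, -, rfl⟩
    exact x.2
  have hT1p : IsPGroup p T1 := T.isPGroup'.map _
  have hmax : ∀ P : Subgroup G, IsPGroup p P → T1 ≤ P → P ≤ CM p M → P ≤ T1 := by
    intro P hP hTP hPC
    have h1 : IsPGroup p (P.subgroupOf (CM p M)) := hP.comap_subtype
    have h2 : (T : Subgroup ↥(CM p M)) ≤ P.subgroupOf (CM p M) := by
      intro t ht
      rw [mem_subgroupOf]
      exact hTP ⟨t, ht, rfl⟩
    have h3 := T.is_maximal' h1 h2
    intro x hx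
    have : (⟨x, hPC hx⟩ : ↥(CM p M)) ∈ P.subgroupOf (CM p M) := hx
    rw [h3] at this
    exact ⟨_, this, rfl⟩
  obtain ⟨c, hc, hcp⟩ := Helper9.exists_conj_sup_isPGroup p (CM p M) (BM p M) T1 (BM_le_CM M) hT1C
    (BM_isPGroup M) hT1p
  rw [← cj_eq_smul] at hcp
  have hcC : cj c⁻¹ (CM p M) = CM p M := cj_eq_self_of_mem (inv_mem hc)
  have hcC' : cj c (CM p M) = CM p M := cj_eq_self_of_mem hc
  have h4 : cj c⁻¹ (BM p M ⊔ cj c T1) ≤ T1 := by
    apply hmax _ (cj_isPGroup hcp)
    · have := cj_mono (a := c⁻¹) (le_sup_right : cj c T1 ≤ BM p M ⊔ cj c T1)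
      rwa [cj_inv_cj] at this
    · rw [← hcC]
      apply cj_mono
      apply sup_le (BM_le_CM M)
      rw [← hcC']
      exact cj_mono hT1C
  have h5 : BM p M ≤ cj c T1 := by
    have := cj_le_iff.mp h4
    rw [inv_inv] at this
    exact le_sup_left.trans this
  refine ⟨cj c L, charPSub_cj c hLc, h5.trans (cj_mono hTL), ?_⟩
  intro hY
  rw [pCoreOf_cj] at hY
  apply hYL
  have hcY : cj c⁻¹ (YM p M) = YM p M :=
    cj_eq_self_iff.mpr (centralizer_le_normalizer _ (inv_mem hc))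
  have : cj c⁻¹ (YM p M) ≤ cj c⁻¹ (cj c (pCoreOf p L)) := cj_mono hY
  rwa [cj_inv_cj, hcY] at this

/-- `O_p(H)` normalizes `O_p(M)` for every `H ≥ O_p(M)` -/
theorem Std.pCoreOf_le_normalizer_BM (h : Std p S Q M) (hasym : ¬ IsSymmetricIn (YM p M))
    {H : Subgroup G} (hBH : BM p M ≤ H) : pCoreOf p H ≤ normalizer (BM p M : Set G) := by
  have h1 : IsPGroup p (pCoreOf p H ⊔ BM p M : Subgroup G) :=
    IsPGroup.to_sup_of_normal_left' (Helper48.isPGroup_pCoreOf H) (BM_isPGroup M)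
      (hBH.trans (Helper48.le_normalizer_pCoreOf H))
  exact le_sup_left.trans (h.le_normalizer_BM_of_isPGroup hasym h1 le_sup_right)

/-- the minimality property in the definition of `ℌ_G(O_p(M))` follows from minimality among
the overgroups of characteristic `p` -/
theorem Std.frakH_of_minimal (h : Std p S Q M) (hasym : ¬ IsSymmetricIn (YM p M))
    {H : Subgroup G} (hHc : CharPSub p H) (hBH : BM p M ≤ H)
    (hmin : ∀ H' : Subgroup G, CharPSub p H' → BM p M ≤ H' → ¬ YM p M ≤ pCoreOf p H' → H' ≤ H →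
      H ≤ H') :
    ∀ P : Subgroup G, BM p M ≤ P → P < H → YM p M ≤ pCoreOf p P := by
  intro P hBP hPH
  by_contra hYP
  -- a minimal `P0 ≤ P` with `B ≤ P0`, `Y ≰ O_p(P0)`
  set 𝒯 : Set (Subgroup G) := {P' | BM p M ≤ P' ∧ P' ≤ P ∧ ¬ YM p M ≤ pCoreOf p P'} with h𝒯
  obtain ⟨P0, hP0⟩ := (Set.toFinite 𝒯).exists_minimal ⟨P, hBP, le_rfl, hYP⟩
  obtain ⟨hBP0, hP0P, hYP0⟩ := hP0.prop
  -- `P0` is generated by the conjugates of `B`
  set N : Subgroup G := ⨆ x : P0, cj (x : G) (BM p M) with hN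
  have hBN : BM p M ≤ N := by
    have := le_iSup (fun x : P0 => cj (x : G) (BM p M)) ⟨1, one_mem _⟩
    simpa [cj_one] using this
  have hNP0 : N ≤ P0 := by
    apply iSup_le
    intro x
    have := cj_mono (a := (x : G)) hBP0
    rwa [cj_eq_self_of_mem x.2] at this
  have hP0N : P0 ≤ normalizer (N : Set G) := by
    apply Helper1.le_normalizer_of_conj_smul_le
    intro a ha
    rw [← cj_eq_smul, hN]
    unfold cj
    rw [Subgroup.map_iSup]
    apply iSup_le
    intro x
    have e : ((cj (x : G) (BM p M)).map (MulAut.conj a).toMonoidHom) = cj (a * x) (BM p M) := by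
      rw [cj_mul]
    rw [e]
    exact le_iSup (fun x : P0 => cj (x : G) (BM p M)) ⟨a * x, mul_mem ha x.2⟩
  have hNeq : N = P0 := by
    by_contra hne
    have hN𝒯 : N ∉ 𝒯 := by
      intro hmem
      exact hne (le_antisymm hNP0 (hP0.le_of_le hmem hNP0))
    have hYN : YM p M ≤ pCoreOf p N := by
      by_contra hcon
      exact hN𝒯 ⟨hBN, hNP0.trans hP0P, hcon⟩
    exact hYP0 (hYN.trans (pCoreOf_le_pCoreOf_of_le_normalizer hNP0 hP0N))
  -- `R = O_p(H)` normalizes `P0`
  set R := pCoreOf p H with hR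
  have hP0H : P0 ≤ H := hP0P.trans hPH.le
  have hRB : R ≤ normalizer (BM p M : Set G) := h.pCoreOf_le_normalizer_BM hasym hBH
  have hHR : H ≤ normalizer (R : Set G) := Helper48.le_normalizer_pCoreOf H
  have hRP0 : R ≤ normalizer (P0 : Set G) := by
    rw [← hNeq, hN]
    intro r hr
    apply Helper48.mem_normalizer_iSup'
    intro x
    rw [normalizer_cj]
    have hx : (x : G) ∈ normalizer (R : Set G) := hHR (hP0H x.2)
    have : R ≤ cj (x : G) (normalizer (BM p M : Set G)) := by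
      have := cj_mono (a := (x : G)) hRB
      rwa [cj_eq_self_iff.mpr hx] at this
    exact this hr
  have hRH : R ≤ H := Helper48.pCoreOf_le H
  -- `P1 = P0 R`
  have hP1H : P0 ⊔ R ≤ H := sup_le hP0H hRH
  have hP1c : CharPSub p (P0 ⊔ R : Subgroup G) := charPSub_of_pCoreOf_le le_sup_right hP1H hHc
  by_cases hP1 : P0 ⊔ R = H
  · -- `P0 ⊴ H`
    have hHP0 : H ≤ normalizer (P0 : Set G) := by
      rw [← hP1]
      exact sup_le le_normalizer hRP0
    have hP0c : CharPSub p P0 := charPSub_of_le_normalizer hP0H hHP0 hHc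
    have := hmin P0 hP0c hBP0 hYP0 hP0H
    exact absurd (this.trans hP0P) (not_le_of_gt hPH)
  · -- `P1 < H`
    have hYP1 : YM p M ≤ pCoreOf p (P0 ⊔ R : Subgroup G) := by
      by_contra hcon
      exact hP1 (le_antisymm hP1H (hmin _ hP1c (hBP0.trans le_sup_left) hcon hP1H))
    apply hYP0
    have h1 : YM p M ≤ pCoreOf p (P0 ⊔ R : Subgroup G) ⊓ P0 :=
      le_inf hYP1 ((YM_le_BM M).trans hBP0)
    apply h1.trans
    apply le_pCoreOf inf_le_right _ ((Helper48.isPGroup_pCoreOf _).to_le inf_le_left)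
    intro x hx
    apply Helper48.mem_normalizer_inf'
    · exact Helper48.le_normalizer_pCoreOf _ (le_sup_left (a := P0) (b := R) hx)
    · exact le_normalizer hx

/-- `ℌ_G(O_p(M)) ≠ ∅` if `Y_M` is char-`p`-tall and asymmetric -/
theorem Std.exists_frakH (h : Std p S Q M) (htall : IsCharPTall p (YM p M))
    (hasym : ¬ IsSymmetricIn (YM p M)) : ∃ H : Subgroup G, IsInFrakH p M H := by
  obtain ⟨L, hLc, hBL, hYL⟩ := h.exists_charP_overgroup htall
  set 𝒮 : Set (Subgroup G) := {H | CharPSub p H ∧ BM p M ≤ H ∧ ¬ YM p M ≤ pCoreOf p H} with h𝒮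
  obtain ⟨H, hH⟩ := (Set.toFinite 𝒮).exists_minimal ⟨L, hLc, hBL, hYL⟩
  obtain ⟨hHc, hBH, hYH⟩ := hH.prop
  refine ⟨H, hHc, hBH, hYH, ?_⟩
  apply h.frakH_of_minimal hasym hHc hBH
  intro H' h1 h2 h3 h4
  exact hH.le_of_le ⟨h1, h2, h3⟩ h4

end main

end Cfsg.Agent.Helper47
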