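import Mathlib
import Cfsg.Agent.Lib.Helper47.MSSAsym4
import Cfsg.Agent.Lib.Helper47.PRes
import Cfsg.Agent.Lib.Helper47.PIrr
import Cfsg.Agent.Lib.Helper47.SubnCl
import Cfsg.Agent.Lib.Helper47.FStarQ
import Cfsg.Agent.Lib.Helper22.Radical

set_option autoImplicit false
set_option linter.unusedSectionVars false
set_option linter.style.haveILetI false

/-!
# Structure of the members of `ℌ_G(O_p(M))`
-/

namespace Cfsg.Agent.Helper47

open Cfsg Subgroup

section generic

variable {G : Type*} [Group G] {p : ℕ}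

/-- the normal closure of `X` in `H`, as a subgroup of `G` -/
abbrev nclIn (X H : Subgroup G) : Subgroup G :=
  (normalClosure ((X.subgroupOf H : Subgroup ↥H) : Set ↥H)).map H.subtype

theorem nclIn_le (X H : Subgroup G) : nclIn X H ≤ H := map_subtype_le _

theorem le_nclIn {X H : Subgroup G} (hXH : X ≤ H) : X ≤ nclIn X H := by
  intro x hx
  exact ⟨⟨x, hXH hx⟩, subset_normalClosure (mem_subgroupOf.mpr hx), rfl⟩

theorem le_normalizer_nclIn (X H : Subgroup G) : H ≤ normalizer (nclIn X H : Set G) :=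
  Helper48.le_normalizer_map_subtype_of_normal H _

theorem nclIn_le_of_le_normalizer {X H K : Subgroup G} (hXK : X ≤ K)
    (hHK : H ≤ normalizer (K : Set G)) : nclIn X H ≤ K := by
  haveI : (K.subgroupOf H).Normal := normal_subgroupOf_of_le_normalizer hHK
  have h1 : normalClosure ((X.subgroupOf H : Subgroup ↥H) : Set ↥H) ≤ K.subgroupOf H := by
    apply normalClosure_le_normal
    intro x hx
    rw [SetLike.mem_coe, mem_subgroupOf] at hx ⊢
    exact hXK hx
  rintro _ ⟨x, hx, rfl⟩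
  exact mem_subgroupOf.mp (h1 hx)

/-- `O^p(H)` as a subgroup of `G` -/
abbrev pResOf (p : ℕ) (H : Subgroup G) : Subgroup G := (pResidual p ↥H).map H.subtype

theorem pResOf_le (H : Subgroup G) : pResOf p H ≤ H := map_subtype_le _

theorem le_normalizer_pResOf (H : Subgroup G) : H ≤ normalizer (pResOf p H : Set G) :=
  Helper48.le_normalizer_map_subtype_of_normal H _

/-- if `O^p(H) ≤ K ≤ H` then `O_p(K) ≤ O_p(H)` -/
theorem pCoreOf_le_pCoreOf_of_pResOf_le [Finite G] [Fact p.Prime] {K H : Subgroup G}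
    (hKH : K ≤ H) (hRK : pResOf p H ≤ K) : pCoreOf p K ≤ pCoreOf p H := by
  set R0 := pResidual p ↥H with hR0
  set K0 := K.subgroupOf H with hK0
  have hR0K0 : R0 ≤ K0 := by
    intro x hx
    rw [hK0, mem_subgroupOf]
    exact hRK ⟨x, hx, rfl⟩
  have hq : IsPGroup p (↥H ⧸ R0) := isPGroup_quotient_of_pResidual_le R0 le_rfl
  have hsn : K0.IsSubnormal := by
    have h1 : (K0.map (QuotientGroup.mk' R0)).IsSubnormal := isSubnormal_of_isPGroup hq _
    have h2 := h1.comap (QuotientGroup.mk' R0)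
    rwa [comap_map_eq_self] at h2
    rw [QuotientGroup.ker_mk']
    exact hR0K0
  set P0 := (pCoreOf p K).subgroupOf H with hP0
  have hPK : pCoreOf p K ≤ K := Helper48.pCoreOf_le K
  have h3 : P0 ≤ K0 := by
    intro x hx
    rw [hK0, mem_subgroupOf]
    exact hPK (mem_subgroupOf.mp hx)
  have h4 : K0 ≤ normalizer (P0 : Set ↥H) := by
    intro k hk
    rw [mem_normalizer_iff]
    intro x
    rw [hP0, mem_subgroupOf, mem_subgroupOf]
    have := mem_normalizer_iff.mp (Helper48.le_normalizer_pCoreOf (p := p) K (mem_subgroupOf.mp hk)) (x : G)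
    simpa using this
  have h5 : IsPGroup p P0 := (Helper48.isPGroup_pCoreOf K).comap_subtype
  have h6 := Helper22.le_pCore_of_subnormal hsn h3 h4 h5
  intro x hx
  exact ⟨⟨x, hKH (hPK hx)⟩, h6 (mem_subgroupOf.mpr hx), rfl⟩

/-- a `p`-subgroup of `H` of full `p`-power order is (the image of) a Sylow `p`-subgroup of `H` -/
theorem exists_sylow_map_eq_of_card [Finite G] [Fact p.Prime] {T1 H : Subgroup G} (hTH : T1 ≤ H)
    (hcard : Nat.card T1 = p ^ (Nat.card H).factorization p) :
    ∃ P : Sylow p ↥H, (P : Subgroup ↥H).map H.subtype = T1 := by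
  have h1 : Nat.card (T1.subgroupOf H) = p ^ (Nat.card ↥H).factorization p := by
    rw [← hcard]
    exact Nat.card_congr (subgroupOfEquivOfLe hTH).toEquiv
  refine ⟨Sylow.ofCard (T1.subgroupOf H) h1, ?_⟩
  rw [Sylow.coe_ofCard, subgroupOf_map_subtype, inf_eq_left.mpr hTH]

end generic

section main

open scoped commutatorElement

variable {G : Type*} [Group G] [Finite G] {p : ℕ} [Fact p.Prime]
variable {S : Sylow p G} {Q M : Subgroup G}

theorem BM_le_normalizer_YM (M : Subgroup G) : BM p M ≤ normalizer (YM p M : Set G) :=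
  (Helper48.pCoreOf_le M).trans (le_normalizer_YM M)

/-- `H = ⟨O_p(M)^H⟩` -/
theorem Std.frakH_nclIn_BM (_h : Std p S Q M) {H : Subgroup G} (hH : IsInFrakH p M H) :
    nclIn (BM p M) H = H := by
  obtain ⟨-, hBH, hYH, hmin⟩ := hH
  by_contra hne
  have hlt : nclIn (BM p M) H < H := lt_of_le_of_ne (nclIn_le _ _) hne
  have h1 := hmin _ (le_nclIn hBH) hlt
  exact hYH (h1.trans (pCoreOf_le_pCoreOf_of_le_normalizer (nclIn_le _ _) (le_normalizer_nclIn _ _)))

/-- `H = O^p(H) O_p(M)` -/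
theorem Std.frakH_pResOf_sup_BM (_h : Std p S Q M) {H : Subgroup G} (hH : IsInFrakH p M H) :
    pResOf p H ⊔ BM p M = H := by
  obtain ⟨-, hBH, hYH, hmin⟩ := hH
  have hle : pResOf p H ⊔ BM p M ≤ H := sup_le (pResOf_le H) hBH
  by_contra hne
  have hlt : pResOf p H ⊔ BM p M < H := lt_of_le_of_ne hle hne
  have h1 := hmin _ le_sup_right hlt
  exact hYH (h1.trans (pCoreOf_le_pCoreOf_of_pResOf_le hle le_sup_left))

/-- `H = ⟨Y_M^H⟩ O_p(M)` -/
theorem Std.frakH_nclIn_YM_sup_BM (_h : Std p S Q M) {H : Subgroup G} (hH : IsInFrakH p M H) :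
    nclIn (YM p M) H ⊔ BM p M = H := by
  obtain ⟨-, hBH, hYH, hmin⟩ := hH
  set N := nclIn (YM p M) H with hN
  have hYN : YM p M ≤ N := le_nclIn ((YM_le_BM M).trans hBH)
  have hle : N ⊔ BM p M ≤ H := sup_le (nclIn_le _ _) hBH
  by_contra hne
  have hlt : N ⊔ BM p M < H := lt_of_le_of_ne hle hne
  have h1 := hmin _ le_sup_right hlt
  apply hYH
  have h2 : YM p M ≤ pCoreOf p (N ⊔ BM p M : Subgroup G) ⊓ N := le_inf h1 hYN
  have h3 : pCoreOf p (N ⊔ BM p M : Subgroup G) ⊓ N ≤ pCoreOf p N := by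
    apply le_pCoreOf inf_le_right _ ((Helper48.isPGroup_pCoreOf _).to_le inf_le_left)
    intro x hx
    apply Helper48.mem_normalizer_inf'
    · exact Helper48.le_normalizer_pCoreOf _ (le_sup_left (a := N) (b := BM p M) hx)
    · exact le_normalizer hx
  exact h2.trans (h3.trans
    (pCoreOf_le_pCoreOf_of_le_normalizer (nclIn_le _ _) (le_normalizer_nclIn _ _)))

/-- `O^p(H) ≤ ⟨Y_M^H⟩` -/
theorem Std.frakH_pResOf_le_nclIn_YM (h : Std p S Q M) {H : Subgroup G}
    (hH : IsInFrakH p M H) : pResOf p H ≤ nclIn (YM p M) H := by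
  have hsup := h.frakH_nclIn_YM_sup_BM hH
  obtain ⟨-, hBH, hYH, hmin⟩ := hH
  set N0 := normalClosure (((YM p M).subgroupOf H : Subgroup ↥H) : Set ↥H) with hN0
  have hBN : BM p M ≤ normalizer (nclIn (YM p M) H : Set G) := hBH.trans (le_normalizer_nclIn _ _)
  have key : pResidual p ↥H ≤ N0 := by
    apply pResidual_le_of_forall_pow_mem
    intro g
    have hg : (g : G) ∈ nclIn (YM p M) H ⊔ BM p M := by rw [hsup]; exact g.2
    obtain ⟨n, hn, b, hb, hgnb⟩ := exists_mul_of_mem_sup_of_le_normalizer hBN hg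
    obtain ⟨n0, hn0, hn0n⟩ := hn
    obtain ⟨e, he⟩ := (BM_isPGroup M) ⟨b, hb⟩
    have he' : b ^ (p ^ e) = 1 := by
      have := congrArg Subtype.val he
      simpa using this
    refine ⟨e, ?_⟩
    have hgeq : g = n0 * ⟨b, hBH hb⟩ := by
      apply Subtype.ext
      rw [Subgroup.coe_mul, hgnb]
      congr 1
      exact hn0n.symm
    rw [← QuotientGroup.eq_one_iff, QuotientGroup.mk_pow, hgeq, QuotientGroup.mk_mul,
      (QuotientGroup.eq_one_iff n0).mpr hn0, one_mul, ← QuotientGroup.mk_pow]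
    rw [QuotientGroup.eq_one_iff]
    have : (⟨b, hBH hb⟩ : ↥H) ^ (p ^ e) = 1 := by
      apply Subtype.ext
      simpa using he'
    rw [this]
    exact one_mem _
  exact map_mono key

/-- `O^p(H) Y_M = ⟨Y_M^H⟩` -/
theorem Std.frakH_pResOf_sup_YM (h : Std p S Q M) {H : Subgroup G} (hH : IsInFrakH p M H) :
    pResOf p H ⊔ YM p M = nclIn (YM p M) H := by
  have hsup := h.frakH_pResOf_sup_BM hH
  have hle := h.frakH_pResOf_le_nclIn_YM hH
  obtain ⟨-, hBH, hYH, hmin⟩ := hH
  apply le_antisymm (sup_le hle (le_nclIn ((YM_le_BM M).trans hBH)))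
  apply nclIn_le_of_le_normalizer le_sup_right
  refine hsup.symm.le.trans ?_
  apply sup_le (le_sup_left.trans le_normalizer)
  exact (le_inf (hBH.trans (le_normalizer_pResOf H)) (BM_le_normalizer_YM M)).trans
    (normalizer_inf_normalizer_le_normalizer_sup _ _)

/-- `O^p(H) = [O^p(H), Y_M]` -/
theorem Std.frakH_commutator (h : Std p S Q M) {H : Subgroup G} (hH : IsInFrakH p M H) :
    ⁅pResOf p H, YM p M⁆ = pResOf p H := by
  have hsup := h.frakH_pResOf_sup_BM hH
  have hle := h.frakH_pResOf_le_nclIn_YM hH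
  obtain ⟨-, hBH, hYH, hmin⟩ := hH
  set R := pResOf p H with hR
  set D := ⁅R, YM p M⁆ with hD
  have hYH' : YM p M ≤ H := (YM_le_BM M).trans hBH
  have hYR : YM p M ≤ normalizer (R : Set G) := hYH'.trans (le_normalizer_pResOf H)
  have hDR : D ≤ R := Helper1.commutator_le_of_le_normalizer hYR
  have hRD : R ≤ normalizer (D : Set G) := Helper1.le_normalizer_commutator_left R _
  have hYD : YM p M ≤ normalizer (D : Set G) := Helper1.le_normalizer_commutator_right hYR
  have hBD : BM p M ≤ normalizer (D : Set G) :=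
    (le_inf (hBH.trans (le_normalizer_pResOf H)) (BM_le_normalizer_YM M)).trans
      (normalizer_inf_normalizer_le_normalizer_commutator _ _)
  -- `H` normalizes `D ⊔ Y`
  have hRDY : R ≤ normalizer ((D ⊔ YM p M : Subgroup G) : Set G) := by
    apply Helper1.le_normalizer_of_conj_smul_le
    intro r hr
    rw [← cj_eq_smul, cj_sup]
    apply sup_le
    · rw [cj_eq_self_iff.mpr (hRD hr)]; exact le_sup_left
    · rintro _ ⟨y, hy, rfl⟩
      simp only [MulEquiv.coe_toMonoidHom, MulAut.conj_apply]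
      have h1 : ⁅r, y⁆ ∈ D := commutator_mem_commutator hr hy
      have h2 : r * y * r⁻¹ = ⁅r, y⁆ * y := by
        rw [commutatorElement_def]; group
      rw [h2]
      exact mul_mem (mem_sup_left h1) (mem_sup_right hy)
  have hHDY : H ≤ normalizer ((D ⊔ YM p M : Subgroup G) : Set G) := by
    refine hsup.symm.le.trans ?_
    apply sup_le hRDY
    exact (le_inf hBD (BM_le_normalizer_YM M)).trans
      (normalizer_inf_normalizer_le_normalizer_sup _ _)
  have hRle : R ≤ D ⊔ YM p M := hle.trans (nclIn_le_of_le_normalizer le_sup_right hHDY)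
  apply le_antisymm hDR
  have hRcl : R = closure {g : G | g ∈ H ∧ (orderOf g).Coprime p} := map_pResidual_eq_closure H
  have hRcl' : closure {g : G | g ∈ H ∧ (orderOf g).Coprime p} ≤ D := by
    rw [closure_le]
    rintro g ⟨hgH, hgc⟩
    have hgR : g ∈ R := by
      rw [hRcl]; exact subset_closure ⟨hgH, hgc⟩
    exact mem_of_mem_sup_of_coprime hYD ((BM_isPGroup M).to_le (YM_le_BM M)) (hRle hgR) hgc
  rw [← hRcl] at hRcl'
  exact hRcl'

/-- `O_p(H)` normalizes `O_p(M)` and `Y_M` -/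
theorem Std.frakH_pCoreOf_le (h : Std p S Q M) (hasym : ¬ IsSymmetricIn (YM p M))
    {H : Subgroup G} (hH : IsInFrakH p M H) :
    pCoreOf p H ≤ normalizer (BM p M : Set G) ⊓ normalizer (YM p M : Set G) := by
  have h1 := h.pCoreOf_le_normalizer_BM hasym hH.2.1
  exact le_inf h1 (h1.trans (h.normalizer_BM_le_dag.trans (dag_le_normalizer_YM M)))

/-- Sylow `p`-subgroups of `H ∩ M†` are Sylow `p`-subgroups of `H` -/
theorem Std.frakH_sylow (h : Std p S Q M) (hasym : ¬ IsSymmetricIn (YM p M))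
    {H : Subgroup G} (hH : IsInFrakH p M H) (T : Sylow p ↥(H ⊓ dag p M)) :
    ∃ P : Sylow p ↥H, (P : Subgroup ↥H).map H.subtype =
      (T : Subgroup ↥(H ⊓ dag p M)).map (H ⊓ dag p M).subtype := by
  obtain ⟨P0, -, hP0N⟩ := h.exists_sylow_le_normalizer_BM hasym hH.2.1
  have hP0le : (P0 : Subgroup ↥H).map H.subtype ≤ H ⊓ dag p M :=
    le_inf (map_subtype_le _) (hP0N.trans h.normalizer_BM_le_dag)
  have hc0 : Nat.card ((P0 : Subgroup ↥H).map H.subtype) = p ^ (Nat.card ↥H).factorization p := by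
    rw [← P0.card_eq_multiplicity]
    exact (Nat.card_congr (equivMapOfInjective _ _ H.subtype_injective).toEquiv).symm
  have hp := (Fact.out : p.Prime)
  have hle1 : (Nat.card ↥H).factorization p ≤ (Nat.card ↥(H ⊓ dag p M)).factorization p := by
    rw [← hp.pow_dvd_iff_le_factorization Nat.card_pos.ne', ← hc0]
    exact card_dvd_of_le hP0le
  have hle2 : (Nat.card ↥(H ⊓ dag p M)).factorization p ≤ (Nat.card ↥H).factorization p := by
    have hdvd : Nat.card ↥(H ⊓ dag p M) ∣ Nat.card ↥H := card_dvd_of_le inf_le_left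
    exact (Nat.factorization_le_iff_dvd Nat.card_pos.ne' Nat.card_pos.ne').mpr hdvd p
  apply exists_sylow_map_eq_of_card ((map_subtype_le _).trans inf_le_left)
  rw [← le_antisymm hle2 hle1, ← T.card_eq_multiplicity]
  exact (Nat.card_congr (equivMapOfInjective _ _ (H ⊓ dag p M).subtype_injective).toEquiv).symm

end main

end Cfsg.Agent.Helper47
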