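import Mathlib
import Cfsg.Agent.Lib.Helper47.MSSAsym5

set_option autoImplicit false
set_option linter.unusedSectionVars false
set_option linter.style.haveILetI false

/-!
# `H ∈ ℌ_G(O_p(M))` normalizing a conjugate of the large subgroup
-/

namespace Cfsg.Agent.Helper47

open Cfsg Subgroup
open scoped commutatorElement

section generic

variable {G : Type*} [Group G] {p : ℕ}

/-- Dedekind's modular law in the form needed here -/
theorem le_inf_sup_of_le_sup {A K D : Subgroup G} (hDA : D ≤ A) (hA : A ≤ K ⊔ D)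
    (hKD : K ≤ normalizer (D : Set G)) : A ≤ (A ⊓ K) ⊔ D := by
  intro x hx
  have hx' : x ∈ D ⊔ K := by rw [sup_comm]; exact hA hx
  obtain ⟨d, hd, k, hk, rfl⟩ := exists_mul_of_mem_sup_of_le_normalizer hKD hx'
  have hkA : k ∈ A := by
    have := A.mul_mem (A.inv_mem (hDA hd)) hx
    rwa [inv_mul_cancel_left] at this
  have : d * k = k * (k⁻¹ * d * k) := by group
  rw [this]
  refine mul_mem (mem_sup_left ⟨hkA, hk⟩) (mem_sup_right ?_)
  have := (mem_normalizer_iff.mp (inv_mem (hKD hk)) d).mp hd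
  simpa using this

theorem normalizer_le_normalizer_pCoreOf [Fact p.Prime] (N : Subgroup G) :
    normalizer (N : Set G) ≤ normalizer (pCoreOf p N : Set G) := by
  intro x hx
  rw [← cj_eq_self_iff, ← pCoreOf_cj, cj_eq_self_iff.mpr hx]

/-- conjugation invariance of `commStab` -/
theorem normalizer_inf_le_normalizer_commStab (V U : Subgroup G) :
    normalizer (V : Set G) ⊓ normalizer (U : Set G) ≤ normalizer (commStab V U : Set G) := by
  have key : ∀ x ∈ normalizer (V : Set G) ⊓ normalizer (U : Set G), ∀ l ∈ commStab V U,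
      x * l * x⁻¹ ∈ commStab V U := by
    rintro x ⟨hxV, hxU⟩ l ⟨hlU, hl⟩
    refine ⟨Subgroup.mul_mem _ (Subgroup.mul_mem _ hxU hlU) (Subgroup.inv_mem _ hxU), ?_⟩
    intro v hv
    have hv' : x⁻¹ * v * x ∈ V := by
      have := (mem_normalizer_iff.mp (inv_mem hxV) v).mp hv
      simpa using this
    have h1 := hl _ hv'
    have h2 := (mem_normalizer_iff.mp hxU _).mp h1
    have e : ⁅v, x * l * x⁻¹⁆ = x * ⁅x⁻¹ * v * x, l⁆ * x⁻¹ := by
      simp only [commutatorElement_def]; group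
    rw [e]; exact h2
  intro x hx
  rw [mem_normalizer_iff]
  intro l
  constructor
  · exact key x hx l
  · intro hl
    have hx' := mem_inf.mp hx
    have := key x⁻¹ (mem_inf.mpr ⟨Subgroup.inv_mem _ hx'.1, Subgroup.inv_mem _ hx'.2⟩) _ hl
    simpa [mul_assoc] using this

/-- internal criterion for `p`-closedness -/
theorem isPClosed_of_forall_le [Finite G] [Fact p.Prime] {N T : Subgroup G} (_hTN : T ≤ N)
    (hT : IsPGroup p T) (hNT : N ≤ normalizer (T : Set G))
    (hall : ∀ P : Subgroup G, P ≤ N → IsPGroup p P → P ≤ T) : IsPClosed p ↥N := by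
  obtain ⟨P0, hP0⟩ := (hT.comap_subtype (K := N)).exists_le_sylow
  have h1 : ((P0 : Subgroup ↥N).map N.subtype) ≤ T :=
    hall _ (map_subtype_le _) (P0.isPGroup'.map _)
  have h2 : (P0 : Subgroup ↥N) = T.subgroupOf N := by
    apply le_antisymm _ hP0
    intro x hx
    show (x : G) ∈ T
    exact h1 ⟨x, hx, rfl⟩
  apply isPClosed_of_sylow_normal P0
  rw [h2]
  exact normal_subgroupOf_of_le_normalizer hNT

theorem isPClosed_of_mulEquiv {A B : Type*} [Group A] [Group B] (e : A ≃* B)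
    (h : IsPClosed p A) : IsPClosed p B := by
  intro P
  have hinj : Function.Injective e.toMonoidHom := e.injective
  have hle : (P : Subgroup B) ≤ e.toMonoidHom.range := by
    intro x _
    exact ⟨e.symm x, by simp⟩
  have h1 := h (P.comapOfInjective e.toMonoidHom hinj hle)
  have h2 : (P : Subgroup B) =
      ((P.comapOfInjective e.toMonoidHom hinj hle : Sylow p A) : Subgroup A).map e.toMonoidHom := by
    rw [Sylow.coe_comapOfInjective]
    ext x
    constructor
    · intro hx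
      refine ⟨e.symm x, ?_, by simp⟩
      show e.toMonoidHom (e.symm x) ∈ (P : Subgroup B)
      rw [MulEquiv.coe_toMonoidHom, MulEquiv.apply_symm_apply]
      exact hx
    · rintro ⟨y, hy, rfl⟩
      exact hy
  rw [h2]
  exact Subgroup.Normal.map h1 e.toMonoidHom e.surjective

/-- the normal closure as a join of conjugates -/
theorem nclIn_eq_iSup {X H : Subgroup G} (hXH : X ≤ H) :
    nclIn X H = ⨆ h : ↥H, cj (h : G) X := by
  apply le_antisymm
  · apply nclIn_le_of_le_normalizer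
    · refine le_iSup_of_le (1 : ↥H) ?_
      rw [OneMemClass.coe_one, cj_one]
    · apply Helper1.le_normalizer_of_conj_smul_le
      intro h' hh'
      rw [← cj_eq_smul]
      show Subgroup.map _ _ ≤ _
      rw [Subgroup.map_iSup]
      apply iSup_le
      intro h
      refine le_iSup_of_le (⟨h', hh'⟩ * h : ↥H) ?_
      rw [Subgroup.coe_mul, cj_mul]
  · apply iSup_le
    intro h
    have h1 : cj (h : G) X ≤ cj (h : G) (nclIn X H) := cj_mono (le_nclIn hXH)
    rwa [cj_eq_self_iff.mpr (le_normalizer_nclIn X H h.2)] at h1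

/-- a group in which `O^p` acts trivially modulo `O_p` is `p`-closed -/
theorem le_pCoreOf_of_commutator_mem [Finite G] [Fact p.Prime] {N : Subgroup G}
    (hcomm : ∀ v ∈ N, ∀ r ∈ pResOf p N, ⁅v, r⁆ ∈ pCoreOf p N) {P : Subgroup G} (hPN : P ≤ N)
    (hP : IsPGroup p P) : P ≤ pCoreOf p N := by
  obtain ⟨T0, hT0⟩ := (hP.comap_subtype (K := N)).exists_le_sylow
  set T := (T0 : Subgroup ↥N).map N.subtype with hT
  have hPT : P ≤ T := by
    intro x hx
    exact ⟨⟨x, hPN hx⟩, hT0 (show (⟨x, hPN hx⟩ : ↥N) ∈ P.subgroupOf N from hx), rfl⟩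
  have hTN : T ≤ N := map_subtype_le _
  have hcore : pCoreOf p N ≤ T := by
    have := Helper46.pCore_le_sylow T0
    exact map_mono this
  have hsup : T ⊔ pResOf p N = N := by
    have := sylow_sup_pResidual_eq_top T0
    have h2 := congrArg (Subgroup.map N.subtype) this
    rw [Subgroup.map_sup, ← MonoidHom.range_eq_map, range_subtype] at h2
    exact h2
  have hnorm : N ≤ normalizer (T : Set G) := by
    refine hsup.symm.le.trans (sup_le le_normalizer ?_)
    apply Helper1.le_normalizer_of_conj_smul_le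
    intro r hr
    rw [← cj_eq_smul]
    rintro _ ⟨t, ht, rfl⟩
    simp only [MulEquiv.coe_toMonoidHom, MulAut.conj_apply]
    have h1 : ⁅t, r⁆ ∈ pCoreOf p N := hcomm t (hTN ht) r hr
    have h2 : r * t * r⁻¹ = (⁅t, r⁆)⁻¹ * t := by
      rw [commutatorElement_def]; group
    rw [h2]
    exact mul_mem (inv_mem (hcore h1)) ht
  exact hPT.trans (le_pCoreOf hTN hnorm (T0.isPGroup'.map _))

end generic

section main

variable {G : Type*} [Group G] [Finite G] {p : ℕ} [Fact p.Prime]
variable {S : Sylow p G} {Q M : Subgroup G}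

/-- a `p`-group normalized by `H ∈ ℌ` normalizes `H` -/
theorem Std.frakH_sup_normal (h : Std p S Q M) (hasym : ¬ IsSymmetricIn (YM p M))
    {H R : Subgroup G} (hH : IsInFrakH p M H) (hR : IsPGroup p R)
    (hHR : H ≤ normalizer (R : Set G)) : R ≤ normalizer (H : Set G) := by
  have hBH : BM p M ≤ H := hH.2.1
  have hH1N : H ⊔ R ≤ normalizer (R : Set G) := sup_le hHR le_normalizer
  have hRD : R ≤ pCoreOf p (H ⊔ R) := le_pCoreOf le_sup_right hH1N hR
  have hDB : pCoreOf p (H ⊔ R) ≤ normalizer (BM p M : Set G) :=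
    h.pCoreOf_le_normalizer_BM hasym (hBH.trans le_sup_left)
  have hRB : R ≤ normalizer (BM p M : Set G) := hRD.trans hDB
  have hHeq : H = ⨆ k : ↥H, cj (k : G) (BM p M) := by
    rw [← nclIn_eq_iSup hBH]; exact (h.frakH_nclIn_BM hH).symm
  intro x hx
  have key : x ∈ normalizer ((⨆ k : ↥H, cj (k : G) (BM p M) : Subgroup G) : Set G) := by
    apply Helper48.mem_normalizer_iSup'
    intro k
    rw [normalizer_cj, mem_cj]
    apply hRB
    have := (mem_normalizer_iff.mp (inv_mem (hHR k.2)) x).mp hx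
    simpa using this
  rwa [← hHeq] at key

theorem Std.frakH_pResOf_sup (h : Std p S Q M) (hasym : ¬ IsSymmetricIn (YM p M))
    {H R : Subgroup G} (hH : IsInFrakH p M H) (hR : IsPGroup p R)
    (hHR : H ≤ normalizer (R : Set G)) : pResOf p H = pResOf p (H ⊔ R) := by
  have hRH := h.frakH_sup_normal hasym hH hR hHR
  apply le_antisymm (map_pResidual_mono le_sup_left)
  rw [map_pResidual_eq_closure (H ⊔ R), map_pResidual_eq_closure H]
  apply Subgroup.closure_mono
  rintro g ⟨hg, hgc⟩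
  exact ⟨mem_of_mem_sup_of_coprime hRH hR hg hgc, hgc⟩

theorem Std.frakH_sup_not_isPClosed (_h : Std p S Q M)
    {H R : Subgroup G} (hH : IsInFrakH p M H) : ¬ IsPClosed p ↥(H ⊔ R) := by
  intro hcl
  apply hH.2.2.1
  have hYH : YM p M ≤ H := (YM_le_BM M).trans hH.2.1
  have hY1 : YM p M ≤ pCoreOf p (H ⊔ R) := by
    obtain ⟨P0, hP0⟩ := (((BM_isPGroup (p := p) M).to_le (YM_le_BM M)).comap_subtype
      (K := H ⊔ R)).exists_le_sylow
    have hn := hcl P0
    have h2 := Helper46.le_pCore hn P0.isPGroup'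
    intro y hy
    have hyH1 : y ∈ H ⊔ R := le_sup_left (b := R) (hYH hy)
    exact ⟨⟨y, hyH1⟩, h2 (hP0 (show (⟨y, hyH1⟩ : ↥(H ⊔ R)) ∈ (YM p M).subgroupOf (H ⊔ R) from hy)),
      rfl⟩
  have hY2 : pCoreOf p (H ⊔ R) ⊓ H ≤ pCoreOf p H := by
    apply le_pCoreOf inf_le_right _ ((Helper48.isPGroup_pCoreOf _).to_le inf_le_left)
    intro x hx
    exact Helper48.mem_normalizer_inf'
      (Helper48.le_normalizer_pCoreOf _ (le_sup_left (b := R) hx)) (le_normalizer hx)
  exact (le_inf hY1 hYH).trans hY2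

theorem Std.frakH_sup_pResOf_le (h : Std p S Q M) (hasym : ¬ IsSymmetricIn (YM p M))
    {H R N : Subgroup G} (hH : IsInFrakH p M H) (hR : IsPGroup p R)
    (hHR : H ≤ normalizer (R : Set G)) (hNle : N ≤ H ⊔ R)
    (hNn : H ⊔ R ≤ normalizer (N : Set G)) (hNcl : ¬ IsPClosed p ↥N) : pResOf p H ≤ N := by
  by_contra hRN
  apply hNcl
  have hBH : BM p M ≤ H := hH.2.1
  have hRH := h.frakH_sup_normal hasym hH hR hHR
  have hH1H : H ⊔ R ≤ normalizer (H : Set G) := sup_le le_normalizer hRH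
  have hH1D : H ⊔ R ≤ normalizer (pCoreOf p (H ⊔ R) : Set G) := Helper48.le_normalizer_pCoreOf _
  have hDH1 : pCoreOf p (H ⊔ R) ≤ H ⊔ R := pCoreOf_le' _
  have hDp : IsPGroup p (pCoreOf p (H ⊔ R)) := Helper48.isPGroup_pCoreOf _
  have hRD : R ≤ pCoreOf p (H ⊔ R) := le_pCoreOf le_sup_right (sup_le hHR le_normalizer) hR
  obtain ⟨D, hDdef⟩ : ∃ D, D = pCoreOf p (H ⊔ R) := ⟨_, rfl⟩
  rw [← hDdef] at hH1D hDH1 hDp hRD
  obtain ⟨N', hN'⟩ : ∃ N', N' = (N ⊔ D) ⊓ H := ⟨_, rfl⟩
  have hH1N' : H ⊔ R ≤ normalizer (N' : Set G) := by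
    intro x hx
    rw [hN']
    apply Helper48.mem_normalizer_inf' _ (hH1H hx)
    exact (normalizer_inf_normalizer_le_normalizer_sup _ _) ⟨hNn hx, hH1D hx⟩
  have hN'H : N' ≤ H := hN'.le.trans inf_le_right
  have hN'ND : N' ≤ N ⊔ D := hN'.le.trans inf_le_left
  -- Claim A
  have hA : N' ⊔ BM p M ≠ H := by
    intro heq
    apply hRN
    have e2 : pResOf p H = closure {g : G | g ∈ H ∧ (orderOf g).Coprime p} :=
      map_pResidual_eq_closure H
    rw [e2, closure_le]
    rintro g ⟨hgH, hgc⟩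
    have hg' : g ∈ N' ⊔ BM p M := by rw [heq]; exact hgH
    have h1 : g ∈ N' := mem_of_mem_sup_of_coprime ((hBH.trans le_sup_left).trans hH1N')
      (BM_isPGroup M) hg' hgc
    exact mem_of_mem_sup_of_coprime (hDH1.trans hNn) hDp (hN'ND h1) hgc
  have hlt : N' ⊔ BM p M < H := lt_of_le_of_ne (sup_le hN'H hBH) hA
  have hYP : YM p M ≤ pCoreOf p (N' ⊔ BM p M) := hH.2.2.2 _ le_sup_right hlt
  -- Claim B
  have hYH : YM p M ≤ H := (YM_le_BM M).trans hBH
  have hYN' : YM p M ≤ normalizer (N' : Set G) := (hYH.trans le_sup_left).trans hH1N'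
  have hB : ⁅N', YM p M⁆ ≤ pCoreOf p N' := by
    have h1 : ⁅N', YM p M⁆ ≤ N' := Helper1.commutator_le_of_le_normalizer hYN'
    have h2 : ⁅N', YM p M⁆ ≤ pCoreOf p (N' ⊔ BM p M) := by
      refine (commutator_mono le_rfl hYP).trans ?_
      rw [commutator_comm]
      exact Helper1.commutator_le_of_le_normalizer
        (le_sup_left.trans (Helper48.le_normalizer_pCoreOf _))
    apply (le_inf h2 h1).trans
    apply le_pCoreOf inf_le_right _ ((Helper48.isPGroup_pCoreOf _).to_le inf_le_left)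
    intro x hx
    exact Helper48.mem_normalizer_inf'
      (Helper48.le_normalizer_pCoreOf _ (le_sup_left (b := BM p M) hx)) (le_normalizer hx)
  -- Claim C
  have hHP' : H ⊔ R ≤ normalizer (pCoreOf p N' : Set G) :=
    hH1N'.trans (normalizer_le_normalizer_pCoreOf N')
  have hYcs : YM p M ≤ commStab N' (pCoreOf p N') :=
    le_commStab ((hYH.trans le_sup_left).trans hHP') hB
  have hHcs : H ≤ normalizer (commStab N' (pCoreOf p N') : Set G) := by
    intro x hx
    exact normalizer_inf_le_normalizer_commStab _ _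
      ⟨hH1N' (le_sup_left (b := R) hx), hHP' (le_sup_left (b := R) hx)⟩
  have hRcs : pResOf p H ≤ commStab N' (pCoreOf p N') :=
    (h.frakH_pResOf_le_nclIn_YM hH).trans (nclIn_le_of_le_normalizer hYcs hHcs)
  -- Claim D
  have hD' : ∀ P : Subgroup G, P ≤ N' → IsPGroup p P → P ≤ pCoreOf p N' := by
    intro P hPN' hP
    apply le_pCoreOf_of_commutator_mem _ hPN' hP
    intro v hv r hr
    exact (hRcs (map_pResidual_mono hN'H hr)).2 v hv
  -- Claim E
  have hE : N ⊔ D ≤ N' ⊔ D := by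
    have h1 : N ⊔ D ≤ H ⊔ D := by
      apply sup_le _ le_sup_right
      exact hNle.trans (sup_le le_sup_left (hRD.trans le_sup_right))
    have := le_inf_sup_of_le_sup (A := N ⊔ D) (K := H) (D := D) le_sup_right h1
      (le_sup_left.trans hH1D)
    rwa [← hN'] at this
  -- Claim F
  have hP'p : IsPGroup p (pCoreOf p N') := Helper48.isPGroup_pCoreOf N'
  have hP'H1 : pCoreOf p N' ≤ H ⊔ R := (pCoreOf_le' N').trans (hN'H.trans le_sup_left)
  have hPDp : IsPGroup p (pCoreOf p N' ⊔ D : Subgroup G) :=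
    IsPGroup.to_sup_of_normal_right' hP'p hDp (hP'H1.trans hH1D)
  apply isPClosed_of_forall_le (T := (pCoreOf p N' ⊔ D) ⊓ N) inf_le_right
    (hPDp.to_le inf_le_left)
  · intro x hx
    apply Helper48.mem_normalizer_inf' _ (le_normalizer hx)
    exact normalizer_inf_normalizer_le_normalizer_sup _ _ ⟨hHP' (hNle hx), hH1D (hNle hx)⟩
  · intro P hPN hP
    refine le_inf ?_ hPN
    have hPH1 : P ≤ H ⊔ R := hPN.trans hNle
    have hPDp' : IsPGroup p (P ⊔ D : Subgroup G) :=
      IsPGroup.to_sup_of_normal_right' hP hDp (hPH1.trans hH1D)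
    have h1 : P ⊔ D ≤ ((P ⊔ D) ⊓ N') ⊔ D := by
      apply le_inf_sup_of_le_sup le_sup_right
      · exact (sup_le (hPN.trans le_sup_left) le_sup_right).trans hE
      · exact (hN'H.trans le_sup_left).trans hH1D
    have h2 : (P ⊔ D) ⊓ N' ≤ pCoreOf p N' := hD' _ inf_le_right (hPDp'.to_le inf_le_left)
    exact le_sup_left.trans (h1.trans (sup_le_sup_right h2 D))

theorem Std.frakH_sup_isPIrreducible (h : Std p S Q M) (hasym : ¬ IsSymmetricIn (YM p M))
    {H R : Subgroup G} (hH : IsInFrakH p M H) (hR : IsPGroup p R)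
    (hHR : H ≤ normalizer (R : Set G)) : IsPIrreducible p ↥(H ⊔ R) := by
  refine ⟨h.frakH_sup_not_isPClosed hH, ?_⟩
  intro N0 hN0 hN0cl
  have hNle : N0.map (H ⊔ R).subtype ≤ H ⊔ R := map_subtype_le _
  have hNn : H ⊔ R ≤ normalizer ((N0.map (H ⊔ R).subtype : Subgroup G) : Set G) :=
    Helper48.le_normalizer_map_subtype_of_normal _ _
  have hcl : ¬ IsPClosed p ↥(N0.map (H ⊔ R).subtype) := by
    intro hc
    apply hN0cl
    exact isPClosed_of_mulEquiv
      (equivMapOfInjective N0 (H ⊔ R).subtype (H ⊔ R).subtype_injective).symm hc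
  have key := h.frakH_sup_pResOf_le hasym hH hR hHR hNle hNn hcl
  rw [h.frakH_pResOf_sup hasym hH hR hHR] at key
  exact (map_le_map_iff_of_injective (H ⊔ R).subtype_injective).mp key

end main

end Cfsg.Agent.Helper47
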