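import Mathlib
import Cfsg.Agent.Lib.Helper47.PRed2
import Cfsg.Agent.Lib.Helper47.FStarQ
import Cfsg.Agent.Lib.Helper1.Coprime

set_option autoImplicit false

namespace Cfsg.Agent.Helper47

open Cfsg Subgroup

variable {H : Type*} [Group H] {p : ℕ}

/-- `E` acts on things centralized by `C` as a `p`-group: every element has a `p`-power in `C`. -/
def PAct (p : ℕ) (E C : Subgroup H) : Prop := ∀ e ∈ E, ∃ k : ℕ, e ^ p ^ k ∈ C

theorem PAct.mono {E E' C C' : Subgroup H} (h : PAct p E C) (hE : E' ≤ E) (hC : C ≤ C') :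
    PAct p E' C' := fun e he => by
  obtain ⟨k, hk⟩ := h e (hE he)
  exact ⟨k, hC hk⟩

theorem pact_bot (C : Subgroup H) : PAct p ⊥ C := fun e he => by
  rw [mem_bot] at he
  exact ⟨0, by rw [he]; simp⟩

theorem PAct.cj {E C : Subgroup H} (h : PAct p E C) (g : H) : PAct p (cj g E) (cj g C) := by
  intro e he
  rw [mem_cj] at he
  obtain ⟨k, hk⟩ := h _ he
  refine ⟨k, ?_⟩
  rw [mem_cj]
  have : g⁻¹ * e ^ p ^ k * g = (g⁻¹ * e * g) ^ p ^ k := by
    have := conj_pow (a := g⁻¹) (b := e) (i := p ^ k)
    rw [inv_inv] at this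
    exact this.symm
  rw [this]
  exact hk

/-- `d * c` variant of `pow_mem_of_mul`. -/
theorem pow_mem_of_mul' {C : Subgroup H} {c d : H} (hc : c ∈ C)
    (hd : d ∈ normalizer (C : Set H)) {n : ℕ} (h : d ^ n ∈ C) : (d * c) ^ n ∈ C := by
  have h1 : d * c * d⁻¹ ∈ C := (mem_normalizer_iff.mp hd c).mp hc
  have : d * c = (d * c * d⁻¹) * d := by group
  rw [this]
  exact pow_mem_of_mul h1 hd h

/-- The join of two `p`-acting subgroups, one normalizing the other, is `p`-acting. -/
theorem PAct.sup {E₁ E₂ C : Subgroup H} (h₁ : PAct p E₁ C) (h₂ : PAct p E₂ C)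
    (hn : E₂ ≤ normalizer (E₁ : Set H)) (hC₁ : E₁ ≤ normalizer (C : Set H)) :
    PAct p (E₁ ⊔ E₂) C := by
  intro e he
  obtain ⟨a, ha, b, hb, rfl⟩ := exists_mul_of_mem_sup_of_le_normalizer hn he
  obtain ⟨k₂, hk₂⟩ := h₂ b hb
  have h3 : (a * b) ^ p ^ k₂ * (b ^ p ^ k₂)⁻¹ ∈ E₁ := mul_pow_mul_inv_mem ha (hn hb) _
  obtain ⟨k₁, hk₁⟩ := h₁ _ h3
  refine ⟨k₂ + k₁, ?_⟩
  rw [pow_add, pow_mul]
  have : (a * b) ^ p ^ k₂ = ((a * b) ^ p ^ k₂ * (b ^ p ^ k₂)⁻¹) * b ^ p ^ k₂ := by group
  rw [this]
  exact pow_mem_of_mul' hk₂ (hC₁ h3) hk₁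

/-- The largest `N`-normal subgroup of `N` that is `p`-acting modulo `C`; it is normalized by
every `M` normalizing `N` and `C`. -/
theorem exists_largest_pact [Finite H] (N C M : Subgroup H) (hNC : N ≤ normalizer (C : Set H))
    (hMN : M ≤ normalizer (N : Set H)) (hMC : M ≤ normalizer (C : Set H)) :
    ∃ D : Subgroup H, D ≤ N ∧ N ≤ normalizer (D : Set H) ∧ PAct p D C ∧
      M ≤ normalizer (D : Set H) ∧
      ∀ E : Subgroup H, E ≤ N → N ≤ normalizer (E : Set H) → PAct p E C → E ≤ D := by
  let 𝒮 : Set (Subgroup H) := {E | E ≤ N ∧ N ≤ normalizer (E : Set H) ∧ PAct p E C}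
  have hne : 𝒮.Nonempty := ⟨⊥, bot_le, fun x _ => by
    rw [mem_normalizer_iff]; intro h; simp [mem_bot], pact_bot C⟩
  obtain ⟨D, hD, hmax⟩ := wellFounded_gt.has_min 𝒮 hne
  have hlargest : ∀ E : Subgroup H, E ≤ N → N ≤ normalizer (E : Set H) → PAct p E C → E ≤ D := by
    intro E hE1 hE2 hE3
    have hsup : D ⊔ E ∈ 𝒮 := by
      refine ⟨sup_le hD.1 hE1, ?_, ?_⟩
      · exact (le_inf hD.2.1 hE2).trans (normalizer_inf_normalizer_le_normalizer_sup D E)
      · exact PAct.sup hD.2.2 hE3 (hE1.trans hD.2.1) (hD.1.trans hNC)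
    have := hmax (D ⊔ E) hsup
    have h2 : ¬ D < D ⊔ E := this
    have h3 : D ⊔ E ≤ D := by
      by_contra h
      exact h2 (lt_of_le_of_ne le_sup_left (fun heq => h (heq ▸ le_rfl)))
    exact le_sup_right.trans h3
  refine ⟨D, hD.1, hD.2.1, hD.2.2, ?_, hlargest⟩
  apply Helper1.le_normalizer_of_conj_smul_le
  intro m hm
  rw [← cj_eq_smul]
  have hcN : cj m N = N := cj_eq_self_iff.mpr (hMN hm)
  have hcC : cj m C = C := cj_eq_self_iff.mpr (hMC hm)
  apply hlargest
  · rw [← hcN]; exact cj_mono hD.1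
  · rw [normalizer_cj]
    conv_lhs => rw [← hcN]
    exact cj_mono hD.2.1
  · have := PAct.cj hD.2.2 m
    rwa [hcC] at this

/-- `V` is a `p`-reduced normal subgroup of `M`, formulated inside the ambient group. -/
structure PR (p : ℕ) (M V : Subgroup H) : Prop where
  le : V ≤ M
  norm : M ≤ normalizer (V : Set H)
  ea : IsElementaryAbelian p V
  red : RedIn p M V

theorem redIn_iff_pact {M V : Subgroup H} : RedIn p M V ↔
    ∀ E : Subgroup H, E ≤ M → M ≤ normalizer (E : Set H) →
      PAct p E (centralizer (V : Set H)) → E ≤ centralizer (V : Set H) := Iff.rfl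

theorem isElementaryAbelian_of_le {V W : Subgroup H} (h : IsElementaryAbelian p V) (hWV : W ≤ V) :
    IsElementaryAbelian p W := by
  refine ⟨?_, fun a ha => h.2 a (hWV ha)⟩
  have := h.1
  rw [← le_centralizer_iff_isMulCommutative]
  have : V ≤ centralizer (V : Set H) := le_centralizer_iff_isMulCommutative.mpr h.1
  exact hWV.trans (this.trans (centralizer_le (by exact_mod_cast hWV)))

theorem isElementaryAbelian_map_subtype {M : Subgroup H} {W : Subgroup ↥M}
    (h : IsElementaryAbelian p W) : IsElementaryAbelian p (W.map M.subtype) := by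
  refine ⟨?_, ?_⟩
  · have := h.1
    exact Subgroup.map_isMulCommutative W M.subtype
  · rintro _ ⟨a, ha, rfl⟩
    have := h.2 a ha
    simpa using congrArg Subtype.val this

/-- From the type-level notion to the internal one. -/
theorem PR.of_isPReducedNormal {M : Subgroup H} {W : Subgroup ↥M} (hW : IsPReducedNormal p W) :
    PR p M (W.map M.subtype) := by
  obtain ⟨hWn, hea, hCn, hO⟩ := hW
  have := hWn
  have := hCn
  exact ⟨map_subtype_le _, Helper48.le_normalizer_map_subtype_of_normal M W,
    isElementaryAbelian_map_subtype hea, redIn_of_pCore_quotient_eq_bot W hO⟩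

/-- From the internal notion to the type-level one. -/
theorem PR.isPReducedNormal_subgroupOf {M V : Subgroup H} (h : PR p M V) :
    IsPReducedNormal p (V.subgroupOf M) := by
  have hmap : (V.subgroupOf M).map M.subtype = V := by
    rw [subgroupOf_map_subtype, inf_eq_left.mpr h.le]
  have hVn : (V.subgroupOf M).Normal := normal_subgroupOf_of_le_normalizer h.norm
  have := hVn
  have hCn : (centralizer ((V.subgroupOf M : Subgroup ↥M) : Set ↥M)).Normal := inferInstance
  refine ⟨hVn, ⟨?_, ?_⟩, hCn, ?_⟩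
  · have := h.ea.1
    infer_instance
  · intro a ha
    apply Subtype.ext
    simpa using h.ea.2 (a : H) ha
  · apply pCore_quotient_eq_bot_of_redIn
    rw [hmap]; exact h.red

theorem PR.le_largestPReducedOf {M V : Subgroup H} (h : PR p M V) :
    V ≤ largestPReducedOf p M :=
  le_largestPReducedOf_of_redIn h.le h.norm h.ea h.red

/-- The top case. -/
theorem PR.of_isPReducedNormal_top {V : Subgroup H} (hV : IsPReducedNormal p V) :
    PR p ⊤ V := by
  obtain ⟨hVn, hea, hCn, hO⟩ := hV
  have := hVn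
  have := hCn
  refine ⟨le_top, by rw [normalizer_eq_top], hea, ?_⟩
  intro E _ hE hpow
  have hEn : E.Normal := by
    rw [← normalizer_eq_top_iff, eq_top_iff]; exact hE
  exact Helper46.le_of_pCore_quotient_eq_bot hO hEn hpow

theorem PR.isPReducedNormal_top {V : Subgroup H} (h : PR p ⊤ V) : IsPReducedNormal p V := by
  have hVn : V.Normal := by
    rw [← normalizer_eq_top_iff, eq_top_iff]; exact h.norm
  have := hVn
  have hCn : (centralizer (V : Set H)).Normal := inferInstance
  refine ⟨hVn, h.ea, hCn, ?_⟩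
  apply Helper46.pCore_quotient_eq_bot_of
  intro D hD hpow
  have := hD
  exact h.red D le_top (by rw [normalizer_eq_top]) hpow

theorem isElementaryAbelian_cj {V : Subgroup H} (h : IsElementaryAbelian p V) (g : H) :
    IsElementaryAbelian p (cj g V) := by
  refine ⟨?_, ?_⟩
  · have := h.1
    unfold cj
    exact Subgroup.map_isMulCommutative V _
  · rintro _ ⟨a, ha, rfl⟩
    rw [← map_pow, h.2 a ha, map_one]

/-- Conjugation transport of `PR`. -/
theorem PR.cj {M V : Subgroup H} (h : PR p M V) (g : H) : PR p (cj g M) (cj g V) := by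
  refine ⟨cj_mono h.le, ?_, isElementaryAbelian_cj h.ea g, ?_⟩
  · rw [normalizer_cj]; exact cj_mono h.norm
  · intro E hE hN hpow
    have h1 : Helper47.cj g⁻¹ E ≤ M := by
      rw [cj_le_iff, inv_inv]; exact hE
    have h2 : M ≤ normalizer ((Helper47.cj g⁻¹ E : Subgroup H) : Set H) := by
      rw [normalizer_cj, ← cj_le_iff]; exact hN
    have h3 : PAct p (Helper47.cj g⁻¹ E) (centralizer (V : Set H)) := by
      have := PAct.cj hpow g⁻¹
      rwa [← centralizer_cj, cj_inv_cj] at this
    have := h.red _ h1 h2 h3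
    rw [cj_le_iff, inv_inv, ← centralizer_cj] at this
    exact this

/-- `Y_M` is `p`-reduced normal in `M` (no characteristic `p` hypothesis). -/
theorem pr_largestPReducedOf [Fact p.Prime] (M : Subgroup H) : PR p M (largestPReducedOf p M) := by
  refine ⟨Helper48.largestPReducedOf_le M, Helper48.le_normalizer_largestPReducedOf M,
    Helper48.isElementaryAbelian_largestPReducedOf M, ?_⟩
  intro E hE hN hpow
  rw [le_centralizer_iff]
  unfold largestPReducedOf largestPReduced
  rw [map_le_iff_le_comap]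
  apply sSup_le
  intro W hW
  rw [← map_le_iff_le_comap, ← le_centralizer_iff]
  have hPR := PR.of_isPReducedNormal hW
  apply hPR.red E hE hN
  refine PAct.mono hpow le_rfl (centralizer_le ?_)
  have : W.map M.subtype ≤ largestPReducedOf p M := Subgroup.map_mono (le_largestPReduced hW)
  exact_mod_cast this

/-- `Y_H` is `p`-reduced normal in `H`. -/
theorem pr_largestPReduced [Fact p.Prime] : PR p ⊤ (largestPReduced p H) := by
  refine ⟨le_top, by rw [normalizer_eq_top], Helper48.isElementaryAbelian_largestPReduced, ?_⟩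
  intro E hE hN hpow
  rw [le_centralizer_iff]
  unfold largestPReduced
  apply sSup_le
  intro W hW
  rw [← le_centralizer_iff]
  have hPR := PR.of_isPReducedNormal_top hW
  apply hPR.red E hE hN
  refine PAct.mono hpow le_rfl (centralizer_le ?_)
  have : W ≤ largestPReduced p H := le_largestPReduced hW
  exact_mod_cast this

theorem isPReducedNormal_largestPReduced' [Fact p.Prime] :
    IsPReducedNormal p (largestPReduced p H) := pr_largestPReduced.isPReducedNormal_top

/-- If `M` normalizes `N` it normalizes `Y_N`. -/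
theorem le_normalizer_largestPReducedOf_of_le_normalizer [Fact p.Prime] {M N : Subgroup H}
    (hMN : M ≤ normalizer (N : Set H)) : M ≤ normalizer ((largestPReducedOf p N : Subgroup H) : Set H) := by
  apply Helper1.le_normalizer_of_conj_smul_le
  intro m hm
  rw [← cj_eq_smul]
  have hcN : Helper47.cj m N = N := cj_eq_self_iff.mpr (hMN hm)
  have := (pr_largestPReducedOf (p := p) N).cj m
  rw [hcN] at this
  exact this.le_largestPReducedOf

end Cfsg.Agent.Helper47
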