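import Mathlib
import Cfsg.Agent.Lib.Helper47.PRed2
import Cfsg.Agent.Lib.Helper47.PRes
import Cfsg.Agent.Lib.Helper47.Transfer

set_option autoImplicit false

namespace Cfsg.Agent.Helper47

open Cfsg Subgroup
open scoped commutatorElement

section inG

variable {G : Type*} [Group G] {p : ℕ}

/-- `Z_G`: the join of `Ω₁ Z(S)` over the Sylow `p`-subgroups `S` of `G`. -/
def zClosure (p : ℕ) (G : Type*) [Group G] : Subgroup G :=
  ⨆ S : Sylow p G, omegaZ p (S : Subgroup G)

theorem omegaZ_cj (g : G) (S : Subgroup G) : omegaZ p (cj g S) = cj g (omegaZ p S) := by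
  ext x
  rw [mem_cj, mem_omegaZ, mem_omegaZ, mem_cj, centralizer_cj, mem_cj]
  have : (g⁻¹ * x * g) ^ p = 1 ↔ x ^ p = 1 := by
    have h : (g⁻¹ * x * g) ^ p = g⁻¹ * x ^ p * g := by
      have := conj_pow (a := g⁻¹) (b := x) (i := p)
      rwa [inv_inv] at this
    rw [h]
    constructor
    · intro h1
      have : x ^ p = g * (g⁻¹ * x ^ p * g) * g⁻¹ := by group
      rw [this, h1]; group
    · intro h1
      rw [h1]; group
  rw [this]

instance zClosure_normal : (zClosure p G).Normal := by
  constructor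
  intro n hn g
  have : cj g (zClosure p G) ≤ zClosure p G := by
    unfold zClosure cj
    rw [Subgroup.map_iSup]
    apply iSup_le
    intro S
    have h := omegaZ_cj (p := p) g (S : Subgroup G)
    rw [show map (MulAut.conj g).toMonoidHom (omegaZ p (S : Subgroup G)) =
      omegaZ p ((g • S : Sylow p G) : Subgroup G) from h.symm]
    exact le_iSup (fun S : Sylow p G => omegaZ p (S : Subgroup G)) (g • S)
  exact this ⟨n, hn, rfl⟩

theorem zClosure_structure [Finite G] [Fact p.Prime]
    (hchar : centralizer (pCore p G : Set G) ≤ pCore p G) :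
    zClosure p G = omegaZ p (⊤ : Subgroup G) ⊔ ⁅zClosure p G, pResidual p G⁆ ∧
    ⁅zClosure p G, (⊤ : Subgroup G)⁆ = ⁅zClosure p G, pResidual p G⁆ := by
  obtain ⟨T⟩ : Nonempty (Sylow p G) := inferInstance
  have hZE : zClosure p G ≤ Helper46.omegaZCore p G :=
    iSup_le (fun S => omegaZ_sylow_le_omegaZCore hchar S)
  have hZcomm : ∀ x ∈ zClosure p G, ∀ y ∈ zClosure p G, x * y = y * x :=
    fun x hx y hy => Helper46.omegaZCore_commute (hZE hx) (hZE hy)
  have hZp : ∀ x ∈ zClosure p G, x ^ p = 1 := fun x hx => (hZE hx).2.2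
  have hAZ : omegaZ p (T : Subgroup G) ≤ zClosure p G :=
    le_iSup (fun S : Sylow p G => omegaZ p (S : Subgroup G)) T
  have hWn : (⁅zClosure p G, pResidual p G⁆).Normal := inferInstance
  have hWZ : ⁅zClosure p G, pResidual p G⁆ ≤ zClosure p G := commutator_le_left _ _
  have hTO : (T : Subgroup G) ⊔ pResidual p G = ⊤ := sylow_sup_pResidual_eq_top T
  have hWtop : normalizer ((⁅zClosure p G, pResidual p G⁆ : Subgroup G) : Set G) = ⊤ :=
    normalizer_eq_top _
  -- (d)
  have hd : zClosure p G ≤ omegaZ p (T : Subgroup G) ⊔ ⁅zClosure p G, pResidual p G⁆ := by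
    apply iSup_le
    intro S
    obtain ⟨g, rfl⟩ := MulAction.exists_smul_eq G T S
    have hg : g ∈ (T : Subgroup G) ⊔ pResidual p G := hTO ▸ mem_top g
    rw [sup_comm, ← SetLike.mem_coe, normal_mul] at hg
    obtain ⟨o, ho, t, ht, rfl⟩ := Set.mem_mul.mp hg
    rw [sylow_smul_coe, cj_mul, cj_eq_self_of_mem ht, omegaZ_cj]
    intro x hx
    rw [mem_cj] at hx
    have hx' : x = ⁅o, o⁻¹ * x * o⁆ * (o⁻¹ * x * o) := by
      rw [commutatorElement_def]; group
    rw [hx']
    refine mul_mem (mem_sup_right ?_) (mem_sup_left hx)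
    rw [← commutatorElement_inv]
    exact inv_mem (commutator_mem_commutator (hAZ hx) ho)
  -- (e)
  have he : ⁅zClosure p G, (⊤ : Subgroup G)⁆ ≤ ⁅zClosure p G, pResidual p G⁆ := by
    have hK : (⊤ : Subgroup G) ≤ commStab (zClosure p G) ⁅zClosure p G, pResidual p G⁆ := by
      rw [← hTO]
      apply sup_le
      · intro t ht
        refine ⟨hWtop ▸ mem_top t, fun z hz => ?_⟩
        have hz' := hd hz
        rw [← SetLike.mem_coe, mul_normal] at hz'
        obtain ⟨a, ha, w, hw, rfl⟩ := Set.mem_mul.mp hz'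
        rw [commutatorElement_mul_left_eq_conj_mul]
        have h1 : ⁅a, t⁆ = 1 := by
          rw [commutatorElement_eq_one_iff_commute]
          exact (mem_centralizer_iff.mp ha.2.1 t ht).symm
        have h2 : ⁅w, t⁆ ∈ ⁅zClosure p G, pResidual p G⁆ := by
          have : ⁅w, t⁆ = w * (t * w⁻¹ * t⁻¹) := by rw [commutatorElement_def]; group
          rw [this]
          exact mul_mem hw (hWn.conj_mem _ (inv_mem hw) t)
        rw [h1, mul_one]
        exact hWn.conj_mem _ h2 a
      · exact le_commStab (hWtop ▸ le_top) le_rfl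
    exact (commutator_mono le_rfl hK).trans (commutator_commStab_le _ _)
  -- (f)
  have hf : omegaZ p (T : Subgroup G) ≤
      omegaZ p (⊤ : Subgroup G) ⊔ ⁅zClosure p G, pResidual p G⁆ := by
    intro a ha
    letI : CommGroup ↥(zClosure p G) :=
      { (inferInstance : Group ↥(zClosure p G)) with
        mul_comm := fun x y => Subtype.ext (hZcomm x x.2 y y.2) }
    have haZ : a ∈ zClosure p G := hAZ ha
    obtain ⟨c, hc1, hc2⟩ := exists_fixed_of_transfer (MulAut.conjNormal (H := zClosure p G))
      (T : Subgroup G) (⟨a, haZ⟩ : ↥(zClosure p G))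
      (by
        intro t ht
        apply Subtype.ext
        rw [MulAut.conjNormal_apply]
        have := mem_centralizer_iff.mp ha.2.1 t ht
        show t * a * t⁻¹ = a
        rw [this]; group)
      ((⁅zClosure p G, pResidual p G⁆).subgroupOf (zClosure p G))
      (by
        intro g
        rw [mem_subgroupOf]
        have : ((((MulAut.conjNormal (H := zClosure p G) g) (⟨a, haZ⟩ : ↥(zClosure p G))) /
            (⟨a, haZ⟩ : ↥(zClosure p G)) : ↥(zClosure p G)) : G) = (⁅a, g⁆)⁻¹ := by
          rw [Subgroup.coe_div, MulAut.conjNormal_apply, commutatorElement_inv,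
            commutatorElement_def, div_eq_mul_inv]
        rw [this]
        exact inv_mem (he (commutator_mem_commutator haZ (mem_top g))))
    have hcΩ : (c : G) ∈ omegaZ p (⊤ : Subgroup G) := by
      refine ⟨mem_top _, ?_, hZp c c.2⟩
      rw [mem_centralizer_iff]
      intro h _
      have := congrArg Subtype.val (hc1 h)
      rw [MulAut.conjNormal_apply] at this
      calc h * (c : G) = h * (c : G) * h⁻¹ * h := by group
        _ = (c : G) * h := by rw [this]
    have hw : (c : G) * (a ^ (T : Subgroup G).index)⁻¹ ∈ ⁅zClosure p G, pResidual p G⁆ := by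
      rw [mem_subgroupOf] at hc2
      have : ((c / (⟨a, haZ⟩ : ↥(zClosure p G)) ^ (T : Subgroup G).index :
          ↥(zClosure p G)) : G) = (c : G) * (a ^ (T : Subgroup G).index)⁻¹ := by
        rw [Subgroup.coe_div, div_eq_mul_inv, Subgroup.coe_pow]
      rw [← this]; exact hc2
    have hpow : a ^ (T : Subgroup G).index ∈
        omegaZ p (⊤ : Subgroup G) ⊔ ⁅zClosure p G, pResidual p G⁆ := by
      have : a ^ (T : Subgroup G).index =
          ((c : G) * (a ^ (T : Subgroup G).index)⁻¹)⁻¹ * (c : G) := by group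
      rw [this]
      exact mul_mem (mem_sup_right (inv_mem hw)) (mem_sup_left hcΩ)
    have hcop : Nat.Coprime (T : Subgroup G).index p :=
      ((Nat.Prime.coprime_iff_not_dvd (Fact.out : p.Prime)).mpr T.not_dvd_index).symm
    exact mem_of_pow_mem_of_pow_eq_one hcop ha.2.2 hpow
  -- (g)
  have hg : omegaZ p (⊤ : Subgroup G) ≤ zClosure p G := by
    intro x hx
    have hp : IsPGroup p (zpowers x) := by
      rw [Helper46.isPGroup_subgroup_iff]
      intro y hy
      obtain ⟨k, rfl⟩ := mem_zpowers_iff.mp hy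
      refine ⟨1, ?_⟩
      rw [pow_one, ← zpow_natCast, ← zpow_mul, mul_comm, zpow_mul, zpow_natCast, hx.2.2, one_zpow]
    obtain ⟨S, hS⟩ := hp.exists_le_sylow
    have hxS : x ∈ (S : Subgroup G) := hS (mem_zpowers x)
    refine le_iSup (fun S : Sylow p G => omegaZ p (S : Subgroup G)) S ⟨hxS, ?_, hx.2.2⟩
    exact centralizer_le (Set.subset_univ _) (by simpa using hx.2.1)
  exact ⟨le_antisymm (hd.trans (sup_le hf le_sup_right)) (sup_le hg hWZ),
    le_antisymm he (commutator_mono le_rfl le_top)⟩

end inG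

section inH

variable {H : Type*} [Group H] {p : ℕ}

theorem omegaOne_map_inf_centralizer (L : Subgroup H) (K : Subgroup ↥L) :
    omegaOne p (K.map L.subtype ⊓ centralizer ((K.map L.subtype : Subgroup H) : Set H)) =
      (omegaZ p K).map L.subtype := by
  apply le_antisymm
  · unfold omegaOne
    rw [closure_le]
    rintro x ⟨⟨hxS, hxC⟩, hxp⟩
    obtain ⟨y, hy, rfl⟩ := hxS
    refine ⟨y, ⟨hy, mem_centralizer_map_subtype.mpr hxC, ?_⟩, rfl⟩
    apply Subtype.ext
    simpa using hxp
  · rintro _ ⟨y, ⟨hy1, hy2, hy3⟩, rfl⟩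
    refine subset_closure ⟨⟨⟨y, hy1, rfl⟩, mem_centralizer_map_subtype.mp hy2⟩, ?_⟩
    simpa using congrArg Subtype.val hy3

theorem sylowCenterClosure_eq_map (L : Subgroup H) :
    sylowCenterClosure p L = (zClosure p ↥L).map L.subtype := by
  unfold sylowCenterClosure zClosure
  rw [Subgroup.map_iSup]
  congr 1
  funext S
  exact omegaOne_map_inf_centralizer L S

theorem map_subtype_top' (L : Subgroup H) : (⊤ : Subgroup ↥L).map L.subtype = L := by
  rw [← MonoidHom.range_eq_map, range_subtype]

end inH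

end Cfsg.Agent.Helper47
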