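import Mathlib
import Cfsg.Agent.Lib.Helper47.MSSAsym6
import Cfsg.Agent.Lib.Helper47.PRedSn
import Cfsg.Agent.Lib.Helper47.ZL
import Cfsg.Agent.Lib.Helper19.PRank
import Cfsg.Agent.Lib.Helper22.Bender

set_option autoImplicit false
set_option linter.unusedSectionVars false
set_option linter.style.haveILetI false

/-!
# Overgroups of the preimage of `F*(M†/C_{M†}(Y_M))` of characteristic `p`
-/

namespace Cfsg.Agent.Helper47

open Cfsg Subgroup
open scoped commutatorElement

section generic

variable {G : Type*} [Group G] {p : ℕ}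

theorem CharPSub.inf_centralizer_le {H : Subgroup G} (hH : CharPSub p H) :
    H ⊓ centralizer (pCoreOf p H : Set G) ≤ pCoreOf p H := by
  rintro x ⟨hxH, hxC⟩
  have h1 : (⟨x, hxH⟩ : ↥H) ∈ centralizer (pCore p ↥H : Set ↥H) := by
    rw [mem_centralizer_iff]
    intro z hz
    apply Subtype.ext
    exact mem_centralizer_iff.mp hxC (z : G) ⟨z, hz, rfl⟩
  exact ⟨⟨x, hxH⟩, hH h1, rfl⟩

theorem PAct.of_isPGroup {P : Subgroup G} (hP : IsPGroup p P) (C : Subgroup G) : PAct p P C := by
  intro x hx
  obtain ⟨k, hk⟩ := hP ⟨x, hx⟩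
  refine ⟨k, ?_⟩
  have : x ^ p ^ k = 1 := by
    have := congrArg Subtype.val hk
    simpa using this
  rw [this]
  exact one_mem C

theorem isElementaryAbelian_omegaZ (O : Subgroup G) : IsElementaryAbelian p (omegaZ p O) := by
  refine ⟨?_, fun a ha => ha.2.2⟩
  rw [← le_centralizer_iff_isMulCommutative]
  intro a ha
  exact centralizer_le (fun x (hx : x ∈ omegaZ p O) => hx.1) ha.2.1

/-- the properties of the preimage `F` of `F*(M†/C)` that are used -/
structure FStarPre (p : ℕ) (Md Y F : Subgroup G) : Prop where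
  red : RedIn p Md Y
  hCF : centralizer (Y : Set G) ≤ F
  hFM : F ≤ Md
  hMF : Md ≤ normalizer (F : Set G)
  hMC : Md ≤ normalizer ((centralizer (Y : Set G) : Subgroup G) : Set G)
  bender : ∀ x ∈ Md, (∀ f ∈ F, ⁅x, f⁆ ∈ centralizer (Y : Set G)) → x ∈ F

/-- a subgroup of `M†` acting as a `p`-group and centralizing `F` modulo a `p`-acting normal
subgroup of `F` centralizes `Y` -/
theorem FStarPre.le_centralizer [Finite G] {Md Y F : Subgroup G} (hF : FStarPre p Md Y F)
    {P E : Subgroup G} (hPM : P ≤ Md) (hP : PAct p P (centralizer (Y : Set G))) (hEF : E ≤ F)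
    (hFE : F ≤ normalizer (E : Set G)) (hE : PAct p E (centralizer (Y : Set G)))
    (hPFE : ⁅P, F⁆ ≤ E) : P ≤ centralizer (Y : Set G) := by
  obtain ⟨C, hCdef⟩ : ∃ C : Subgroup G, C = centralizer (Y : Set G) := ⟨_, rfl⟩
  have hred := hF.red
  have hCF := hF.hCF
  have hMC := hF.hMC
  have hbender := hF.bender
  rw [redIn_iff_pact] at hred
  rw [← hCdef] at hP hE hred hCF hMC hbender ⊢
  have hFC : F ≤ normalizer (C : Set G) := hF.hFM.trans hMC
  -- step 1: `E ≤ C`
  have hEC : E ≤ C := by
    obtain ⟨D, hDF, hFD, hDpact, hMD, hDmax⟩ :=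
      exists_largest_pact (p := p) F C Md hFC hF.hMF hMC
    exact (hDmax E hEF hFE hE).trans (hred D (hDF.trans hF.hFM) hMD hDpact)
  -- step 2: `P ≤ F`
  have hPF : P ≤ F := fun x hx =>
    hbender x (hPM hx) (fun f hf => hEC (hPFE (commutator_mem_commutator hx hf)))
  -- step 3
  have hMZ : Md ≤ normalizer ((F ⊓ commStab F C : Subgroup G) : Set G) := by
    intro m hm
    apply Helper48.mem_normalizer_inf' (hF.hMF hm)
    exact normalizer_inf_le_normalizer_commStab _ _ ⟨hF.hMF hm, hMC hm⟩
  have hZC : F ⊓ commStab F C ≤ normalizer (C : Set G) := inf_le_left.trans hFC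
  obtain ⟨D2, hD2Z, hZD2, hD2pact, hMD2, hD2max⟩ :=
    exists_largest_pact (p := p) (F ⊓ commStab F C) C Md hZC hMZ hMC
  have hD2C : D2 ≤ C := hred D2 (hD2Z.trans (inf_le_left.trans hF.hFM)) hMD2 hD2pact
  have hPN : P ≤ normalizer (C : Set G) := hPM.trans hMC
  have hCPZ : C ⊔ P ≤ F ⊓ commStab F C := by
    apply sup_le
    · apply le_inf hCF
      apply le_commStab le_normalizer
      rw [commutator_comm]
      exact Helper1.commutator_le_of_le_normalizer hFC
    · apply le_inf hPF
      apply le_commStab hPN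
      rw [commutator_comm]
      exact hPFE.trans hEC
  have hZCP : F ⊓ commStab F C ≤ normalizer ((C ⊔ P : Subgroup G) : Set G) := by
    apply Helper1.le_normalizer_of_conj_smul_le
    intro z hz
    rw [← cj_eq_smul, cj_sup]
    apply sup_le
    · rw [cj_eq_self_iff.mpr (hZC hz)]; exact le_sup_left
    · rintro _ ⟨x, hx, rfl⟩
      simp only [MulEquiv.coe_toMonoidHom, MulAut.conj_apply]
      have h1 : ⁅x, z⁆ ∈ C := hz.2.2 x (hPF hx)
      have h2 : z * x * z⁻¹ = (⁅x, z⁆)⁻¹ * x := by rw [commutatorElement_def]; group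
      rw [h2]
      exact mul_mem (mem_sup_left (inv_mem h1)) (mem_sup_right hx)
  have hpact : PAct p (C ⊔ P) C :=
    PAct.sup (fun c hc => ⟨0, by simpa using hc⟩) hP hPN le_normalizer
  exact le_sup_right.trans ((hD2max _ hCPZ hZCP hpact).trans hD2C)

/-- the preimage of `F*(M†/C_{M†}(Y))` has the properties used -/
theorem fStarPre_of_eq [Finite G] {Md Y F : Subgroup G}
    (hCM : centralizer (Y : Set G) ≤ Md)
    (hMC : Md ≤ normalizer ((centralizer (Y : Set G) : Subgroup G) : Set G))
    [hn : ((centralizer (Y : Set G)).subgroupOf Md).Normal] (hred : RedIn p Md Y)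
    (hF : F = ((generalizedFittingSubgroup (↥Md ⧸ (centralizer (Y : Set G)).subgroupOf Md)).comap
      (QuotientGroup.mk' ((centralizer (Y : Set G)).subgroupOf Md))).map Md.subtype) :
    FStarPre p Md Y F := by
  have hmem : ∀ x : ↥Md, (x : G) ∈ F ↔
      QuotientGroup.mk' ((centralizer (Y : Set G)).subgroupOf Md) x ∈
        generalizedFittingSubgroup (↥Md ⧸ (centralizer (Y : Set G)).subgroupOf Md) := by
    intro x
    rw [hF]
    constructor
    · rintro ⟨y, hy, hyx⟩
      have : y = x := Subtype.ext hyx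
      rw [← this]; exact hy
    · intro hx
      exact ⟨x, hx, rfl⟩
  refine ⟨hred, ?_, ?_, ?_, hMC, ?_⟩
  · intro c hc
    have := (hmem ⟨c, hCM hc⟩).mpr (by
      have h1 : QuotientGroup.mk' ((centralizer (Y : Set G)).subgroupOf Md) ⟨c, hCM hc⟩ = 1 := by
        rw [QuotientGroup.mk'_apply, QuotientGroup.eq_one_iff]
        exact hc
      rw [h1]; exact one_mem _)
    exact this
  · rw [hF]; exact map_subtype_le _
  · rw [hF]
    haveI : ((generalizedFittingSubgroup
        (↥Md ⧸ (centralizer (Y : Set G)).subgroupOf Md)).comap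
      (QuotientGroup.mk' ((centralizer (Y : Set G)).subgroupOf Md))).Normal :=
      Subgroup.Normal.comap Helper22.generalizedFittingSubgroup_normal _
    exact Helper48.le_normalizer_map_subtype_of_normal Md _
  · intro x hx hcomm
    have hxF := (hmem ⟨x, hx⟩).mpr
    apply hxF
    apply Helper22.centralizer_generalizedFittingSubgroup_le
    rw [mem_centralizer_iff]
    intro y hy
    obtain ⟨f0, rfl⟩ := QuotientGroup.mk'_surjective _ y
    have hf0 : (f0 : G) ∈ F := (hmem f0).mpr hy
    have h1 := hcomm _ hf0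
    -- `y * x̄ = x̄ * y`
    rw [← map_mul, ← map_mul, QuotientGroup.mk'_apply, QuotientGroup.mk'_apply, QuotientGroup.eq]
    show ((f0 * ⟨x, hx⟩)⁻¹ * (⟨x, hx⟩ * f0) : ↥Md) ∈ (centralizer (Y : Set G)).subgroupOf Md
    rw [mem_subgroupOf]
    have e : (((f0 * ⟨x, hx⟩)⁻¹ * (⟨x, hx⟩ * f0) : ↥Md) : G) =
        ((f0 : G) * x)⁻¹ * ⁅x, (f0 : G)⁆ * ((f0 : G) * x) := by
      simp only [Subgroup.coe_mul, Subgroup.coe_inv, commutatorElement_def]
      group
    rw [e]
    have hf0N : (f0 : G) * x ∈ normalizer ((centralizer (Y : Set G) : Subgroup G) : Set G) :=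
      hMC (mul_mem f0.2 hx)
    have := (mem_normalizer_iff.mp (inv_mem hf0N) _).mp h1
    simpa using this

end generic

section main

variable {G : Type*} [Group G] [Finite G] {p : ℕ} [Fact p.Prime]
variable {S : Sylow p G} {Q M : Subgroup G}

theorem Std.YM_le_largestPReducedOf (h : Std p S Q M) (hasym : ¬ IsSymmetricIn (YM p M))
    {F H : Subgroup G} (hF : FStarPre p (dag p M) (YM p M) F) (hFH : F ≤ H)
    (hH : CharPSub p H) : YM p M ≤ largestPReducedOf p H := by
  have hBH : BM p M ≤ H := (BM_le_CM (p := p) M).trans (hF.hCF.trans hFH)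
  have hYH : YM p M ≤ H := (YM_le_BM M).trans hBH
  obtain ⟨T, -, hTN⟩ := h.exists_sylow_le_normalizer_BM hasym hBH
  have hTM : (T : Subgroup ↥H).map H.subtype ≤ dag p M := hTN.trans h.normalizer_BM_le_dag
  -- the basic application
  have key : ∀ (P E : Subgroup G), P ≤ dag p M → IsPGroup p P → P ≤ E → E ≤ H →
      H ≤ normalizer (E : Set G) → PAct p E (CM p M) → P ≤ CM p M := by
    intro P E hPM hP hPE hEH hHE hEpact
    apply hF.le_centralizer hPM (PAct.of_isPGroup hP _) (E := E ⊓ F) inf_le_right _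
      (hEpact.mono inf_le_left le_rfl) _
    · intro f hf
      exact Helper48.mem_normalizer_inf' (hHE (hFH hf)) (le_normalizer hf)
    · apply le_inf
      · exact (commutator_mono hPE le_rfl).trans
          (Helper1.commutator_le_of_le_normalizer (hFH.trans hHE))
      · rw [commutator_comm]
        exact Helper1.commutator_le_of_le_normalizer (hPM.trans hF.hMF)
  -- `O_p(H) ≤ C`
  have hOT : pCoreOf p H ≤ (T : Subgroup ↥H).map H.subtype := map_mono (Helper46.pCore_le_sylow T)
  have hOC : pCoreOf p H ≤ CM p M :=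
    key _ _ (hOT.trans hTM) (Helper48.isPGroup_pCoreOf H) le_rfl (pCoreOf_le' H)
      (Helper48.le_normalizer_pCoreOf H) (PAct.of_isPGroup (Helper48.isPGroup_pCoreOf H) _)
  have hYcO : YM p M ≤ centralizer (pCoreOf p H : Set G) := le_centralizer_iff.mp hOC
  have hYO : YM p M ≤ pCoreOf p H := (le_inf hYH hYcO).trans (CharPSub.inf_centralizer_le hH)
  -- `V = ⟨Y^H⟩`
  have hYV : YM p M ≤ nclIn (YM p M) H := le_nclIn hYH
  have hVO : nclIn (YM p M) H ≤ omegaZ p (pCoreOf p H) := by
    apply nclIn_le_of_le_normalizer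
    · intro y hy
      exact ⟨hYO hy, hYcO hy, (Helper48.isElementaryAbelian_largestPReducedOf M).2 y hy⟩
    · intro x hx
      rw [← cj_eq_self_iff, ← omegaZ_cj, cj_eq_self_iff.mpr (Helper48.le_normalizer_pCoreOf H hx)]
  have hVea : IsElementaryAbelian p (nclIn (YM p M) H) :=
    isElementaryAbelian_of_le (isElementaryAbelian_omegaZ _) hVO
  have hcent : ∀ E : Subgroup G, H ≤ normalizer (E : Set G) → E ≤ CM p M →
      E ≤ centralizer (nclIn (YM p M) H : Set G) := by
    intro E hHE hEC
    rw [le_centralizer_iff]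
    apply nclIn_le_of_le_normalizer (le_centralizer_iff.mp hEC)
    exact hHE.trans (normalizer_le_normalizer_centralizer E)
  have hPR : PR p H (nclIn (YM p M) H) := by
    refine ⟨nclIn_le _ _, le_normalizer_nclIn _ _, hVea, ?_⟩
    intro E hEH hHE hEpact
    apply hcent E hHE
    have hEpactC : PAct p E (CM p M) :=
      PAct.mono hEpact le_rfl (centralizer_le (by exact_mod_cast hYV))
    obtain ⟨E0⟩ : Nonempty (Sylow p ↥E) := inferInstance
    have hsup : (E0 : Subgroup ↥E).map E.subtype ⊔ pResOf p E = E := by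
      have := sylow_sup_pResidual_eq_top E0
      have h2 := congrArg (Subgroup.map E.subtype) this
      rw [Subgroup.map_sup, ← MonoidHom.range_eq_map, range_subtype] at h2
      exact h2
    have hRes : pResOf p E ≤ centralizer (nclIn (YM p M) H : Set G) := by
      have h1 : pResidual p ↥E ≤ (centralizer (nclIn (YM p M) H : Set G)).subgroupOf E := by
        apply pResidual_le_of_forall_pow_mem
        intro g
        obtain ⟨k, hk⟩ := hEpact g g.2
        refine ⟨k, ?_⟩
        rw [mem_subgroupOf]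
        simpa using hk
      rintro _ ⟨x, hx, rfl⟩
      exact h1 hx
    obtain ⟨x, hx, hxP⟩ := Helper19.exists_conj_le_sylow H T
      ((map_subtype_le (E0 : Subgroup ↥E)).trans hEH) (E0.isPGroup'.map E.subtype)
    have hxPE : cj x ((E0 : Subgroup ↥E).map E.subtype) ≤ E := by
      have := cj_mono (a := x) (map_subtype_le (E0 : Subgroup ↥E))
      rwa [cj_eq_self_iff.mpr (hHE hx)] at this
    have hxPC : cj x ((E0 : Subgroup ↥E).map E.subtype) ≤ CM p M :=
      key _ E (hxP.trans hTM) (cj_isPGroup (E0.isPGroup'.map _)) hxPE hEH hHE hEpactC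
    have hfin : cj x E ≤ CM p M := by
      conv_lhs => rw [← hsup]
      rw [cj_sup]
      apply sup_le hxPC
      have h1 := cj_mono (a := x) hRes
      rw [← centralizer_cj, cj_eq_self_iff.mpr (le_normalizer_nclIn _ _ hx)] at h1
      exact h1.trans (centralizer_le (by exact_mod_cast hYV))
    rwa [cj_eq_self_iff.mpr (hHE hx)] at hfin
  exact hYV.trans hPR.le_largestPReducedOf

end main

end Cfsg.Agent.Helper47
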