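import Mathlib
import Cfsg.Agent.Lib.Helper47.MSSAsym7
import Cfsg.Agent.Lib.Helper47.PRed3
import Cfsg.Agent.Lib.Helper50.SubnormalSylow
import Cfsg.Agent.Lib.Helper46.SPE
import Cfsg.Agent.Lib.Helper46.Critical3

set_option autoImplicit false
set_option linter.unusedSectionVars false
set_option linter.style.haveILetI false

/-!
# Existence of subgroups with the basic property

generic lemmas: monotonicity of `Y_L`, members of `𝓛_H(T)`.
-/

namespace Cfsg.Agent.Helper47

open Cfsg Subgroup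
open scoped commutatorElement Pointwise

variable {G : Type*} [Group G] [Finite G] {p : ℕ} [Fact p.Prime]

/-- the normal closure of `Y` in `H` is `p`-reduced, given the key property -/
theorem pr_nclIn_of_key {H Y : Subgroup G} (T : Sylow p ↥H) (hH : CharPSub p H)
    (hYH : Y ≤ H) (hYc : Y ≤ centralizer (pCoreOf p H : Set G)) (hYp : ∀ y ∈ Y, y ^ p = 1)
    (key : ∀ (P E : Subgroup G), P ≤ (T : Subgroup ↥H).map H.subtype → P ≤ E → E ≤ H →
      H ≤ normalizer (E : Set G) → PAct p E (centralizer (Y : Set G)) →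
      P ≤ centralizer (Y : Set G)) :
    PR p H (nclIn Y H) := by
  have hYO : Y ≤ pCoreOf p H := (le_inf hYH hYc).trans (CharPSub.inf_centralizer_le hH)
  have hYV : Y ≤ nclIn Y H := le_nclIn hYH
  have hVO : nclIn Y H ≤ omegaZ p (pCoreOf p H) := by
    apply nclIn_le_of_le_normalizer
    · intro y hy
      exact ⟨hYO hy, hYc hy, hYp y hy⟩
    · intro x hx
      rw [← cj_eq_self_iff, ← omegaZ_cj, cj_eq_self_iff.mpr (Helper48.le_normalizer_pCoreOf H hx)]
  have hVea : IsElementaryAbelian p (nclIn Y H) :=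
    isElementaryAbelian_of_le (isElementaryAbelian_omegaZ _) hVO
  have hcent : ∀ E : Subgroup G, H ≤ normalizer (E : Set G) → E ≤ centralizer (Y : Set G) →
      E ≤ centralizer (nclIn Y H : Set G) := by
    intro E hHE hEC
    rw [le_centralizer_iff]
    apply nclIn_le_of_le_normalizer (le_centralizer_iff.mp hEC)
    exact hHE.trans (normalizer_le_normalizer_centralizer E)
  refine ⟨nclIn_le _ _, le_normalizer_nclIn _ _, hVea, ?_⟩
  intro E hEH hHE hEpact
  apply hcent E hHE
  have hEpactC : PAct p E (centralizer (Y : Set G)) :=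
    PAct.mono hEpact le_rfl (centralizer_le (by exact_mod_cast hYV))
  obtain ⟨E0⟩ : Nonempty (Sylow p ↥E) := inferInstance
  have hsup : (E0 : Subgroup ↥E).map E.subtype ⊔ pResOf p E = E := by
    have := sylow_sup_pResidual_eq_top E0
    have h2 := congrArg (Subgroup.map E.subtype) this
    rw [Subgroup.map_sup, ← MonoidHom.range_eq_map, range_subtype] at h2
    exact h2
  have hRes : pResOf p E ≤ centralizer (nclIn Y H : Set G) := by
    have h1 : pResidual p ↥E ≤ (centralizer (nclIn Y H : Set G)).subgroupOf E := by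
      apply pResidual_le_of_forall_pow_mem
      intro g
      obtain ⟨k, hk⟩ := hEpact g g.2
      refine ⟨k, ?_⟩
      rw [mem_subgroupOf]
      simpa using hk
    rintro _ ⟨x, hx, rfl⟩
    exact h1 hx
  obtain ⟨x, hx, hxP⟩ := Helper19.exists_conj_le_sylow H T
    ((map_subtype_le (E0 : Subgroup ↥E)).trans hEH) (E0.isPGroup'.map E.subtype)
  have hxPE : cj x ((E0 : Subgroup ↥E).map E.subtype) ≤ E := by
    have := cj_mono (a := x) (map_subtype_le (E0 : Subgroup ↥E))
    rwa [cj_eq_self_iff.mpr (hHE hx)] at this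
  have hxPC : cj x ((E0 : Subgroup ↥E).map E.subtype) ≤ centralizer (Y : Set G) :=
    key _ E hxP hxPE hEH hHE hEpactC
  have hfin : cj x E ≤ centralizer (Y : Set G) := by
    conv_lhs => rw [← hsup]
    rw [cj_sup]
    apply sup_le hxPC
    have h1 := cj_mono (a := x) hRes
    rw [← centralizer_cj, cj_eq_self_iff.mpr (le_normalizer_nclIn _ _ hx)] at h1
    exact h1.trans (centralizer_le (by exact_mod_cast hYV))
  rwa [cj_eq_self_iff.mpr (hHE hx)] at hfin

/-- monotonicity of `Y_L` for `T ≤ L ≤ M`, `M` of characteristic `p` -/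
theorem largestPReducedOf_mono_of_sylow (T : Sylow p G) {L M : Subgroup G} (hLM : L ≤ M)
    (hTL : (T : Subgroup G) ≤ L) (hM : CharPSub p M) :
    largestPReducedOf p L ≤ largestPReducedOf p M := by
  have hTM : (T : Subgroup G) ≤ M := hTL.trans hLM
  have hOML : pCoreOf p M ≤ pCoreOf p L :=
    le_pCoreOf ((pCoreOf_le_sylow T M hTM).trans hTL) (hLM.trans (Helper48.le_normalizer_pCoreOf M))
      (Helper48.isPGroup_pCoreOf M)
  have hYc : largestPReducedOf p L ≤ centralizer (pCoreOf p M : Set G) :=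
    (le_centralizer_iff.mp (Helper48.pCoreOf_le_centralizer_largestPReducedOf L)).trans
      (centralizer_le (by exact_mod_cast hOML))
  have hTmap : ((T.subtype hTM : Sylow p ↥M) : Subgroup ↥M).map M.subtype = (T : Subgroup G) := by
    rw [Sylow.coe_subtype, subgroupOf_map_subtype, inf_eq_left.mpr hTM]
  have hPR := pr_nclIn_of_key (T.subtype hTM) hM ((Helper48.largestPReducedOf_le L).trans hLM) hYc
    (Helper48.isElementaryAbelian_largestPReducedOf L).2 (by
      intro P E hPT hPE hEM hME hEpact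
      rw [hTmap] at hPT
      have h1 : E ⊓ L ≤ centralizer (largestPReducedOf p L : Set G) := by
        apply (pr_largestPReducedOf (p := p) L).red (E ⊓ L) inf_le_right _
          (PAct.mono hEpact inf_le_left le_rfl)
        intro l hl
        exact Helper48.mem_normalizer_inf' (hME (hLM hl)) (le_normalizer hl)
      exact (le_inf hPE (hPT.trans hTL)).trans h1)
  exact (le_nclIn ((Helper48.largestPReducedOf_le L).trans hLM)).trans hPR.le_largestPReducedOf

theorem charPSub_of_mem {X : Subgroup G} (h : X ∈ charPSubgroups p G) : CharPSub p X := by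
  intro x hx
  have h1 : (x : G) ∈ centralizer (pCoreOf p X : Set G) := by
    rw [mem_centralizer_iff]
    rintro _ ⟨z, hz, rfl⟩
    exact congrArg Subtype.val (mem_centralizer_iff.mp hx z hz)
  obtain ⟨w, hw, hwx⟩ := h.2 h1
  have : w = x := Subtype.ext hwx
  rw [← this]; exact hw

theorem mem_charPSubgroups_iff {X : Subgroup G} : X ∈ charPSubgroups p G ↔
    pCoreOf p X ≠ ⊥ ∧ centralizer (pCoreOf p X : Set G) ≤ pCoreOf p X := by
  rw [pCoreOf_ne_bot_iff]; rfl

/-- subgroups between `T` and a member of `𝓛` are in `𝓛` -/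
theorem mem_charPSubgroups_of_le (T : Sylow p G) {K X : Subgroup G} (hX : X ∈ charPSubgroups p G)
    (hTK : (T : Subgroup G) ≤ K) (hKX : K ≤ X) : K ∈ charPSubgroups p G := by
  rw [mem_charPSubgroups_iff] at hX ⊢
  have hOXK : pCoreOf p X ≤ pCoreOf p K :=
    le_pCoreOf ((pCoreOf_le_sylow T X (hTK.trans hKX)).trans hTK)
      (hKX.trans (Helper48.le_normalizer_pCoreOf X)) (Helper48.isPGroup_pCoreOf X)
  refine ⟨fun h => hX.1 (le_bot_iff.mp (h ▸ hOXK)), ?_⟩
  exact (centralizer_le (by exact_mod_cast hOXK)).trans (hX.2.trans hOXK)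

/-- `Y_L ≠ 1` for `L ∈ 𝓛(T)` -/
theorem largestPReducedOf_ne_bot (T : Sylow p G) {L : Subgroup G} (hL : L ∈ charPSubgroups p G)
    (hTL : (T : Subgroup G) ≤ L) : largestPReducedOf p L ≠ ⊥ := by
  have hS1 : ((T.subtype hTL : Sylow p ↥L) : Subgroup ↥L) ≠ ⊥ := by
    intro h
    apply hL.1
    have := Helper46.pCore_le_sylow (T.subtype hTL)
    rw [h] at this
    exact le_bot_iff.mp this
  have hZ := Helper46.center_sylow_ne_bot (T.subtype hTL) hS1
  have hZp : IsPGroup p (((T.subtype hTL : Sylow p ↥L) : Subgroup ↥L) ⊓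
      centralizer (((T.subtype hTL : Sylow p ↥L) : Subgroup ↥L) : Set ↥L) : Subgroup ↥L) :=
    (T.subtype hTL).isPGroup'.to_le inf_le_left
  have hO := Helper46.omegaOne_ne_bot_of_isPGroup hZp hZ
  have hex : ∃ x : ↥L, x ∈ omegaZ p ((T.subtype hTL : Sylow p ↥L) : Subgroup ↥L) ∧ x ≠ 1 := by
    by_contra hcon
    push Not at hcon
    apply hO
    unfold omegaOne
    rw [eq_bot_iff, closure_le]
    rintro x ⟨hx1, hx2⟩
    rw [SetLike.mem_coe, mem_bot]
    exact hcon x ⟨hx1.1, hx1.2, hx2⟩
  obtain ⟨x, hx, hx1⟩ := hex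
  have hxY := omegaZ_le_largestPReduced (charPSub_of_mem hL) (T.subtype hTL) hx
  intro hbot
  have : (x : G) ∈ largestPReducedOf p L := ⟨x, hxY, rfl⟩
  rw [hbot, mem_bot] at this
  exact hx1 (Subtype.ext this)

/-- if `M = K N` with `N ⊴ M` and `T ∩ N ≤ K` (`T` a Sylow `p`-subgroup in `M`), then some
`M`-conjugate of `K` contains `T` -/
theorem exists_cj_ge_sylow_of_sup_eq (T : Sylow p G) {M K N : Subgroup G}
    (hTM : (T : Subgroup G) ≤ M) (hKM : K ≤ M) (hNM : N ≤ M) (hMN : M ≤ normalizer (N : Set G))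
    (hsup : M ≤ N ⊔ K) (hTNK : (T : Subgroup G) ⊓ N ≤ K) :
    ∃ m ∈ M, (T : Subgroup G) ≤ cj m K := by
  have hp := (Fact.out : p.Prime)
  have hsupeq : N ⊔ K = M := le_antisymm (sup_le hNM hKM) hsup
  have hcard := Helper50.card_sup_mul_card_inf_of_le_normalizer N K (hKM.trans hMN)
  rw [hsupeq] at hcard
  -- `T ∩ N` is a Sylow `p`-subgroup of `N`
  obtain ⟨PN, hPN⟩ := exists_sylow_inf_of_le_normalizer T N (hTM.trans hMN)
  have hcPN : Nat.card ((T : Subgroup G) ⊓ N : Subgroup G) = p ^ (Nat.card ↥N).factorization p := by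
    rw [← PN.card_eq_multiplicity, hPN]
    exact (Nat.card_congr (subgroupOfEquivOfLe inf_le_right).toEquiv).symm
  have hfNK : (Nat.card ↥(N ⊓ K : Subgroup G)).factorization p = (Nat.card ↥N).factorization p := by
    apply le_antisymm
    · exact (Nat.factorization_le_iff_dvd Nat.card_pos.ne' Nat.card_pos.ne').mpr
        (card_dvd_of_le inf_le_left) p
    · rw [← hp.pow_dvd_iff_le_factorization Nat.card_pos.ne', ← hcPN]
      exact card_dvd_of_le (le_inf inf_le_right hTNK)
  have hfMK : (Nat.card ↥M).factorization p = (Nat.card ↥K).factorization p := by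
    have h1 : (Nat.card ↥M * Nat.card ↥(N ⊓ K : Subgroup G)).factorization p =
        (Nat.card ↥N * Nat.card ↥K).factorization p := by rw [hcard]
    rw [Nat.factorization_mul Nat.card_pos.ne' Nat.card_pos.ne',
      Nat.factorization_mul Nat.card_pos.ne' Nat.card_pos.ne'] at h1
    simp only [Finsupp.coe_add, Pi.add_apply] at h1
    omega
  -- a Sylow `p`-subgroup of `K`
  obtain ⟨PK⟩ : Nonempty (Sylow p ↥K) := inferInstance
  have hcPK : Nat.card ((PK : Subgroup ↥K).map K.subtype) = p ^ (Nat.card ↥M).factorization p := by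
    rw [hfMK, ← PK.card_eq_multiplicity]
    exact (Nat.card_congr (equivMapOfInjective _ _ K.subtype_injective).toEquiv).symm
  have hcT : Nat.card (T : Subgroup G) = p ^ (Nat.card ↥M).factorization p := by
    have h1 : Nat.card ((T.subtype hTM : Sylow p ↥M) : Subgroup ↥M) =
        p ^ (Nat.card ↥M).factorization p := (T.subtype hTM).card_eq_multiplicity
    rw [← h1, Sylow.coe_subtype]
    exact (Nat.card_congr (subgroupOfEquivOfLe hTM).toEquiv).symm
  obtain ⟨P1, hP1⟩ := exists_sylow_map_eq_of_card ((map_subtype_le _).trans hKM) hcPK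
  obtain ⟨P2, hP2⟩ := exists_sylow_map_eq_of_card hTM hcT
  obtain ⟨g, hg⟩ := MulAction.exists_smul_eq ↥M P1 P2
  refine ⟨g, g.2, ?_⟩
  rw [← hP2, ← hg]
  rintro _ ⟨y, hy, rfl⟩
  have hy' : y ∈ ((g • P1 : Sylow p ↥M) : Subgroup ↥M) := hy
  rw [Sylow.coe_subgroup_smul] at hy'
  obtain ⟨z, hz, rfl⟩ := (Subgroup.mem_smul_pointwise_iff_exists _ _ _).mp hy'
  have hz' : (z : G) ∈ (PK : Subgroup ↥K).map K.subtype := by
    rw [← hP1]; exact ⟨z, hz, rfl⟩
  obtain ⟨w, hw, hwz⟩ := hz'
  refine ⟨(w : G), w.2, ?_⟩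
  have hwz' : (w : G) = (z : G) := hwz
  simp [hwz']

end Cfsg.Agent.Helper47
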