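import Mathlib
import Cfsg.Agent.Lib.Helper47.BasicProp
import Cfsg.Agent.Lib.Helper47.Frat2
import Cfsg.Agent.S2824

set_option autoImplicit false
set_option linter.unusedSectionVars false
set_option linter.style.haveILetI false
set_option maxHeartbeats 1000000

/-!
# Existence of subgroups with the basic property: the construction
-/

namespace Cfsg.Agent.Helper47

open Cfsg Subgroup
open scoped commutatorElement

variable {G : Type*} [Group G] [Finite G] {p : ℕ} [Fact p.Prime]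

theorem exists_basic_property (T : Sylow p G)
    (hloc : ∀ W : Subgroup G, IsPGroup p W → W ≠ ⊥ → (T : Subgroup G) ≤ normalizer (W : Set G) →
      normalizer (W : Set G) ∈ charPSubgroups p G)
    {L : Subgroup G} (hTL : (T : Subgroup G) ≤ L) (hL : L ∈ charPSubgroups p G) :
    ∃ M Ls : Subgroup G, (T : Subgroup G) ≤ M ∧ IsInFrakM p M ∧ (T : Subgroup G) ≤ Ls ∧ Ls ≤ M ∧
      Ls ∈ charPSubgroups p G ∧ largestPReducedOf p L = largestPReducedOf p Ls ∧
      largestPReducedOf p L ≤ largestPReducedOf p M ∧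
      L ⊔ centralizer (largestPReducedOf p L : Set G) =
        Ls ⊔ centralizer (largestPReducedOf p L : Set G) := by
  classical
  obtain ⟨YL, hYL⟩ : ∃ YL : Subgroup G, YL = largestPReducedOf p L := ⟨_, rfl⟩
  obtain ⟨CL, hCL⟩ : ∃ CL : Subgroup G, CL = centralizer (YL : Set G) := ⟨_, rfl⟩
  obtain ⟨L1, hL1⟩ : ∃ L1 : Subgroup G, L1 = L ⊔ CL := ⟨_, rfl⟩
  have hLchar : CharPSub p L := charPSub_of_mem hL
  have hLNY : L ≤ normalizer (YL : Set G) := by rw [hYL]; exact le_normalizer_YM L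
  have hNCL : normalizer (YL : Set G) ≤ normalizer (CL : Set G) := by
    rw [hCL]; exact normalizer_le_normalizer_centralizer YL
  have hL1N : L1 ≤ normalizer (CL : Set G) := by
    rw [hL1]; exact sup_le (hLNY.trans hNCL) le_normalizer
  have hCL1 : CL ≤ L1 := by rw [hL1]; exact le_sup_right
  have hLL1 : L ≤ L1 := by rw [hL1]; exact le_sup_left
  have hYLne : YL ≠ ⊥ := by rw [hYL]; exact largestPReducedOf_ne_bot T hL hTL
  -- the family
  obtain ⟨𝒵, h𝒵⟩ : ∃ 𝒵 : Set (Subgroup G), 𝒵 = {X | X ∈ charPSubgroups p G ∧ (T : Subgroup G) ≤ X ∧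
      YL ≤ largestPReducedOf p X ∧ L1 ≤ (L1 ⊓ X) ⊔ CL} := ⟨_, rfl⟩
  have hmem𝒵 : ∀ X : Subgroup G, X ∈ 𝒵 ↔ X ∈ charPSubgroups p G ∧ (T : Subgroup G) ≤ X ∧
      YL ≤ largestPReducedOf p X ∧ L1 ≤ (L1 ⊓ X) ⊔ CL := by
    intro X; rw [h𝒵]; rfl
  have hL𝒵 : L ∈ 𝒵 := by
    rw [hmem𝒵]
    refine ⟨hL, hTL, hYL.le, ?_⟩
    rw [inf_eq_right.mpr hLL1, hL1]
  obtain ⟨X0, hX0, hX0max⟩ := Set.exists_max_image 𝒵
    (fun X => Nat.card (largestPReducedOf p X)) (Set.toFinite _) ⟨L, hL𝒵⟩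
  have hX0max' : ∀ X ∈ 𝒵, Nat.card (largestPReducedOf p X) ≤ Nat.card (largestPReducedOf p X0) :=
    hX0max
  rw [hmem𝒵] at hX0
  obtain ⟨Y, hY⟩ : ∃ Y : Subgroup G, Y = largestPReducedOf p X0 := ⟨_, rfl⟩
  rw [← hY] at hX0max'
  have hYLY : YL ≤ Y := by rw [hY]; exact hX0.2.2.1
  have hYne : Y ≠ ⊥ := fun h => hYLne (le_bot_iff.mp (h ▸ hYLY))
  have hYT : Y ≤ (T : Subgroup G) := by
    rw [hY]; exact (largestPReducedOf_le_pCoreOf X0).trans (pCoreOf_le_sylow T X0 hX0.2.1)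
  have hYp : IsPGroup p Y := T.isPGroup'.to_le hYT
  have hX0Mt : X0 ≤ normalizer (Y : Set G) := by rw [hY]; exact le_normalizer_YM X0
  have hTNY : (T : Subgroup G) ≤ normalizer (Y : Set G) := hX0.2.1.trans hX0Mt
  have hMt : normalizer (Y : Set G) ∈ charPSubgroups p G := hloc Y hYp hYne hTNY
  have hMtchar := charPSub_of_mem hMt
  have hRelmono : ∀ X : Subgroup G, X0 ≤ X → L1 ≤ (L1 ⊓ X) ⊔ CL := fun X hX =>
    hX0.2.2.2.trans (sup_le_sup_right (inf_le_inf_left _ hX) _)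
  -- `Y_{M̃} = Y`
  have hYMt : largestPReducedOf p (normalizer (Y : Set G)) = Y := by
    have h1 : Y ≤ largestPReducedOf p (normalizer (Y : Set G)) := by
      rw [hY]; rw [hY] at hX0Mt hMtchar
      exact largestPReducedOf_mono_of_sylow T hX0Mt hX0.2.1 hMtchar
    have hmem : normalizer (Y : Set G) ∈ 𝒵 := by
      rw [hmem𝒵]; exact ⟨hMt, hTNY, hYLY.trans h1, hRelmono _ hX0Mt⟩
    exact (Subgroup.eq_of_le_of_card_ge h1 (hX0max' _ hmem)).symm
  have hMtmax : ∀ X ∈ charPSubgroups p G, normalizer (Y : Set G) ≤ X →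
      X = normalizer (Y : Set G) := by
    intro X hX hMtX
    have h1 : Y ≤ largestPReducedOf p X := by
      have := largestPReducedOf_mono_of_sylow T hMtX hTNY (charPSub_of_mem hX)
      rwa [hYMt] at this
    have hmem : X ∈ 𝒵 := by
      rw [hmem𝒵]; exact ⟨hX, hTNY.trans hMtX, hYLY.trans h1, hRelmono _ (hX0Mt.trans hMtX)⟩
    have h3 : Y = largestPReducedOf p X := Subgroup.eq_of_le_of_card_ge h1 (hX0max' _ hmem)
    apply le_antisymm _ hMtX
    have h4 : X ≤ normalizer (largestPReducedOf p X : Set G) := le_normalizer_YM X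
    rwa [← h3] at h4
  obtain ⟨CY, hCY⟩ : ∃ CY : Subgroup G, CY = centralizer (Y : Set G) := ⟨_, rfl⟩
  have hCYMt : CY ≤ normalizer (Y : Set G) := by rw [hCY]; exact centralizer_le_normalizer _
  have hMtCY : normalizer (Y : Set G) ≤ normalizer (CY : Set G) := by
    rw [hCY]; exact normalizer_le_normalizer_centralizer Y
  have hCYCL : CY ≤ CL := by
    rw [hCY, hCL]; exact centralizer_le (by exact_mod_cast hYLY)
  -- minimal `M`
  obtain ⟨𝒩, h𝒩⟩ : ∃ 𝒩 : Set (Subgroup G), 𝒩 = {M | (T : Subgroup G) ≤ M ∧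
      M ≤ normalizer (Y : Set G) ∧ normalizer (Y : Set G) ≤ M ⊔ CY} := ⟨_, rfl⟩
  have hmem𝒩 : ∀ M : Subgroup G, M ∈ 𝒩 ↔ (T : Subgroup G) ≤ M ∧
      M ≤ normalizer (Y : Set G) ∧ normalizer (Y : Set G) ≤ M ⊔ CY := by
    intro M; rw [h𝒩]; rfl
  have hMt𝒩 : normalizer (Y : Set G) ∈ 𝒩 := by
    rw [hmem𝒩]; exact ⟨hTNY, le_rfl, le_sup_left⟩
  obtain ⟨M, hM𝒩, hMmin⟩ := Set.exists_min_image 𝒩 (fun M => Nat.card M) (Set.toFinite _)
    ⟨_, hMt𝒩⟩
  have hMmin' : ∀ M' ∈ 𝒩, Nat.card M ≤ Nat.card M' := hMmin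
  rw [hmem𝒩] at hM𝒩
  obtain ⟨hTM, hMMt, hMtM⟩ := hM𝒩
  have hmin' : ∀ M' : Subgroup G, (T : Subgroup G) ≤ M' → M' ≤ M →
      normalizer (Y : Set G) ≤ M' ⊔ CY → M' = M := by
    intro M' h1 h2 h3
    have : Nat.card M ≤ Nat.card M' := hMmin' M' ((hmem𝒩 M').mpr ⟨h1, h2.trans hMMt, h3⟩)
    exact Subgroup.eq_of_le_of_card_ge h2 this
  have hMsup : M ⊔ CY = normalizer (Y : Set G) := le_antisymm (sup_le hMMt hCYMt) hMtM
  have hM𝓛 : M ∈ charPSubgroups p G := mem_charPSubgroups_of_le T hMt hTM hMMt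
  have hMchar := charPSub_of_mem hM𝓛
  -- `Y_M = Y`
  have hYM : largestPReducedOf p M = Y := by
    apply le_antisymm
    · have := largestPReducedOf_mono_of_sylow T hMMt hTM hMtchar
      rwa [hYMt] at this
    · have hYM' : largestPReducedOf p (normalizer (Y : Set G)) ≤ M := by
        rw [hYMt]; exact hYT.trans hTM
      have := largestPReducedOf_le_of_sup_eq M (normalizer (Y : Set G)) hMtchar hYM' (by
        rw [hYMt, ← hCY, hMsup]; exact (sup_eq_left.mpr hCYMt).symm)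
      rwa [hYMt] at this
  -- the relation `L ≪ X` for overgroups of `M`
  have hRel : ∀ X : Subgroup G, M ≤ X → L1 ≤ (L1 ⊓ X) ⊔ CL := by
    intro X hMX l hl
    have h1 : l ∈ CL ⊔ (L1 ⊓ normalizer (Y : Set G)) := by
      have := hRelmono _ hX0Mt hl
      rwa [sup_comm] at this
    obtain ⟨c, hc, a, ha, rfl⟩ :=
      exists_mul_of_mem_sup_of_le_normalizer (inf_le_left.trans hL1N) h1
    have h2 : a ∈ CY ⊔ M := by rw [sup_comm, hMsup]; exact ha.2
    obtain ⟨c', hc', m, hm, rfl⟩ :=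
      exists_mul_of_mem_sup_of_le_normalizer (hMMt.trans hMtCY) h2
    have hmL1 : m ∈ L1 := by
      have := L1.mul_mem (L1.inv_mem (hCL1 (hCYCL hc'))) ha.1
      rwa [inv_mul_cancel_left] at this
    have e : c * (c' * m) = (c * c') * m := by group
    rw [e, sup_comm]
    exact mul_mem (mem_sup_left (mul_mem hc (hCYCL hc'))) (mem_sup_right ⟨hmL1, hMX hm⟩)
  have hdag : M ⊔ centralizer (largestPReducedOf p M : Set G) = normalizer (Y : Set G) := by
    rw [hYM, ← hCY, hMsup]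
  -- `C_M(Y)` is normal in `M` with normal Sylow subgroup `T ∩ C_M(Y)`
  have hMCM : M ≤ normalizer ((M ⊓ CY : Subgroup G) : Set G) := fun m hm =>
    Helper48.mem_normalizer_inf' (le_normalizer hm) (hMtCY (hMMt hm))
  have hTCT : (T : Subgroup G) ≤
      normalizer (((T : Subgroup G) ⊓ (M ⊓ CY) : Subgroup G) : Set G) := fun t ht =>
    Helper48.mem_normalizer_inf' (le_normalizer ht) (hMCM (hTM ht))
  have hMTC : M ≤ normalizer (((T : Subgroup G) ⊓ (M ⊓ CY) : Subgroup G) : Set G) := by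
    have hfr := le_inf_normalizer_sup T hTM hMCM
    have hM2 : M ⊓ normalizer (((T : Subgroup G) ⊓ (M ⊓ CY) : Subgroup G) : Set G) = M := by
      apply hmin' _ (le_inf hTM hTCT) inf_le_left
      rw [← hMsup]
      refine (sup_le_sup_right hfr _).trans ?_
      exact sup_le (sup_le le_sup_left (inf_le_right.trans le_sup_right)) le_sup_right
    exact inf_eq_left.mp hM2
  have hTCO : (T : Subgroup G) ⊓ (M ⊓ CY) ≤ pCoreOf p M :=
    le_pCoreOf (inf_le_right.trans inf_le_left) hMTC (T.isPGroup'.to_le inf_le_left)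
  have h5 : IsPClosed p ↥(M ⊓ CY : Subgroup G) := by
    obtain ⟨P, hP⟩ := exists_sylow_inf_of_le_normalizer T (M ⊓ CY) (hTM.trans hMCM)
    apply isPClosed_of_sylow_normal P
    rw [hP]
    exact normal_subgroupOf_of_le_normalizer (inf_le_left.trans hMTC)
  have h6 : ((M ⊓ CY).subgroupOf M).map (QuotientGroup.mk' (pCore p ↥M)) ≤
      frattini (↥M ⧸ pCore p ↥M) := by
    apply le_frattini_of_forall_coatom
    intro Kb hKb
    by_contra hnot
    have hπs : Function.Surjective (QuotientGroup.mk' (pCore p ↥M)) :=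
      QuotientGroup.mk'_surjective _
    haveI hCn : ((M ⊓ CY).subgroupOf M).Normal := normal_subgroupOf_of_le_normalizer hMCM
    haveI hCbn : (((M ⊓ CY).subgroupOf M).map (QuotientGroup.mk' (pCore p ↥M))).Normal :=
      Subgroup.Normal.map hCn _ hπs
    have htop : Kb ⊔ ((M ⊓ CY).subgroupOf M).map (QuotientGroup.mk' (pCore p ↥M)) = ⊤ := by
      by_contra hne
      have hlt : Kb < Kb ⊔ ((M ⊓ CY).subgroupOf M).map (QuotientGroup.mk' (pCore p ↥M)) := by
        apply lt_of_le_of_ne le_sup_left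
        intro h
        apply hnot
        rw [h]; exact le_sup_right
      exact hne (hKb.2 _ hlt)
    obtain ⟨K, hK⟩ : ∃ K : Subgroup G,
        K = (Kb.comap (QuotientGroup.mk' (pCore p ↥M))).map M.subtype := ⟨_, rfl⟩
    have hKM : K ≤ M := by rw [hK]; exact map_subtype_le _
    have hmemK : ∀ m : ↥M, (m : G) ∈ K ↔ QuotientGroup.mk' (pCore p ↥M) m ∈ Kb := by
      intro m
      rw [hK]
      constructor
      · rintro ⟨m', hm', hmm'⟩
        have : m' = m := Subtype.ext hmm'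
        rw [← this]; exact hm'
      · intro h; exact ⟨m, h, rfl⟩
    have hKne : K ≠ M := by
      intro h
      apply hKb.1
      rw [eq_top_iff]
      intro x _
      obtain ⟨m, rfl⟩ := hπs x
      exact (hmemK m).mp (h ▸ m.2)
    have hOK : pCoreOf p M ≤ K := by
      rintro _ ⟨z, hz, rfl⟩
      apply (hmemK z).mpr
      have : QuotientGroup.mk' (pCore p ↥M) z = 1 := by
        rw [QuotientGroup.mk'_apply]; exact (QuotientGroup.eq_one_iff z).mpr hz
      rw [this]; exact one_mem _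
    have hsupK : M ≤ (M ⊓ CY) ⊔ K := by
      intro m hm
      have h1 : QuotientGroup.mk' (pCore p ↥M) ⟨m, hm⟩ ∈
          (((M ⊓ CY).subgroupOf M).map (QuotientGroup.mk' (pCore p ↥M))) ⊔ Kb := by
        rw [sup_comm, htop]; exact mem_top _
      obtain ⟨cb, hcb, kb, hkb, hck⟩ := exists_mul_of_mem_sup_of_le_normalizer
        (A := ((M ⊓ CY).subgroupOf M).map (QuotientGroup.mk' (pCore p ↥M))) (B := Kb)
        (by rw [normalizer_eq_top]; exact le_top) h1
      obtain ⟨c, hc, rfl⟩ := hcb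
      have h2 : ((c⁻¹ * ⟨m, hm⟩ : ↥M) : G) ∈ K := by
        apply (hmemK _).mpr
        rw [map_mul, map_inv, hck, inv_mul_cancel_left]
        exact hkb
      have e : m = (c : G) * ((c⁻¹ * ⟨m, hm⟩ : ↥M) : G) := by simp
      rw [e]
      exact mul_mem (mem_sup_left (mem_subgroupOf.mp hc)) (mem_sup_right h2)
    obtain ⟨m, hm, hTK'⟩ := exists_cj_ge_sylow_of_sup_eq T hTM hKM inf_le_left hMCM hsupK
      (hTCO.trans hOK)
    have hcjM : cj m M = M := cj_eq_self_of_mem hm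
    have hK'M : cj m K ≤ M := by
      have := cj_mono (a := m) hKM
      rwa [hcjM] at this
    have hK'sup : M ≤ (M ⊓ CY) ⊔ cj m K := by
      have h1 := cj_mono (a := m) hsupK
      rw [hcjM, cj_sup, cj_eq_self_iff.mpr (hMCM hm)] at h1
      exact h1
    have hK'eq : cj m K = M := by
      apply hmin' _ hTK' hK'M
      rw [← hMsup]
      refine (sup_le_sup_right hK'sup _).trans ?_
      exact sup_le (sup_le (inf_le_right.trans le_sup_right) le_sup_left) le_sup_right
    apply hKne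
    have h3 : K = cj m⁻¹ M := cj_eq_iff.mp hK'eq
    rw [h3]
    exact cj_eq_self_of_mem (inv_mem hm)
  have hfrak : IsInFrakM p M := by
    refine ⟨hM𝓛, ?_, ?_, ?_, ?_, ?_⟩
    · rw [hdag]; exact ⟨hMt, hMtmax⟩
    · intro X hX hMX
      rw [hdag]
      have h1 : Y ≤ largestPReducedOf p X := by
        have := largestPReducedOf_mono_of_sylow T hMX hTM (charPSub_of_mem hX.1)
        rwa [hYM] at this
      have hmem : X ∈ 𝒵 := by
        rw [hmem𝒵]; exact ⟨hX.1, hTM.trans hMX, hYLY.trans h1, hRel X hMX⟩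
      have h3 : Y = largestPReducedOf p X := Subgroup.eq_of_le_of_card_ge h1 (hX0max' _ hmem)
      have h4 : X ≤ normalizer (largestPReducedOf p X : Set G) := le_normalizer_YM X
      rw [← h3] at h4
      exact (hX.2 _ hMt h4).symm
    · rw [hdag, hYM, hYMt]
    · rw [hYM, ← hCY]; exact h5
    · rw [hYM, ← hCY]; exact h6
  -- `L*`
  have hTL1 : (T : Subgroup G) ≤ L1 := hTL.trans hLL1
  have hTM' : (T : Subgroup G) ≤ M ⊓ L1 := le_inf hTM hTL1
  have hM'char : CharPSub p (M ⊓ L1 : Subgroup G) := charP_of_sylow_le T hTM' inf_le_left hMchar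
  have hfac : (M ⊓ L1) ⊔ centralizer (largestPReducedOf p L : Set G) =
      L ⊔ centralizer (largestPReducedOf p L : Set G) := by
    rw [← hYL, ← hCL, ← hL1]
    apply le_antisymm (sup_le inf_le_right hCL1)
    have := hRel M le_rfl
    rwa [inf_comm] at this
  have hres := Cfsg.Agent.S2824.result T L (M ⊓ L1) hTL hTM' hLchar hM'char _ rfl hfac _ rfl
  have hTLs : (T : Subgroup G) ≤ (M ⊓ L1) ⊓ normalizer (((T : Subgroup G) ⊓
      centralizer (largestPReducedOf p L : Set G) : Subgroup G) : Set G) := by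
    apply le_inf hTM'
    intro t ht
    apply Helper48.mem_normalizer_inf' (le_normalizer ht)
    have := hNCL (hLNY (hTL ht))
    rwa [hCL, hYL] at this
  have hLsM : (M ⊓ L1) ⊓ normalizer (((T : Subgroup G) ⊓
      centralizer (largestPReducedOf p L : Set G) : Subgroup G) : Set G) ≤ M :=
    inf_le_left.trans inf_le_left
  refine ⟨M, _, hTM, hfrak, hTLs, hLsM, mem_charPSubgroups_of_le T hM𝓛 hTLs hLsM, hres.1.symm, ?_,
    hres.2⟩
  rw [hYM, ← hYL]; exact hYLY

end Cfsg.Agent.Helper47
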