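import Mathlib
import Cfsg.Prelude.Def_LocalStructure
import Cfsg.Agent.Lib.Helper47.Conj

set_option autoImplicit false

namespace Cfsg.Agent.Helper47

open Cfsg Subgroup
open scoped commutatorElement Pointwise

variable {H : Type*} [Group H] {p : ℕ}

/-- every `p`-subgroup contains at most one conjugate of `Q` -/
def WCU (p : ℕ) (Q : Subgroup H) : Prop :=
  ∀ R : Subgroup H, IsPGroup p R → ∀ g₁ g₂ : H, cj g₁ Q ≤ R → cj g₂ Q ≤ R → cj g₁ Q = cj g₂ Q

theorem wcu_of_isWeaklyClosedSubgroup [Finite H] [Fact p.Prime] {Q : Subgroup H}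
    (h : IsWeaklyClosedSubgroup p Q) : WCU p Q := by
  obtain ⟨T, hQT, hT⟩ := h
  intro R hR g₁ g₂ h1 h2
  obtain ⟨T₁, hRT₁⟩ := hR.exists_le_sylow
  obtain ⟨k, hk⟩ := MulAction.exists_smul_eq H T T₁
  have hT₁ : (T₁ : Subgroup H) = cj k T := by rw [← hk]; rfl
  have key : ∀ g : H, cj g Q ≤ R → cj g Q = cj k Q := by
    intro g hg
    have h3 : cj g Q ≤ cj k T := hT₁ ▸ hg.trans hRT₁
    have h3' : cj k⁻¹ (cj g Q) ≤ (T : Subgroup H) := by rw [cj_le_iff, inv_inv]; exact h3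
    rw [← cj_mul] at h3'
    have h4 := hT (k⁻¹ * g) h3'
    have h5 : cj (k⁻¹ * g) Q = Q := h4
    rw [cj_mul, cj_eq_iff, inv_inv] at h5
    exact h5
  rw [key g₁ h1, key g₂ h2]

theorem isWeaklyClosedSubgroup_of_wcu [Fact p.Prime] {Q : Subgroup H} (hQ : IsPGroup p Q)
    (h : WCU p Q) : IsWeaklyClosedSubgroup p Q := by
  obtain ⟨T, hQT⟩ := hQ.exists_le_sylow
  refine ⟨T, hQT, fun g hg => ?_⟩
  have := h T T.isPGroup' g 1 hg (by rw [cj_one]; exact hQT)
  rw [cj_one] at this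
  exact this

/-- the mutual-normalizing criterion -/
def WCA (Q : Subgroup H) : Prop :=
  ∀ g : H, ⁅Q, cj g Q⁆ ≤ Q ⊓ cj g Q → cj g Q = Q

/-- the normalizer criterion -/
def WCB (p : ℕ) (Q : Subgroup H) : Prop :=
  ∀ R : Subgroup H, IsPGroup p R → Q ≤ R → normalizer (R : Set H) ≤ normalizer (Q : Set H)

theorem wca_of_wcu {Q : Subgroup H} (hQ : IsPGroup p Q) (h : WCU p Q) : WCA Q := by
  intro g hg
  have h1 : cj g Q ≤ normalizer (Q : Set H) :=
    le_normalizer_iff_commutator_le_left.2 (hg.trans inf_le_left)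
  have h2 : IsPGroup p (cj g Q ⊔ Q : Subgroup H) :=
    IsPGroup.to_sup_of_normal_right' (cj_isPGroup hQ) hQ h1
  have := h _ h2 g 1 le_sup_left (by rw [cj_one]; exact le_sup_right)
  rwa [cj_one] at this

theorem wcb_of_wcu {Q : Subgroup H} (h : WCU p Q) : WCB p Q := by
  intro R hR hQR x hx
  rw [← cj_eq_self_iff]
  have h1 : cj x Q ≤ R := by
    have := cj_mono (a := x) hQR
    rwa [cj_eq_self_iff.2 hx] at this
  have := h R hR x 1 h1 (by rw [cj_one]; exact hQR)
  rwa [cj_one] at this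

theorem commutator_le_inf_of_normalizers {A B : Subgroup H} (h1 : B ≤ normalizer (A : Set H))
    (h2 : A ≤ normalizer (B : Set H)) : ⁅A, B⁆ ≤ A ⊓ B :=
  le_inf (le_normalizer_iff_commutator_le_left.1 h1) (le_normalizer_iff_commutator_le_right.1 h2)

/-- under (A), every `p`-subgroup containing `Q` normalizes `Q` -/
theorem le_normalizer_of_wca [Finite H] [Fact p.Prime] {Q : Subgroup H} (h : WCA Q)
    (R : Subgroup H) (hR : IsPGroup p R) (hQR : Q ≤ R) : R ≤ normalizer (Q : Set H) := by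
  by_contra hcon
  set K : Subgroup R := (normalizer (Q : Set H)).subgroupOf R with hK
  have hKtop : K < ⊤ := by
    rw [lt_top_iff_ne_top]
    intro h1
    apply hcon
    rw [hK, subgroupOf_eq_top] at h1
    exact h1
  haveI : Group.IsNilpotent R := hR.isNilpotent
  have hnc := (Group.normalizerCondition_of_isNilpotent (G := R)) K hKtop
  obtain ⟨x, hxN, hxK⟩ := SetLike.exists_of_lt hnc
  apply hxK
  rw [hK, mem_subgroupOf, ← cj_eq_self_iff]
  apply h
  -- Q^x ≤ N(Q)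
  have hx1 : ∀ k : R, k ∈ K ↔ x * k * x⁻¹ ∈ K := fun k => (mem_normalizer_iff.mp hxN k)
  have hx2 : ∀ k : R, k ∈ K ↔ x⁻¹ * k * x⁻¹⁻¹ ∈ K := fun k => (mem_normalizer_iff.mp (inv_mem hxN) k)
  have hQxN : cj (x : H) Q ≤ normalizer (Q : Set H) := by
    rintro _ ⟨q, hq, rfl⟩
    have hqK : (⟨q, hQR hq⟩ : R) ∈ K := by rw [hK, mem_subgroupOf]; exact le_normalizer hq
    have := (hx1 _).mp hqK
    rw [hK, mem_subgroupOf] at this
    simpa using this
  have hQNx : Q ≤ normalizer ((cj (x : H) Q : Subgroup H) : Set H) := by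
    rw [normalizer_cj]
    intro q hq
    have hqK : (⟨q, hQR hq⟩ : R) ∈ K := by rw [hK, mem_subgroupOf]; exact le_normalizer hq
    have := (hx2 _).mp hqK
    rw [hK, mem_subgroupOf] at this
    rw [mem_cj]
    simpa using this
  exact commutator_le_inf_of_normalizers hQxN hQNx

theorem wcb_of_wca [Finite H] [Fact p.Prime] {Q : Subgroup H} (h : WCA Q) : WCB p Q := by
  intro R hR hQR x hx
  rw [← cj_eq_self_iff]
  apply h
  have h1 := le_normalizer_of_wca h R hR hQR
  have hxR : cj x R = R := cj_eq_self_iff.2 hx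
  have h2 : cj x Q ≤ R := hxR ▸ cj_mono hQR
  have h3 : R ≤ normalizer ((cj x Q : Subgroup H) : Set H) := by
    rw [normalizer_cj, ← hxR]
    exact cj_mono h1
  exact commutator_le_inf_of_normalizers (h2.trans h1) (hQR.trans h3)

theorem isWeaklyClosedSubgroup_of_wcb [Finite H] [Fact p.Prime] {Q : Subgroup H} (hQ : IsPGroup p Q)
    (h : WCB p Q) : IsWeaklyClosedSubgroup p Q := by
  obtain ⟨T, hQT⟩ := hQ.exists_le_sylow
  refine ⟨T, hQT, fun g hg => ?_⟩
  have hTN : (T : Subgroup H) ≤ normalizer (Q : Set H) := le_normalizer.trans (h T T.isPGroup' hQT)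
  have hg' : cj g Q ≤ (T : Subgroup H) := hg
  have hQT2 : Q ≤ cj g⁻¹ (T : Subgroup H) := cj_le_iff.1 hg'
  have hT2N : cj g⁻¹ (T : Subgroup H) ≤ normalizer (Q : Set H) :=
    le_normalizer.trans (h _ (cj_isPGroup T.isPGroup') hQT2)
  -- Sylow conjugacy in N(Q)
  have hT2N' : ((g⁻¹ • T : Sylow p H) : Subgroup H) ≤ normalizer (Q : Set H) := hT2N
  obtain ⟨n, hn⟩ := MulAction.exists_smul_eq (normalizer (Q : Set H)) (T.subtype hTN)
    ((g⁻¹ • T : Sylow p H).subtype hT2N')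
  rw [Sylow.smul_subtype] at hn
  have hn2 : (n : H) • T = g⁻¹ • T := Sylow.subtype_injective hn
  have hn3 : (g * (n : H)) • T = T := by
    rw [mul_smul, hn2, smul_inv_smul]
  have hn4 : g * (n : H) ∈ normalizer ((T : Subgroup H) : Set H) := Sylow.smul_eq_iff_mem_normalizer.1 hn3
  have hn5 : g * (n : H) ∈ normalizer (Q : Set H) := h T T.isPGroup' hQT hn4
  have hg2 : g ∈ normalizer (Q : Set H) := by
    have := mul_mem hn5 (inv_mem n.2)
    simpa using this
  exact cj_eq_self_iff.2 hg2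

end Cfsg.Agent.Helper47
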