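import Mathlib
import Cfsg.Prelude.Def_LocalStructure
import Cfsg.Agent.Lib.Helper47.Conj
import Cfsg.Agent.Lib.Helper47.WC
import Cfsg.Agent.Lib.Helper47.PRes
import Cfsg.Agent.Lib.Helper47.PIrr

set_option autoImplicit false

namespace Cfsg.Agent.Helper47

open Cfsg Subgroup
open scoped commutatorElement Pointwise

variable {H : Type*} [Group H] {p : ℕ}

theorem map_subtype_cj (K : Subgroup H) (k : K) (A : Subgroup K) :
    (cj k A).map K.subtype = cj (k : H) (A.map K.subtype) := by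
  unfold cj
  rw [map_map, map_map]
  congr 1

/-- every `p`-subgroup of `K` lies in a conjugate (by an element of `K`) of a given Sylow of `K` -/
theorem exists_le_cj_sylow_of_le [Finite H] [Fact p.Prime] (K : Subgroup H) (T : Sylow p K)
    {R : Subgroup H} (hR : IsPGroup p R) (hRK : R ≤ K) :
    ∃ k ∈ K, R ≤ cj k ((T : Subgroup K).map K.subtype) := by
  obtain ⟨T₂, hT₂⟩ := (hR.comap_subtype (K := K)).exists_le_sylow
  obtain ⟨k, hk⟩ := MulAction.exists_smul_eq K T T₂
  refine ⟨k, k.2, ?_⟩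
  rw [← map_subtype_cj]
  intro r hr
  refine ⟨⟨r, hRK hr⟩, ?_, rfl⟩
  have : (⟨r, hRK hr⟩ : K) ∈ (T₂ : Subgroup K) := hT₂ (show (⟨r, hRK hr⟩ : K) ∈ comap K.subtype R from hr)
  rw [← hk] at this
  exact this

/-- conjugates of a weakly closed `Q` inside `K ≥ Q` are `K`-conjugate -/
theorem exists_cj_eq_of_wcu [Finite H] [Fact p.Prime] {Q : Subgroup H} (hQp : IsPGroup p Q)
    (h : WCU p Q) (K : Subgroup H) (hQK : Q ≤ K) (g : H) (hg : cj g Q ≤ K) :
    ∃ k ∈ K, cj g Q = cj k Q := by
  obtain ⟨T, hT⟩ := (hQp.comap_subtype (K := K)).exists_le_sylow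
  have hQT : Q ≤ (T : Subgroup K).map K.subtype := by
    intro q hq
    exact ⟨⟨q, hQK hq⟩, hT (show (⟨q, hQK hq⟩ : K) ∈ comap K.subtype Q from hq), rfl⟩
  obtain ⟨k, hk, hle⟩ := exists_le_cj_sylow_of_le K T (cj_isPGroup (a := g) hQp) hg
  refine ⟨k, hk, ?_⟩
  exact h _ (cj_isPGroup (T.isPGroup'.map _)) g k hle (cj_mono hQT)

theorem closure_normal_of_conj_invariant {S : Set H} (hS : ∀ g : H, ∀ s ∈ S, g * s * g⁻¹ ∈ S) :
    (closure S).Normal := by
  constructor
  intro n hn g
  induction hn using closure_induction with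
  | mem c hc => exact Subgroup.subset_closure (hS g c hc)
  | one => simp
  | mul a b _ _ iha ihb =>
    have : g * (a * b) * g⁻¹ = (g * a * g⁻¹) * (g * b * g⁻¹) := by group
    rw [this]; exact mul_mem iha ihb
  | inv a _ iha =>
    have : g * a⁻¹ * g⁻¹ = (g * a * g⁻¹)⁻¹ := by group
    rw [this]; exact inv_mem iha

theorem map_pResidual_normal_of_normal (N : Subgroup H) [hN : N.Normal] :
    ((pResidual p N).map N.subtype).Normal := by
  rw [map_pResidual_eq_closure]
  apply closure_normal_of_conj_invariant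
  rintro g s ⟨hsN, hs⟩
  refine ⟨hN.conj_mem s hsN g, ?_⟩
  have : g * s * g⁻¹ = MulAut.conj g s := by simp
  rw [this, MulEquiv.orderOf_eq]
  exact hs

/-- `O^p(N ⊔ Q) = O^p(N)` for `N` normal and `Q` a `p`-group -/
theorem map_pResidual_sup_eq [Finite H] [Fact p.Prime] (N Q : Subgroup H) [hN : N.Normal]
    (hQ : IsPGroup p Q) :
    (pResidual p ↥(N ⊔ Q)).map (N ⊔ Q).subtype = (pResidual p N).map N.subtype := by
  apply le_antisymm
  · rw [map_pResidual_eq_closure, map_pResidual_eq_closure]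
    apply Subgroup.closure_mono
    rintro g ⟨hg, hcop⟩
    refine ⟨?_, hcop⟩
    have hQN : Q ≤ normalizer (N : Set H) := by rw [normalizer_eq_top]; exact le_top
    exact mem_of_mem_sup_of_coprime hQN hQ hg hcop
  · exact map_pResidual_mono le_sup_left

/-- `N = N_N(Q) O^p(N)` for a weakly closed `Q` and normal `N` -/
theorem inf_normalizer_sup_pResidual_eq [Finite H] [Fact p.Prime] {Q : Subgroup H}
    (hQp : IsPGroup p Q) (hA : WCA Q) (N : Subgroup H) [hN : N.Normal] :
    (N ⊓ normalizer (Q : Set H)) ⊔ (pResidual p N).map N.subtype = N := by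
  apply le_antisymm
  · exact sup_le inf_le_left (map_pResidual_le N)
  · intro n hn
    -- Sylow of X = N ⊔ Q containing Q
    obtain ⟨T, hT⟩ := (hQp.comap_subtype (K := N ⊔ Q)).exists_le_sylow
    have h1 := sylow_sup_pResidual_eq_top T
    have h2 := congrArg (map (N ⊔ Q).subtype) h1
    rw [Subgroup.map_sup, map_pResidual_sup_eq N Q hQp, ← MonoidHom.range_eq_map, range_subtype] at h2
    have hnX : n ∈ (T : Subgroup ↥(N ⊔ Q)).map (N ⊔ Q).subtype ⊔ (pResidual p N).map N.subtype := by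
      rw [h2]; exact le_sup_left (a := N) hn
    haveI := map_pResidual_normal_of_normal (p := p) N
    obtain ⟨t, ht, r, hr, rfl⟩ := mem_sup_of_normal_right.mp hnX
    have hQT' : Q ≤ (T : Subgroup ↥(N ⊔ Q)).map (N ⊔ Q).subtype := by
      intro q hq
      exact ⟨⟨q, le_sup_right (a := N) hq⟩,
        hT (show (⟨q, le_sup_right (a := N) hq⟩ : ↥(N ⊔ Q)) ∈ comap (N ⊔ Q).subtype Q from hq), rfl⟩
    have htN : t ∈ normalizer (Q : Set H) :=
      le_normalizer_of_wca hA _ (T.isPGroup'.map _) hQT' ht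
    have hrN : r ∈ N := map_pResidual_le N hr
    have htN' : t ∈ N := by
      have : t = (t * r) * r⁻¹ := by group
      rw [this]; exact N.mul_mem hn (N.inv_mem hrN)
    exact mul_mem (mem_sup_left ⟨htN', htN⟩) (mem_sup_right hr)

end Cfsg.Agent.Helper47
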