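import Mathlib
import Cfsg.Agent.Lib.Helper47.BasicProp2
import Cfsg.Agent.Lib.Helper47.WC2
import Cfsg.Agent.Lib.Helper23.Large

set_option autoImplicit false
set_option linter.unusedSectionVars false
set_option linter.style.haveILetI false

/-!
# Large subgroups: weak closures along `L C_H(Y_L) = L* C_H(Y_L)`
-/

namespace Cfsg.Agent.Helper47

open Cfsg Subgroup

variable {G : Type*} [Group G] [Finite G] {p : ℕ} [Fact p.Prime]

/-- a large `p`-subgroup is weakly closed: every `p`-subgroup contains at most one conjugate -/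
theorem wcu_of_isLarge {Q : Subgroup G} (hQp : IsPGroup p Q) (hQ1 : Q ≠ ⊥) (hL : IsLarge Q) :
    WCU p Q := by
  intro R hR g₁ g₂ h1 h2
  have hL1 : IsLarge (cj g₁ Q) := Helper23.isLarge_cj hL g₁
  have hp1 : IsPGroup p (cj g₁ Q) := cj_isPGroup hQp
  have hne1 : cj g₁ Q ≠ ⊥ := Helper23.cj_ne_bot hQ1 g₁
  have h3 : cj (g₂ * g₁⁻¹) (cj g₁ Q) = cj g₂ Q := by
    rw [← cj_mul]; congr 1; group
  have h4 : cj (g₂ * g₁⁻¹) (cj g₁ Q) = cj g₁ Q :=
    Helper23.cj_eq_of_le_pgroup hp1 hne1 hL1 hR h1 (g₂ * g₁⁻¹)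
      (show cj (g₂ * g₁⁻¹) (cj g₁ Q) ≤ R by rw [h3]; exact h2)
  rw [← h3, h4]

/-- `Q!`: the centralizer of a nontrivial `p`-subgroup normalized by `Q` normalizes `Q` -/
theorem centralizer_le_normalizer_of_isLarge {Q Y : Subgroup G} (hQp : IsPGroup p Q)
    (hL : IsLarge Q) (hY : IsPGroup p Y) (hY1 : Y ≠ ⊥) (hQY : Q ≤ normalizer (Y : Set G)) :
    centralizer (Y : Set G) ≤ normalizer (Q : Set G) := by
  have hU1 : Y ⊓ centralizer (Q : Set G) ≠ ⊥ :=
    Helper23.inf_centralizer_ne_bot_of_le_normalizer hQp hY hY1 hQY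
  have h1 := hL.2 (Y ⊓ centralizer (Q : Set G)) inf_le_right hU1
  refine le_trans ?_ h1
  refine (centralizer_le ?_).trans (centralizer_le_normalizer _)
  exact_mod_cast (inf_le_left : Y ⊓ centralizer (Q : Set G) ≤ Y)

theorem weakClosure_mono' {Q K₁ K₂ : Subgroup G} (h : K₁ ≤ K₂) :
    weakClosure Q K₁ ≤ weakClosure Q K₂ := by
  unfold weakClosure
  apply iSup_le
  rintro ⟨g, hg⟩
  exact le_iSup (fun g : {g : G // Q.map (MulAut.conj g).toMonoidHom ≤ K₂} =>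
    Q.map (MulAut.conj (g : G)).toMonoidHom) ⟨g, hg.trans h⟩

/-- weak closures and products with a subgroup normalizing `Q` -/
theorem weakClosure_le_of_le_sup {Q K₁ K₂ C : Subgroup G} (hQp : IsPGroup p Q) (hU : WCU p Q)
    (hQ1 : Q ≤ K₁) (hQ2 : Q ≤ K₂) (hC : C ≤ normalizer (Q : Set G))
    (hK₂C : K₂ ≤ normalizer (C : Set G)) (h : K₁ ≤ K₂ ⊔ C) :
    weakClosure Q K₁ ≤ weakClosure Q K₂ := by
  unfold weakClosure
  apply iSup_le
  rintro ⟨g, hg⟩
  obtain ⟨k, hk, hgk⟩ := exists_cj_eq_of_wcu hQp hU K₁ hQ1 g hg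
  obtain ⟨a, ha, c, hc, rfl⟩ := Helper23.mem_sup_of_le_normalizer hK₂C (h hk)
  have h1 : cj (a * c) Q = cj a Q := by
    rw [cj_mul, cj_eq_self_iff.mpr (hC hc)]
  have h2 : cj a Q ≤ K₂ := by
    have := cj_mono (a := a) hQ2
    rwa [cj_eq_self_of_mem ha] at this
  show cj g Q ≤ _
  rw [hgk, h1]
  exact le_iSup (fun g : {g : G // Q.map (MulAut.conj g).toMonoidHom ≤ K₂} =>
    Q.map (MulAut.conj (g : G)).toMonoidHom) ⟨a, h2⟩

end Cfsg.Agent.Helper47
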