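import Mathlib
import Cfsg.Agent.Lib.Helper32.C3Defs
import Cfsg.Agent.Lib.Helper47.C3D1
import Cfsg.Agent.Lib.Helper47.C3D2

/-!
# C3 server (helper32, S4415): piece (F) `comm_of_triv_on_comS`
-/

set_option autoImplicit false

namespace Cfsg.Agent.Helper47.C3

open Cfsg.Agent.Helper32.C3

universe u v

/-- **F.** (Lemma 2) If `b` normalises the finite `3'`-group `X` and is trivial on `[V,X]`, then `b`
centralises `X` (`ρ` faithful).  For `x ∈ X`, `c = x⁻¹ b⁻¹ x b ∈ X` fixes `fixS ρ X`; on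
`M = comS ρ X` (which is `X`-invariant, D2) `c v = x⁻¹ b⁻¹ (x v) = x⁻¹ x v = v`; and
`V = fixS ⊔ comS` (D1), so `ρ c = 1`. -/
theorem comm_of_triv_on_comS {G : Type u} [Group G] {V : Type v} [AddCommGroup V]
    [Module (ZMod 3) V] (ρ : Representation (ZMod 3) G V) (hf : Function.Injective ρ)
    (X : Subgroup G) [Finite X] (hX : (Nat.card X).Coprime 3) (b : G)
    (hbX : b ∈ Subgroup.normalizer (X : Set G)) (ht : ∀ v ∈ comS ρ X, ρ b v = v) :
    ∀ x ∈ X, b * x = x * b := by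
  intro x hx
  have hbx : b⁻¹ * x * b ∈ X := by
    rw [Subgroup.mem_normalizer_iff.mp hbX]
    simpa [mul_assoc] using hx
  have hcX : x⁻¹ * b⁻¹ * x * b ∈ X := by
    have : x⁻¹ * b⁻¹ * x * b = x⁻¹ * (b⁻¹ * x * b) := by group
    rw [this]
    exact X.mul_mem (X.inv_mem hx) hbx
  have happ : ∀ v : V, ρ (x⁻¹ * b⁻¹ * x * b) v = ρ x⁻¹ (ρ b⁻¹ (ρ x (ρ b v))) := by
    intro v
    rw [map_mul, map_mul, map_mul]
    rfl
  have hinvb : ∀ w ∈ comS ρ X, ρ b⁻¹ w = w := by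
    intro w hw
    have h1 := ht w hw
    have h2 : ρ b⁻¹ (ρ b w) = w := by
      rw [← Module.End.mul_apply, ← map_mul, inv_mul_cancel, map_one]
      rfl
    rw [h1] at h2
    exact h2
  have hone : ρ (x⁻¹ * b⁻¹ * x * b) = 1 := by
    apply LinearMap.ext
    intro v
    have hv : v ∈ fixS ρ X ⊔ comS ρ X := by
      rw [(fix_com_decomp ρ X hX).2]
      exact Submodule.mem_top
    obtain ⟨c, hc, m, hm, rfl⟩ := Submodule.mem_sup.mp hv
    rw [map_add, hc _ hcX, happ, ht m hm]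
    have hxm : ρ x m ∈ comS ρ X :=
      (inv_fix_com ρ X x (Subgroup.le_normalizer hx)).2 m hm
    rw [hinvb _ hxm]
    have h2 : ρ x⁻¹ (ρ x m) = m := by
      rw [← Module.End.mul_apply, ← map_mul, inv_mul_cancel, map_one]
      rfl
    rw [h2]
    rfl
  have hc1 : x⁻¹ * b⁻¹ * x * b = 1 := hf (hone.trans (map_one ρ).symm)
  calc b * x = b * x * (x⁻¹ * b⁻¹ * x * b) := by rw [hc1, mul_one]
    _ = x * b := by group

end Cfsg.Agent.Helper47.C3
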