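import Mathlib
import Cfsg.Prelude.Def_Transfer
import Cfsg.Agent.Lib.Helper24.CYCDefs

/-!
# CYC lemma server (helper24, S4016), piece (C2) `max_of_nc` (helper47)

`N_G(P)` is maximal.  `H ≥ N_G(P)` proper is `p`-nilpotent or `p`-closed (`hM.sub`).  `PNilp`: `x ∈ T`, and for `a ∈ P`,
`a x a⁻¹ x⁻¹ ∈ T ∩ P = 1`, so `x ∈ C_G(P)`: no.  `PClosed`: `Q ⊇ P`, `Q = P` (Sylow), `H ≤ N_G(Q) = N_G(P)`.
-/

set_option autoImplicit false

namespace Cfsg.Agent.Helper47.CYC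

open Subgroup Cfsg.Agent.Helper24.CYC

universe u

variable {G : Type u} [Group G] [Finite G] {p : ℕ} [Fact p.Prime]

/-- (C2) `N_G(P)` is maximal. -/
theorem max_of_nc (hM : Min p G) (P : Sylow p G) (x : G) (hx : x ∈ NP P) (hxp : (orderOf x).Coprime p) (hxc : x ∉ CP P)
    (H : Subgroup G) (hNH : NP P ≤ H) (hH : H ≠ ⊤) : H = NP P := by
  have hp : p.Prime := Fact.out
  have hPN : (P : Subgroup G) ≤ NP P := Subgroup.le_normalizer
  have hPord : ∀ a ∈ (P : Subgroup G), ∃ n : ℕ, orderOf a = p ^ n := by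
    intro a ha
    obtain ⟨k, hk⟩ := (IsPGroup.iff_orderOf.mp P.isPGroup') ⟨a, ha⟩
    exact ⟨k, by rw [← hk, Subgroup.orderOf_mk]⟩
  rcases hM.sub H hH with ⟨T, hTH, hHT, hpT, hT⟩ | ⟨Q, hQH, hHQ, hQp, hQ⟩
  · exfalso
    apply hxc
    have hxT : x ∈ T := hT x (hNH hx) hxp
    rw [Subgroup.mem_centralizer_iff]
    intro a ha
    have haP : a ∈ (P : Subgroup G) := ha
    have haN : a ∈ nrm T := hHT (hNH (hPN haP))
    have h1 : a * x * a⁻¹ ∈ T := (Subgroup.mem_normalizer_iff.mp haN x).mp hxT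
    have hcT : a * x * a⁻¹ * x⁻¹ ∈ T := T.mul_mem h1 (T.inv_mem hxT)
    have h2 : x * a⁻¹ * x⁻¹ ∈ (P : Subgroup G) :=
      (Subgroup.mem_normalizer_iff.mp hx a⁻¹).mp ((P : Subgroup G).inv_mem haP)
    have hcP : a * x * a⁻¹ * x⁻¹ ∈ (P : Subgroup G) := by
      have : a * x * a⁻¹ * x⁻¹ = a * (x * a⁻¹ * x⁻¹) := by group
      rw [this]
      exact (P : Subgroup G).mul_mem haP h2
    have hc1 : a * x * a⁻¹ * x⁻¹ = 1 := by
      obtain ⟨n, hn⟩ := hPord _ hcP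
      have hdvd : orderOf (a * x * a⁻¹ * x⁻¹) ∣ Nat.card T := Subgroup.orderOf_dvd_natCard T hcT
      rcases Nat.eq_zero_or_pos n with h0 | h0
      · rw [h0, pow_zero] at hn
        exact orderOf_eq_one_iff.mp hn
      · exfalso
        apply hpT
        refine dvd_trans ?_ hdvd
        rw [hn]
        exact dvd_pow_self p (Nat.pos_iff_ne_zero.mp h0)
    calc a * x = (a * x * a⁻¹ * x⁻¹) * x * a := by group
      _ = x * a := by rw [hc1, one_mul]
  · have hPQ : (P : Subgroup G) ≤ Q := fun a ha => hQ a (hNH (hPN ha)) (hPord a ha)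
    have hQP : Q = (P : Subgroup G) := P.is_maximal' hQp hPQ
    apply le_antisymm _ hNH
    rw [hQP] at hHQ
    exact hHQ

end Cfsg.Agent.Helper47.CYC
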