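import Mathlib
import Cfsg.Prelude.Def_LocalStructure

set_option autoImplicit false

namespace Cfsg.Agent.Helper47

open Cfsg Subgroup
open scoped commutatorElement

variable {G : Type*} [Group G]

/-- If `c = [r, x]` commutes with `x` then `r x^m r⁻¹ = c^m x^m`. -/
theorem conj_pow_eq_of_commute {r x : G} (h : Commute ⁅r, x⁆ x) (m : ℕ) :
    r * x ^ m * r⁻¹ = ⁅r, x⁆ ^ m * x ^ m := by
  have h1 : r * x * r⁻¹ = ⁅r, x⁆ * x := by simp [commutatorElement_def]
  have h2 : r * x ^ m * r⁻¹ = (r * x * r⁻¹) ^ m := by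
    simp [conj_pow]
  rw [h2, h1, h.mul_pow]

theorem commutator_pow_eq_one_of_commute {r x : G} (h : Commute ⁅r, x⁆ x) {m : ℕ} (hx : x ^ m = 1) :
    ⁅r, x⁆ ^ m = 1 := by
  have := conj_pow_eq_of_commute h m
  rw [hx] at this
  simpa using this.symm

/-- Core coprime lemma: if `[r,x]` commutes with `x`, `x^m = 1`, `[r,x]^(p^k) = 1` and `m` is prime to `p`
then `[r,x] = 1`. -/
theorem commutator_eq_one_of_coprime {p : ℕ} {r x : G} (h : Commute ⁅r, x⁆ x) {m k : ℕ} (hx : x ^ m = 1)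
    (hc : ⁅r, x⁆ ^ (p ^ k) = 1) (hm : Nat.Coprime m p) : ⁅r, x⁆ = 1 := by
  have h1 := commutator_pow_eq_one_of_commute h hx
  have h2 : orderOf ⁅r, x⁆ ∣ Nat.gcd m (p ^ k) :=
    Nat.dvd_gcd (orderOf_dvd_of_pow_eq_one h1) (orderOf_dvd_of_pow_eq_one hc)
  have h3 : Nat.gcd m (p ^ k) = 1 := Nat.Coprime.pow_right k hm
  rw [h3, Nat.dvd_one, orderOf_eq_one_iff] at h2
  exact h2

/-- a subgroup of a finite group with no nontrivial elements of order prime to `p` is a `p`-group -/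
theorem isPGroup_of_forall_coprime_eq_one [Finite G] {p : ℕ} [hp : Fact p.Prime] (L : Subgroup G)
    (h : ∀ y ∈ L, ∀ m : ℕ, Nat.Coprime m p → y ^ m = 1 → y = 1) : IsPGroup p L := by
  intro g
  have hn : orderOf (g : G) ≠ 0 := (orderOf_pos (g : G)).ne'
  obtain ⟨e, m, hm, hnm⟩ := Nat.exists_eq_pow_mul_and_not_dvd hn p hp.out.ne_one
  refine ⟨e, ?_⟩
  have hcop : Nat.Coprime m p := (Nat.Coprime.symm ((Nat.Prime.coprime_iff_not_dvd hp.out).2 hm))
  have h1 : ((g : G) ^ (p ^ e)) ^ m = 1 := by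
    rw [← pow_mul, ← hnm, pow_orderOf_eq_one]
  have h2 := h ((g : G) ^ (p ^ e)) (L.pow_mem g.2 _) m hcop h1
  exact Subtype.ext (by simpa using h2)

end Cfsg.Agent.Helper47
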