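import Mathlib
import Cfsg.Agent.Lib.Helper54.CharPLocal
import Cfsg.Agent.Lib.Helper22.CharP
import Cfsg.Agent.Lib.Helper19.PRank
import Cfsg.Agent.Lib.Helper46.PCore

set_option autoImplicit false

/-!
# Normalizers of `p`-subgroups along a subnormal chain stay of characteristic `p`
-/

namespace Cfsg.Agent.Helper47

open Cfsg Subgroup

variable {G : Type*} [Group G] [Finite G] {p : ℕ} [Fact p.Prime]

/-- if `V ≤ U ≤ N_G(V)` and `N_G(V)` has characteristic `p`, so has `N_G(U)` -/
theorem isCharP_normalizer_of_le_normalizer {U V : Subgroup G} (hU : IsPGroup p U) (hVU : V ≤ U)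
    (hUV : U ≤ normalizer (V : Set G))
    (hV : Helper54.IsCharP p ↥(normalizer (V : Set G))) :
    Helper54.IsCharP p ↥(normalizer (U : Set G)) := by
  apply Helper54.isCharP_normalizer_of_le U hU (normalizer (V : Set G)) hV hUV
  intro n hn
  apply centralizer_le_normalizer
  rw [mem_centralizer_iff]
  intro v hv
  have hvN : v ∈ normalizer (U : Set G) := le_normalizer (hVU hv)
  have hnorm : (U.subgroupOf (normalizer (U : Set G))).Normal :=
    normal_subgroupOf_of_le_normalizer le_rfl
  have hp' : IsPGroup p (U.subgroupOf (normalizer (U : Set G))) := hU.comap_subtype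
  have hmem : (⟨v, hvN⟩ : ↥(normalizer (U : Set G))) ∈ pCore p ↥(normalizer (U : Set G)) :=
    Helper46.le_pCore hnorm hp' (show (⟨v, hvN⟩ : ↥(normalizer (U : Set G))) ∈
      U.subgroupOf (normalizer (U : Set G)) from hVU hv)
  have := mem_centralizer_iff.mp hn _ hmem
  exact congrArg Subtype.val this

/-- if `V ≤ U` are `p`-subgroups and `N_G(V)` has characteristic `p`, so has `N_G(U)` -/
theorem isCharP_normalizer_of_le {U : Subgroup G} (hU : IsPGroup p U) :
    ∀ (n : ℕ) (V : Subgroup G), Nat.card U - Nat.card V = n → V ≤ U →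
      Helper54.IsCharP p ↥(normalizer (V : Set G)) →
      Helper54.IsCharP p ↥(normalizer (U : Set G)) := by
  intro n
  induction n using Nat.strong_induction_on with
  | _ n ih =>
    intro V hn hVU hV
    by_cases hVeq : V = U
    · rw [← hVeq]; exact hV
    · have hlt : V < U := lt_of_le_of_ne hVU hVeq
      have h1 := Helper19.lt_inf_normalizer_of_lt hU hlt
      have h2 : Helper54.IsCharP p ↥(normalizer ((U ⊓ normalizer (V : Set G) : Subgroup G) : Set G)) :=
        isCharP_normalizer_of_le_normalizer (hU.to_le inf_le_left) h1.le inf_le_right hV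
      have hc1 : Nat.card V < Nat.card (U ⊓ normalizer (V : Set G) : Subgroup G) := by
        by_contra hnot
        exact h1.ne (Subgroup.eq_of_le_of_card_ge h1.le (not_lt.mp hnot))
      have hc2 : Nat.card (U ⊓ normalizer (V : Set G) : Subgroup G) ≤ Nat.card U :=
        Nat.le_of_dvd Nat.card_pos (card_dvd_of_le inf_le_left)
      exact ih _ (by omega) _ rfl inf_le_left h2

end Cfsg.Agent.Helper47
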