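import Mathlib
import Cfsg.Agent.Lib.Helper52.FCDefs

/-!
# FC server (helper52, S3816): piece (TR) `transfer`
-/

set_option autoImplicit false

namespace Cfsg.Agent.Helper47.FC

open Subgroup Cfsg.Agent.Helper52.FC
open scoped commutatorElement

universe u

variable {G : Type u} [Group G]

/-- (TR) [M-L] `G := H ⋊[(zpowers x).subtype] zpowers x`, `a := inr ⟨x,_⟩`, `H₀ := (inl).range`; `inr g * inl h * (inr g)⁻¹ = inl (g h)`.
`hmain` is the ambient theorem.  Only `≤` is needed (`≥` is trivial: each `[h,P] ≤ [H,P]`), but prove the equality. -/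
theorem transfer {H : Type u} [Group H] [Finite H] [Group.IsSolvable H] {p : ℕ} [Fact p.Prime] (hp : p ≠ 2)
    (hcop : (Nat.card H).Coprime p) (x : MulAut H) (hx : orderOf x = p)
    (hmain : ∀ (G : Type u) [Group G] [Finite G] (a : G) (H₀ : Subgroup G), Hyp p a H₀ → Thm a H₀) :
    Subgroup.closure {c : H | ∃ h : H, ∃ i : ℕ, c = h⁻¹ * (x ^ i) h} ⊓ (x : H →* H).eqLocus (MonoidHom.id H) =
      ⨆ h : H, Subgroup.closure {c : H | ∃ i : ℕ, c = h⁻¹ * (x ^ i) h} ⊓ (x : H →* H).eqLocus (MonoidHom.id H) := by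
  apply le_antisymm
  · -- the real content
    let φ : ↥(zpowers x) →* MulAut H := (zpowers x).subtype
    let a : H ⋊[φ] ↥(zpowers x) := SemidirectProduct.inr ⟨x, mem_zpowers x⟩
    let il : H →* H ⋊[φ] ↥(zpowers x) := SemidirectProduct.inl
    have hil : Function.Injective il := SemidirectProduct.inl_injective
    have : Finite (H ⋊[φ] ↥(zpowers x)) := Finite.of_equiv _ SemidirectProduct.equivProd.symm
    -- (F1)
    have hF1 : ∀ (i : ℕ) (h : H), a ^ i * il h * (a ^ i)⁻¹ = il ((x ^ i) h) := by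
      intro i h
      have h1 : a ^ i = SemidirectProduct.inr ((⟨x, mem_zpowers x⟩ : ↥(zpowers x)) ^ i) := by
        rw [map_pow]
      rw [h1, ← map_inv, ← SemidirectProduct.inl_aut]
      rfl
    -- (F2)
    have hF2 : ∀ c : H, il c ∈ Fix a ↔ x c = c := by
      intro c
      unfold Cfsg.Agent.Helper52.FC.Fix
      rw [mem_centralizer_singleton_iff]
      have h1 := hF1 1 c
      rw [pow_one, pow_one] at h1
      constructor
      · intro h
        have h2 : il (x c) = il c := by
          rw [← h1, ← h]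
          group
        exact hil h2
      · intro h
        rw [h] at h1
        calc il c * a = (a * il c * a⁻¹) * a := by rw [h1]
          _ = a * il c := by group
    -- hypotheses
    have hyp : Hyp p a il.range := by
      refine ⟨?_, ?_, ?_, ?_⟩
      · have h1 : a ^ p = SemidirectProduct.inr ((⟨x, mem_zpowers x⟩ : ↥(zpowers x)) ^ p) := by
          rw [map_pow]
        rw [h1]
        have h2 : (⟨x, mem_zpowers x⟩ : ↥(zpowers x)) ^ p = 1 := by
          apply Subtype.ext
          show x ^ p = 1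
          rw [← hx]
          exact pow_orderOf_eq_one x
        rw [h2, map_one]
      · rintro _ ⟨h, rfl⟩
        have h1 := hF1 1 h
        rw [pow_one, pow_one] at h1
        rw [h1]
        exact ⟨_, rfl⟩
      · exact Group.isSolvable_of_surjective il.rangeRestrict_surjective
      · rw [← Nat.card_congr (MonoidHom.ofInjective hil).toEquiv]
        exact hcop
    have hthm := hmain _ a il.range hyp
    intro c hc
    obtain ⟨hc1, hc2⟩ := Subgroup.mem_inf.mp hc
    have hc2' : x c = c := hc2
    -- `il c ∈ comm a range ⊓ Fix a`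
    have h1 : il c ∈ comm a il.range := by
      have hle : (Subgroup.closure {c : H | ∃ h : H, ∃ i : ℕ, c = h⁻¹ * (x ^ i) h}).map il ≤
          comm a il.range := by
        rw [MonoidHom.map_closure]
        unfold Cfsg.Agent.Helper52.FC.comm
        apply Subgroup.closure_mono
        rintro _ ⟨c', ⟨h, i, rfl⟩, rfl⟩
        refine ⟨il h, ⟨h, rfl⟩, i, ?_⟩
        rw [hF1, map_mul, map_inv]
      exact hle (Subgroup.mem_map_of_mem il hc1)
    have h2 : il c ∈ Fix a := (hF2 c).mpr hc2'
    have h3 : il c ∈ star a il.range := hthm (Subgroup.mem_inf.mpr ⟨h1, h2⟩)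
    -- pull back
    have hstar : star a il.range ≤
        (⨆ h : H, Subgroup.closure {c : H | ∃ i : ℕ, c = h⁻¹ * (x ^ i) h} ⊓
          (x : H →* H).eqLocus (MonoidHom.id H)).map il := by
      unfold Cfsg.Agent.Helper52.FC.star
      apply iSup_le
      rintro ⟨_, ⟨h, rfl⟩⟩
      intro g hg
      obtain ⟨hg1, hg2⟩ := Subgroup.mem_inf.mp hg
      have hLh : Lh a (il h) ≤ (Subgroup.closure {c : H | ∃ i : ℕ, c = h⁻¹ * (x ^ i) h}).map il := by
        unfold Cfsg.Agent.Helper52.FC.Lh
        rw [Subgroup.closure_le]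
        rintro _ ⟨i, rfl⟩
        refine ⟨h⁻¹ * (x ^ i) h, Subgroup.subset_closure ⟨i, rfl⟩, ?_⟩
        rw [hF1, map_mul, map_inv]
      obtain ⟨c', hc', rfl⟩ := hLh hg1
      have hfix : x c' = c' := (hF2 c').mp hg2
      refine Subgroup.mem_map_of_mem il ?_
      have hmem : c' ∈ Subgroup.closure {c : H | ∃ i : ℕ, c = h⁻¹ * (x ^ i) h} ⊓
          (x : H →* H).eqLocus (MonoidHom.id H) := Subgroup.mem_inf.mpr ⟨hc', hfix⟩
      exact (le_iSup (fun h : H => Subgroup.closure {c : H | ∃ i : ℕ, c = h⁻¹ * (x ^ i) h} ⊓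
          (x : H →* H).eqLocus (MonoidHom.id H)) h) hmem
    obtain ⟨c', hc', hcc⟩ := hstar h3
    rw [← hil hcc]
    exact hc'
  · apply iSup_le
    intro h
    apply inf_le_inf_right
    apply Subgroup.closure_mono
    rintro c ⟨i, rfl⟩
    exact ⟨h, i, rfl⟩

end Cfsg.Agent.Helper47.FC
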