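import Mathlib
import Cfsg.Agent.Lib.Helper97.FXDefs

/-!
# FL server (helper52, S3822): piece (LIN) `lin_bound`, core

`lin_bound_aux`: the statement of (LIN) with helper97's `field_bound` (S3818 over any field) as a
hypothesis `hFB` and the `ZMod r`-module structure on `Additive U` as an instance argument, so that
this file has a light import closure.
-/

set_option autoImplicit false

namespace Cfsg.Agent.Helper47.FL

open Cfsg.Agent.Helper97.FX

universe uA uU

section toEnd

variable (U : Type uU) [CommGroup U] (r : ℕ) [Module (ZMod r) (Additive U)]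

/-- automorphisms of `U` act `ZMod r`-linearly on `Additive U` (same as helper58's `h58_toEnd`). -/
noncomputable def h47_toEnd : MulAut U →* Module.End (ZMod r) (Additive U) where
  toFun g := (MonoidHom.toAdditive ((g : U ≃* U) : U →* U)).toZModLinearMap r
  map_one' := by
    apply LinearMap.ext
    intro w
    rfl
  map_mul' a b := by
    apply LinearMap.ext
    intro w
    rfl

theorem h47_toEnd_apply (g : MulAut U) (v : U) :
    h47_toEnd U r g (Additive.ofMul v) = Additive.ofMul (g v) := rfl

theorem h47_toEnd_injective : Function.Injective (h47_toEnd U r) := by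
  intro a b hab
  apply MulEquiv.ext
  intro v
  have := congrArg (fun f : Module.End (ZMod r) (Additive U) => f (Additive.ofMul v)) hab
  exact this

end toEnd

theorem lin_bound_aux {A : Type uA} [Group A] [Finite A] [Group.IsSolvable A] {U : Type uU}
    [CommGroup U] [Finite U] [Nontrivial U] {r p : ℕ} [Fact r.Prime] [Fact p.Prime]
    [Module (ZMod r) (Additive U)]
    (hFB : ∀ (G : Type uU) [Group G] [Finite G] [Group.IsSolvable G]
      (ρ : G →* Module.End (ZMod r) (Additive U)), Irr ρ → Function.Injective ρ →
      ∀ y : G, orderOf y = p → Subgroup.normalClosure ({y} : Set G) = ⊤ →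
      2 * fixDim (ρ y) < Module.finrank (ZMod r) (Additive U))
    (φ : A →* MulAut U) (x : A) (hx : orderOf x = p)
    (hgen : Subgroup.normalClosure ({x} : Set A) = ⊤) (hx1 : φ x ≠ 1)
    (hirr : ∀ W : Subgroup U, (∀ g : A, ∀ u ∈ W, φ g u ∈ W) → W = ⊥ ∨ W = ⊤) :
    Nat.card {u : U // φ x u = u} ^ 2 < Nat.card U := by
  classical
  have hr : r.Prime := Fact.out
  have hpp : p.Prime := Fact.out
  have : Finite (Additive U) := inferInstanceAs (Finite U)
  have : Module.Finite (ZMod r) (Additive U) := Module.Finite.of_finite
  -- the image group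
  let f : A →* ↥φ.range := φ.rangeRestrict
  have hf : Function.Surjective f := φ.rangeRestrict_surjective
  have : Finite ↥φ.range := Finite.of_surjective f hf
  have : Group.IsSolvable ↥φ.range := Group.isSolvable_of_surjective hf
  let ρ : ↥φ.range →* Module.End (ZMod r) (Additive U) := (h47_toEnd U r).comp φ.range.subtype
  have hρinj : Function.Injective ρ := fun a b hab =>
    Subtype.ext (h47_toEnd_injective U r hab)
  have hρapp : ∀ (g : A) (u : U), ρ (f g) (Additive.ofMul u) = Additive.ofMul (φ g u) :=
    fun g u => rfl
  -- irreducibility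
  have hρirr : Irr ρ := by
    intro W hW
    let W' : Subgroup U := AddSubgroup.toSubgroup' W.toAddSubgroup
    have hmem : ∀ u : U, u ∈ W' ↔ Additive.ofMul u ∈ W := fun u => Iff.rfl
    have hinv : ∀ g : A, ∀ u ∈ W', φ g u ∈ W' := by
      intro g u hu
      rw [hmem] at hu ⊢
      rw [← hρapp]
      exact hW (f g) _ hu
    rcases hirr W' hinv with h | h
    · left
      rw [eq_bot_iff]
      intro w hw
      have : Additive.toMul w ∈ W' := (hmem _).mpr hw
      rw [h, Subgroup.mem_bot] at this
      rw [Submodule.mem_bot]
      exact congrArg Additive.ofMul this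
    · right
      rw [eq_top_iff]
      intro w _
      have : Additive.toMul w ∈ W' := by rw [h]; exact Subgroup.mem_top _
      exact (hmem _).mp this
  -- the element of order `p`
  have hord : orderOf (f x) = p := by
    have hdvd : orderOf (f x) ∣ p := hx ▸ orderOf_map_dvd f x
    rcases (Nat.dvd_prime hpp).mp hdvd with h | h
    · exfalso
      rw [orderOf_eq_one_iff] at h
      exact hx1 (congrArg Subtype.val h)
    · exact h
  have hnc : Subgroup.normalClosure ({f x} : Set ↥φ.range) = ⊤ := by
    rw [← Set.image_singleton, ← Subgroup.map_normalClosure _ f hf, hgen, ← MonoidHom.range_eq_map,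
      MonoidHom.range_eq_top]
    exact hf
  have hb := hFB ↥φ.range ρ hρirr hρinj (f x) hord hnc
  -- cardinalities
  have hcardU : Nat.card U = r ^ Module.finrank (ZMod r) (Additive U) := by
    have h1 := Module.natCard_eq_pow_finrank (K := ZMod r) (V := Additive U)
    rw [Nat.card_zmod] at h1
    exact h1
  have hcardF : Nat.card {u : U // φ x u = u} = r ^ fixDim (ρ (f x)) := by
    have h1 := Module.natCard_eq_pow_finrank (K := ZMod r) (V := ↥(LinearMap.ker (ρ (f x) - 1)))
    rw [Nat.card_zmod] at h1
    rw [fixDim_def, ← h1]
    refine Nat.card_congr ?_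
    refine
      { toFun := fun u => ⟨Additive.ofMul u.1, ?_⟩
        invFun := fun w => ⟨Additive.toMul w.1, ?_⟩
        left_inv := fun u => rfl
        right_inv := fun w => rfl }
    · rw [LinearMap.mem_ker, LinearMap.sub_apply, hρapp, u.2]
      exact sub_self _
    · have hw := w.2
      rw [LinearMap.mem_ker, LinearMap.sub_apply, sub_eq_zero] at hw
      have h2 : ρ (f x) (Additive.ofMul (Additive.toMul w.1)) = Additive.ofMul (Additive.toMul w.1) := hw
      rw [hρapp] at h2
      exact congrArg Additive.toMul h2
  rw [hcardU, hcardF, ← pow_mul]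
  apply Nat.pow_lt_pow_right hr.one_lt
  omega

end Cfsg.Agent.Helper47.FL
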