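import Mathlib
import Cfsg.Agent.Lib.Helper52.FLDefs
import Cfsg.Agent.Lib.Helper52.Coprime
import Cfsg.Agent.Lib.Helper9.WielandtBasic
import Cfsg.Agent.Lib.Helper97.FXDefs
import Cfsg.Agent.Lib.Helper97.FXFinal
import Cfsg.Agent.Lib.Helper47.FLLINCore

/-!
# FL server (helper52, S3822): piece (LIN) `lin_bound`
-/

set_option autoImplicit false

namespace Cfsg.Agent.Helper47.FL

open Cfsg.Agent.Helper52.FL Cfsg.Agent.Helper97.FX

section LIN

/-- **(LIN) [M-L] uses helper97's FX `field_bound` (S3818 for any field; tools/fx_sigs_helper97.lean.txt; prove against a local copy of that sig until it is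
on main).** `Γ := φ.range ≤ MulAut U` is solvable, `ρ := h58_toEnd U r` restricted to `Γ` (Lib/Helper58/SGBC.lean) is injective, `Irr ρ` from `hirr`
(submodules of `Additive U` over `ZMod r` are the subgroups), `x̄ := φ x` has order `p`, `normalClosure {x̄} = ⊤` in `Γ`;
`|U| = r ^ finrank`, `|Fix| = r ^ fixDim (ρ x̄)`. -/
theorem lin_bound {A : Type*} [Group A] [Finite A] [Group.IsSolvable A] {U : Type*} [CommGroup U]
    [Finite U] [Nontrivial U] {r p : ℕ} [Fact r.Prime] [Fact p.Prime] (hp : 5 ≤ p)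
    (hU : ∀ u : U, u ^ r = 1) (φ : A →* MulAut U) (x : A) (hx : orderOf x = p)
    (hgen : Subgroup.normalClosure ({x} : Set A) = ⊤) (hx1 : φ x ≠ 1)
    (hirr : ∀ W : Subgroup U, (∀ g : A, ∀ u ∈ W, φ g u ∈ W) → W = ⊥ ∨ W = ⊤) :
    Nat.card {u : U // φ x u = u} ^ 2 < Nat.card U := by
  have hpp : p.Prime := Fact.out
  let _ : Module (ZMod r) (Additive U) := AddCommGroup.zmodModule (n := r) (fun a => by
    have h1 := hU (Additive.toMul a)
    exact congrArg Additive.ofMul h1)
  have : Finite (Additive U) := inferInstanceAs (Finite U)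
  have : Nontrivial (Additive U) := inferInstanceAs (Nontrivial U)
  have : Module.Finite (ZMod r) (Additive U) := Module.Finite.of_finite
  refine lin_bound_aux (r := r) (p := p) (fun G _ _ _ ρ h1 h2 y h3 h4 => ?_) φ x hx hgen hx1 hirr
  have hfd : FiniteDimensional (ZMod r) (Additive U) := ‹Module.Finite (ZMod r) (Additive U)›
  exact @field_bound (ZMod r) _ G _ _ _ (Additive U) _ _ hfd _ ρ h1 h2 p hpp hp y h3 h4

end LIN

end Cfsg.Agent.Helper47.FL
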