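import Mathlib
import Cfsg.Agent.Lib.Helper52.FLDefs
import Cfsg.Agent.Lib.Helper52.Coprime
import Cfsg.Agent.Lib.Helper9.WielandtBasic
import Cfsg.Agent.Lib.Helper97.FXDefs

/-!
# FL server (helper52, S3822): piece (SOLV) `solvable_sup`
-/

set_option autoImplicit false

namespace Cfsg.Agent.Helper47.FL

open Cfsg.Agent.Helper52.FL Cfsg.Agent.Helper97.FX

variable {G : Type*} [Group G] [Finite G]

/-- **(SOLV) [S-M]** -/
theorem solvable_sup (A V : Subgroup G) {r : ℕ} [Fact r.Prime] (hA : Group.IsSolvable ↥A)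
    (hV : IsPGroup r V) (hAV : A ≤ Subgroup.normalizer (V : Set G)) : Group.IsSolvable ↥(A ⊔ V) := by
  have hle : A ⊔ V ≤ Subgroup.normalizer (V : Set G) := sup_le hAV Subgroup.le_normalizer
  have hN : (V.subgroupOf (A ⊔ V)).Normal :=
    (Subgroup.normal_subgroupOf_iff_le_normalizer le_sup_right).mpr hle
  have : Group.IsNilpotent ↥V := hV.isNilpotent
  have : Group.IsSolvable ↥V := inferInstance
  -- the quotient is an image of `A`
  let π := QuotientGroup.mk' (V.subgroupOf (A ⊔ V))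
  let ψ : ↥A →* ↥(A ⊔ V) ⧸ V.subgroupOf (A ⊔ V) := π.comp (Subgroup.inclusion le_sup_left)
  have hψ : Function.Surjective ψ := by
    intro y
    obtain ⟨x, rfl⟩ := QuotientGroup.mk'_surjective _ y
    have hx : (x : G) ∈ ((A ⊔ V : Subgroup G) : Set G) := x.2
    rw [Subgroup.coe_mul_of_left_le_normalizer_right A V hAV] at hx
    obtain ⟨a, ha, v, hv, hav⟩ := hx
    refine ⟨⟨a, ha⟩, ?_⟩
    show π (Subgroup.inclusion le_sup_left ⟨a, ha⟩) = π x
    rw [QuotientGroup.mk'_eq_mk']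
    refine ⟨⟨v, le_sup_right (a := A) hv⟩, ?_, ?_⟩
    · exact Subgroup.mem_subgroupOf.mpr hv
    · exact Subtype.ext hav
  have : Group.IsSolvable (↥(A ⊔ V) ⧸ V.subgroupOf (A ⊔ V)) := Group.isSolvable_of_surjective hψ
  refine Group.isSolvable_of_ker_le_range (Subgroup.inclusion (le_sup_right : V ≤ A ⊔ V)) π ?_
  intro x hx
  rw [QuotientGroup.ker_mk'] at hx
  exact ⟨⟨x, Subgroup.mem_subgroupOf.mp hx⟩, Subtype.ext rfl⟩

end Cfsg.Agent.Helper47.FL
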