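import Mathlib
import Cfsg.Agent.Lib.Helper21.Components
import Cfsg.Agent.Lib.Helper47.FStarAct2
import Cfsg.Agent.Lib.Helper48.PReduced

set_option autoImplicit false

namespace Cfsg.Agent.Helper47

open Cfsg Subgroup

variable {G : Type*} [Group G]

/-- Iterated commutators with a subgroup of a subnormal subgroup `K` eventually land in `K`. -/
theorem iterComm_le_of_isSubnormal {K X Y : Subgroup G} (hK : K.IsSubnormal) (hYK : Y ≤ K) :
    ∃ n, Helper21.iterComm X Y n ≤ K := by
  obtain ⟨n, f, hmono, hnorm, hf0, hfn⟩ := hK.exists_chain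
  have c2 : ∀ i, i ≤ n → Helper21.iterComm X Y i ≤ f (n - i) := by
    intro i
    induction i with
    | zero => intro _; simp [hfn]
    | succ i ih =>
      intro hi
      have h1 : Helper21.iterComm X Y i ≤ f (n - i) := ih (by omega)
      have h2 : Y ≤ f (n - (i + 1)) := hYK.trans (hf0 ▸ hmono (Nat.zero_le _))
      have h3 : n - i = (n - (i + 1)) + 1 := by omega
      have h4 : ⁅f (n - i), f (n - (i + 1))⁆ ≤ f (n - (i + 1)) := by
        rw [h3]
        exact Helper21.commutator_le_of_normal_subgroupOf (hmono (Nat.le_succ _)) (hnorm _)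
      exact (commutator_mono h1 h2).trans h4
  refine ⟨n, ?_⟩
  have := c2 n le_rfl
  rwa [Nat.sub_self, hf0] at this

/-- A subnormal subgroup of `G` inside `F*(G)` and inside `K` lies in the image of `F*(K)`. -/
theorem subnormal_le_map_generalizedFittingSubgroup_of_le [Finite G] {S K : Subgroup G}
    (hS : S ≤ generalizedFittingSubgroup G) (hsn : S.IsSubnormal) (hSK : S ≤ K) :
    S ≤ (generalizedFittingSubgroup ↥K).map K.subtype := by
  refine (Helper22.subnormal_le_generalizedFitting_decomp hS hsn).trans ?_
  rw [Helper22.generalizedFittingSubgroup_eq, Subgroup.map_sup]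
  apply sup_le_sup
  · refine le_trans (sSup_le_sSup ?_) (Helper22.sSup_components_le_map_layer K)
    intro L hL
    exact ⟨hL.1, hL.2.trans hSK⟩
  · exact (inf_le_inf_left _ hSK).trans (Helper22.fittingSubgroup_inf_le_map_fittingSubgroup K)

/-- `[F*(H), Y] = [F*(K), Y] = [F*(K), Y, Y]` for subnormal `K ≥ Y`; faithful action. -/
theorem fstar_commutator_subnormal [Finite G] {p : ℕ} [hp : Fact p.Prime] (hO : pCore p G = ⊥)
    {Y : Subgroup G} (hY : IsPGroup p Y) :
    (∀ K : Subgroup G, K.IsSubnormal → Y ≤ K →
      ⁅generalizedFittingSubgroup G, Y⁆ = ⁅(generalizedFittingSubgroup ↥K).map K.subtype, Y⁆ ∧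
      ⁅(generalizedFittingSubgroup ↥K).map K.subtype, Y⁆ =
        ⁅⁅(generalizedFittingSubgroup ↥K).map K.subtype, Y⁆, Y⁆) ∧
    (∀ Y₀ : Subgroup G, Y₀ ≤ Y → ⁅⁅generalizedFittingSubgroup G, Y⁆, Y₀⁆ = ⊥ → Y₀ = ⊥) := by
  have hFn : (generalizedFittingSubgroup G).Normal := Helper22.generalizedFittingSubgroup_normal
  have hFsn : (generalizedFittingSubgroup G).IsSubnormal := hFn.isSubnormal
  have hYF : Y ≤ normalizer ((generalizedFittingSubgroup G : Subgroup G) : Set G) :=
    le_normalizer_of_normal
  obtain ⟨h1, h2⟩ := fstar_action_internal hO hY hFsn le_rfl hYF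
  refine ⟨?_, ?_⟩
  · intro K hK hYK
    have hFKn : (generalizedFittingSubgroup ↥K).Normal :=
      Helper22.generalizedFittingSubgroup_normal
    have hFKsn : ((generalizedFittingSubgroup ↥K).map K.subtype).IsSubnormal :=
      hFKn.isSubnormal.trans' hK
    have hFKF : (generalizedFittingSubgroup ↥K).map K.subtype ≤ generalizedFittingSubgroup G :=
      Helper22.map_generalizedFittingSubgroup_le hK
    have hYFK : Y ≤ normalizer (((generalizedFittingSubgroup ↥K).map K.subtype : Subgroup G) :
        Set G) :=
      hYK.trans (Helper48.le_normalizer_map_subtype_of_normal K _)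
    obtain ⟨-, h4⟩ := fstar_action_internal hO hY hFKsn hFKF hYFK
    refine ⟨?_, h4⟩
    apply le_antisymm _ (commutator_mono hFKF le_rfl)
    have hM : ∀ i, Helper21.iterComm (generalizedFittingSubgroup G) Y (i + 1) =
        ⁅generalizedFittingSubgroup G, Y⁆ := by
      intro i
      induction i with
      | zero => rfl
      | succ i ih =>
        show ⁅Helper21.iterComm (generalizedFittingSubgroup G) Y (i + 1), Y⁆ = _
        rw [ih, ← h2]
    obtain ⟨n, hn⟩ := iterComm_le_of_isSubnormal (X := generalizedFittingSubgroup G) hK hYK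
    have hMK : ⁅generalizedFittingSubgroup G, Y⁆ ≤ K := by
      rw [← hM n]
      show ⁅Helper21.iterComm (generalizedFittingSubgroup G) Y n, Y⁆ ≤ K
      exact (commutator_mono hn hYK).trans (commutator_le_self K)
    have hMsn : (⁅generalizedFittingSubgroup G, Y⁆).IsSubnormal :=
      IsSubnormal.step _ _ (commutator_le_left _ _) hFsn
        (normal_subgroupOf_of_le_normalizer (Helper1.le_normalizer_commutator_left _ Y))
    have hMFK := subnormal_le_map_generalizedFittingSubgroup_of_le
      (commutator_le_left (generalizedFittingSubgroup G) Y) hMsn hMK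
    rw [h2]
    exact commutator_mono hMFK le_rfl
  · intro Y₀ hY₀ hc
    have hY₀p : IsPGroup p Y₀ := hY.to_le hY₀
    have h5 : generalizedFittingSubgroup G ≤ centralizer (Y₀ : Set G) := by
      refine h1.ge.trans (sup_le ?_ ?_)
      · exact commutator_eq_bot_iff_le_centralizer.mp hc
      · exact inf_le_right.trans (centralizer_le hY₀)
    have h6 : Y₀ ≤ centralizer ((generalizedFittingSubgroup G : Subgroup G) : Set G) :=
      le_centralizer_iff.mp h5
    have h7 : Y₀ ≤ generalizedFittingSubgroup G :=
      h6.trans Helper22.centralizer_generalizedFittingSubgroup_le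
    have h8 := card_inf_centralizer_coprime hO (generalizedFittingSubgroup G)
    exact eq_bot_of_isPGroup_of_card_coprime hY₀p
      (Nat.Coprime.coprime_dvd_left (card_dvd_of_le (le_inf h7 h6)) h8)

end Cfsg.Agent.Helper47
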