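import Mathlib
import Cfsg.Agent.Lib.Helper22.QPrimeCore
import Cfsg.Agent.Lib.Helper47.FStarAct3

set_option autoImplicit false

namespace Cfsg.Agent.Helper47

open Cfsg Subgroup

variable {G : Type*} [Group G]

theorem fittingSubgroup_map_mulEquiv_le (φ : G ≃* G) :
    (fittingSubgroup G).map φ.toMonoidHom ≤ fittingSubgroup G := by
  unfold fittingSubgroup
  rw [map_le_iff_le_comap]
  apply sSup_le
  rintro N ⟨hNn, hNnil⟩
  rw [← map_le_iff_le_comap]
  apply le_sSup
  refine ⟨hNn.map _ φ.surjective, ?_⟩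
  haveI := hNnil
  exact Group.nilpotent_of_mulEquiv (N.equivMapOfInjective φ.toMonoidHom φ.injective)

instance fittingSubgroup_characteristic : (fittingSubgroup G).Characteristic := by
  rw [characteristic_iff_map_le]
  intro φ
  exact fittingSubgroup_map_mulEquiv_le φ

/-- External version: `H ≤ G` with `O_p(H) = 1`, `Y` a `p`-subgroup of `G` normalizing `H`,
`L ≤ F*(H)` subnormal in `H` and normalized by `Y`. -/
theorem fstar_action_external [Finite G] {p : ℕ} [hp : Fact p.Prime] (H : Subgroup G)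
    (hO : pCore p ↥H = ⊥) (Y : Subgroup G) (hY : IsPGroup p ↥Y)
    (hYH : Y ≤ normalizer (H : Set G)) (L : Subgroup G)
    (hLF : L ≤ (generalizedFittingSubgroup ↥H).map H.subtype)
    (hLsn : (L.subgroupOf H).IsSubnormal) (hYL : Y ≤ normalizer (L : Set G)) :
    ⁅L, Y⁆ ⊔ (L ⊓ centralizer (Y : Set G)) = L ∧ ⁅L, Y⁆ = ⁅⁅L, Y⁆, Y⁆ := by
  have hLH : L ≤ H := hLF.trans (map_subtype_le _)
  have hmapL : (L.subgroupOf H).map H.subtype = L := map_subgroupOf_eq_of_le hLH
  have hEL : sSup {K : Subgroup G | K ≤ L ∧ IsComponent (K.subgroupOf H)} ≤ L :=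
    sSup_le fun K hK => hK.1
  have hEH := hEL.trans hLH
  have hFL : (fittingSubgroup ↥H).map H.subtype ⊓ L ≤ L := inf_le_right
  -- decomposition
  have hL'F : L.subgroupOf H ≤ generalizedFittingSubgroup ↥H := by
    intro x hx
    obtain ⟨y, hy, hyx⟩ := hLF (show (x : G) ∈ L from hx)
    have : y = x := Subtype.ext hyx
    rw [← this]; exact hy
  have hdec := Helper22.subnormal_le_generalizedFitting_decomp hL'F hLsn
  have hL : L = sSup {K : Subgroup G | K ≤ L ∧ IsComponent (K.subgroupOf H)} ⊔
      ((fittingSubgroup ↥H).map H.subtype ⊓ L) := by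
    apply le_antisymm _ (sup_le hEL hFL)
    have h1 := Subgroup.map_mono (f := H.subtype) hdec
    rw [hmapL, Subgroup.map_sup] at h1
    refine h1.trans (sup_le_sup ?_ ?_)
    · rw [map_le_iff_le_comap]
      apply sSup_le
      rintro K' ⟨hK'c, hK'L⟩
      rw [← map_le_iff_le_comap]
      apply le_sSup
      refine ⟨?_, ?_⟩
      · have := Subgroup.map_mono (f := H.subtype) hK'L
        rwa [hmapL] at this
      · have e : (K'.map H.subtype).subgroupOf H = K' :=
          comap_map_eq_self_of_injective H.subtype_injective K'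
        rw [e]; exact hK'c
    · refine le_inf (Subgroup.map_mono inf_le_left) ?_
      have := Subgroup.map_mono (f := H.subtype)
        (inf_le_right : fittingSubgroup ↥H ⊓ L.subgroupOf H ≤ L.subgroupOf H)
      rwa [hmapL] at this
  -- conjugation permutes the relative components
  have hperm : ∀ y ∈ normalizer (H : Set G) ⊓ normalizer (L : Set G),
      ∀ A ∈ {K : Subgroup G | K ≤ L ∧ IsComponent (K.subgroupOf H)},
      cj y A ∈ {K : Subgroup G | K ≤ L ∧ IsComponent (K.subgroupOf H)} := by
    rintro y ⟨hyH, hyL⟩ A ⟨hAL, hAc⟩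
    refine ⟨?_, ?_⟩
    · have := cj_mono (a := y) hAL
      rwa [cj_eq_self_iff.mpr hyL] at this
    · have h1 := Helper22.IsComponent.subgroupOf_map_mulEquiv (MulAut.conj y) (hAL.trans hLH) hAc
      have h2 : H.map ((MulAut.conj y : G ≃* G) : G →* G) = H := cj_eq_self_iff.mpr hyH
      rw [h2] at h1
      exact h1
  have hNE := le_normalizer_sSup_of_cj_mem hperm
  have hYE := (le_inf hYH hYL).trans hNE
  have hLE := (le_inf (hLH.trans le_normalizer) le_normalizer).trans hNE
  have hYF : Y ≤ normalizer (((fittingSubgroup ↥H).map H.subtype ⊓ L : Subgroup G) : Set G) :=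
    (le_inf (hYH.trans (Helper22.normalizer_le_normalizer_map_of_characteristic H _)) hYL).trans
      inf_normalizer_le_normalizer_inf
  have hKmap : ∀ K ∈ {K : Subgroup G | K ≤ L ∧ IsComponent (K.subgroupOf H)},
      (K.subgroupOf H).map H.subtype = K :=
    fun K hK => map_subgroupOf_eq_of_le (hK.1.trans hLH)
  have hEF : ⁅sSup {K : Subgroup G | K ≤ L ∧ IsComponent (K.subgroupOf H)},
      (fittingSubgroup ↥H).map H.subtype ⊓ L⁆ = ⊥ := by
    rw [eq_bot_iff]
    have h1 : sSup {K : Subgroup G | K ≤ L ∧ IsComponent (K.subgroupOf H)} ≤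
        (layer ↥H).map H.subtype := by
      apply sSup_le
      intro K hK
      rw [← hKmap K hK]
      exact Subgroup.map_mono (Helper22.IsComponent.le_layer hK.2)
    refine (commutator_mono h1 inf_le_left).trans ?_
    rw [← map_commutator, Helper22.commutator_layer_fittingSubgroup, Subgroup.map_bot]
  have hperf : ∀ K ∈ {K : Subgroup G | K ≤ L ∧ IsComponent (K.subgroupOf H)}, ⁅K, K⁆ = K := by
    intro K hK
    have h1 := Helper22.IsQuasisimple.commutator_eq hK.2.2
    have h2 := congrArg (Subgroup.map H.subtype) h1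
    rwa [map_commutator, hKmap K hK] at h2
  -- subnormality of `[E, Y]` in `H`
  have hsub : ∀ {A B : Subgroup G}, A ≤ B → B ≤ H → B ≤ normalizer (A : Set G) →
      (B.subgroupOf H).IsSubnormal → (A.subgroupOf H).IsSubnormal := by
    intro A B hAB hBH hBA hBsn
    refine IsSubnormal.step _ (B.subgroupOf H) (fun x hx => hAB hx) hBsn ?_
    apply normal_subgroupOf_of_le_normalizer
    rw [← subgroupOf_normalizer_eq (hAB.trans hBH)]
    intro x hx
    exact hBA hx
  have hEsn := hsub hEL hLH hLE hLsn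
  have hMsn := hsub (Helper1.commutator_le_of_le_normalizer hYE) hEH
    (Helper1.le_normalizer_commutator_left _ Y) hEsn
  have hMH : ⁅sSup {K : Subgroup G | K ≤ L ∧ IsComponent (K.subgroupOf H)}, Y⁆ ≤ H :=
    (Helper1.commutator_le_of_le_normalizer hYE).trans hEH
  have hdich : ∀ K ∈ {K : Subgroup G | K ≤ L ∧ IsComponent (K.subgroupOf H)},
      K ≤ ⁅sSup {K : Subgroup G | K ≤ L ∧ IsComponent (K.subgroupOf H)}, Y⁆ ∨
      ⁅K, ⁅sSup {K : Subgroup G | K ≤ L ∧ IsComponent (K.subgroupOf H)}, Y⁆⁆ = ⊥ := by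
    intro K hK
    rcases Helper22.component_le_or_commutator_eq_bot hK.2 hMsn with h | h
    · left
      have := Subgroup.map_mono (f := H.subtype) h
      rwa [hKmap K hK, map_subgroupOf_eq_of_le hMH] at this
    · right
      have := congrArg (Subgroup.map H.subtype) h
      rwa [map_commutator, hKmap K hK, map_subgroupOf_eq_of_le hMH, Subgroup.map_bot] at this
  haveI := Helper22.isNilpotent_fittingSubgroup (G := ↥H)
  have hFcop : (Nat.card (fittingSubgroup ↥H)).Coprime p := card_coprime_of_normal_nilpotent hO _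
  have hcop : (Nat.card Y).Coprime
      (Nat.card ↥((fittingSubgroup ↥H).map H.subtype ⊓ L)) := by
    obtain ⟨n, hn⟩ := IsPGroup.iff_card.mp hY
    rw [hn]
    apply Nat.Coprime.pow_left
    have h1 : Nat.card ↥((fittingSubgroup ↥H).map H.subtype) = Nat.card (fittingSubgroup ↥H) :=
      card_map_of_injective H.subtype_injective
    exact (Nat.Coprime.coprime_dvd_left (card_dvd_of_le inf_le_left) (h1 ▸ hFcop)).symm
  have hsolv : Group.IsSolvable Y ∨
      Group.IsSolvable ↥((fittingSubgroup ↥H).map H.subtype ⊓ L) :=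
    Or.inl (by haveI := hY.isNilpotent; infer_instance)
  exact fstar_action _ rfl hL hYL hYE hYF hEF hperf hdich hcop hsolv

end Cfsg.Agent.Helper47
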