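import Mathlib
import Cfsg.Agent.Lib.Helper47.FStarQ
import Cfsg.Agent.Lib.Helper22.Bender

set_option autoImplicit false

namespace Cfsg.Agent.Helper47

open Cfsg Subgroup
open scoped commutatorElement

variable {G : Type*} [Group G]

theorem commutator_eq_bot_of_le_centralizer {A B : Subgroup G} (h : A ≤ centralizer (B : Set G)) :
    ⁅A, B⁆ = ⊥ :=
  commutator_eq_bot_iff_le_centralizer.mpr h

/-- `[F*(H), Q]` for a `p`-subgroup `Q` when `O_p(H) = 1`. -/
theorem fstar_commutator_pSubgroup [Finite G] {p : ℕ} [hp : Fact p.Prime] (hO : pCore p G = ⊥)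
    (Q : Subgroup G) (hQ : IsPGroup p ↥Q) (L : Subgroup G)
    (hL : L = ⁅generalizedFittingSubgroup G, Q⁆) (F : Subgroup G)
    (hF : F ≤ generalizedFittingSubgroup G ∧
      generalizedFittingSubgroup G ≤ normalizer (F : Set G) ∧
      Q ≤ centralizer (F : Set G) ∧
      ∀ N : Subgroup G, N ≤ generalizedFittingSubgroup G →
        generalizedFittingSubgroup G ≤ normalizer (N : Set G) →
        Q ≤ centralizer (N : Set G) → N ≤ F) :
    F = generalizedFittingSubgroup G ⊓ centralizer ((L ⊔ Q : Subgroup G) : Set G) ∧
    ⁅L, Q⁆ = L ∧ L ⊓ F ≤ (frattini ↥L).map L.subtype ∧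
    (∀ B : Subgroup G, IsPGroup p ↥B → B ≤ normalizer (Q : Set G) → ⁅L, B⁆ ≤ F → ⁅L, B⁆ = ⊥) ∧
    (Nat.card ↥(centralizer ((F ⊔ L : Subgroup G) : Set G))).Coprime p := by
  obtain ⟨hFX, hXF, hQF, hFmax⟩ := hF
  set X := generalizedFittingSubgroup G with hX
  have hXn : X.Normal := Helper22.generalizedFittingSubgroup_normal
  have hXsn : X.IsSubnormal := hXn.isSubnormal
  have hNX : ∀ A : Subgroup G, A ≤ normalizer (X : Set G) := fun A => le_normalizer_of_normal
  obtain ⟨h1, h2⟩ := fstar_action_internal hO hQ hXsn le_rfl (hNX Q)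
  rw [← hL] at h1 h2
  have hLX : L ≤ X := hL ▸ Helper1.commutator_le_of_le_normalizer (hNX Q)
  have hXL : X ≤ normalizer (L : Set G) := hL ▸ Helper1.le_normalizer_commutator_left X Q
  have hQL : Q ≤ normalizer (L : Set G) := hL ▸ Helper1.le_normalizer_commutator_right (hNX Q)
  have hLsn : L.IsSubnormal :=
    IsSubnormal.step _ _ hLX hXsn (normal_subgroupOf_of_le_normalizer hXL)
  have hLQ : ⁅L, Q⁆ = L := h2.symm
  -- `F` centralizes `L`
  have hFQ : F ≤ centralizer (Q : Set G) := le_centralizer_iff.mp hQF
  have hFL : ⁅L, F⁆ = ⊥ := by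
    rw [hL]
    apply commutator_commutator_eq_bot_of_rotate
    · rw [commutator_eq_bot_of_le_centralizer hQF]
      exact commutator_bot_left _
    · rw [eq_bot_iff, ← commutator_eq_bot_of_le_centralizer hFQ]
      exact commutator_mono (Helper1.commutator_le_of_le_normalizer hXF) le_rfl
  have hFCL : F ≤ centralizer (L : Set G) := by
    rw [← commutator_eq_bot_iff_le_centralizer, commutator_comm]; exact hFL
  -- (1)
  have hF1 : F = X ⊓ centralizer ((L ⊔ Q : Subgroup G) : Set G) := by
    apply le_antisymm
    · rw [centralizer_sup_eq]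
      exact le_inf hFX (le_inf hFCL hFQ)
    · apply hFmax _ inf_le_left
      · -- X normalizes C₀
        have hC0 : normalizer (X : Set G) ⊓ normalizer ((L ⊔ Q : Subgroup G) : Set G) ≤
            normalizer ((X ⊓ centralizer ((L ⊔ Q : Subgroup G) : Set G) : Subgroup G) : Set G) :=
          (inf_le_inf le_rfl (normalizer_le_normalizer_centralizer _)).trans
            inf_normalizer_le_normalizer_inf
        conv_lhs => rw [← h1]
        apply sup_le
        · -- L centralizes C₀
          refine le_trans ?_ (centralizer_le_normalizer _)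
          rw [le_centralizer_iff]
          refine inf_le_right.trans ?_
          rw [centralizer_sup_eq]
          exact inf_le_left
        · refine le_trans ?_ hC0
          refine le_inf (inf_le_left.trans (hNX X)) ?_
          refine le_trans ?_ (normalizer_inf_normalizer_le_normalizer_sup L Q)
          exact le_inf (inf_le_left.trans hXL) (inf_le_right.trans (centralizer_le_normalizer _))
      · rw [le_centralizer_iff]
        refine inf_le_right.trans ?_
        rw [centralizer_sup_eq]
        exact inf_le_right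
  -- Claim C for L
  have hC : ∀ z (hzL : z ∈ L), z ∈ centralizer (Q : Set G) → (⟨z, hzL⟩ : ↥L) ∈ commutator ↥L :=
    fun z hzL hzQ => mem_commutator_of_mem_centralizer hO hQ hLsn hLX hQL hLQ hzL hzQ
  refine ⟨hF1, hLQ, ?_, ?_, ?_⟩
  · -- (3)
    intro z hz
    refine ⟨⟨z, hz.1⟩, ?_, rfl⟩
    apply center_inf_commutator_le_frattini
    refine ⟨?_, hC z hz.1 (hFQ hz.2)⟩
    refine mem_center_iff.mpr ?_
    intro g
    apply Subtype.ext
    exact mem_centralizer_iff.mp (hFCL hz.2) g g.2
  · -- (4)
    intro B hB hBQ hLBF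
    have hBL : B ≤ normalizer (L : Set G) := by
      rw [hL]
      exact (le_inf (hNX B) hBQ).trans (normalizer_inf_normalizer_le_normalizer_commutator X Q)
    have hWL : ⁅L, B⁆ ≤ L := Helper1.commutator_le_of_le_normalizer hBL
    have hWcomm : ⁅L, B⁆ ≤ ⁅L, L⁆ := by
      intro w hw
      have := hC w (hWL hw) (hFQ (hLBF hw))
      rw [← map_subtype_commutator]
      exact ⟨_, this, rfl⟩
    have hLLB : ⁅⁅L, L⁆, B⁆ = ⊥ := by
      have hW1 : ⁅⁅L, B⁆, L⁆ = ⊥ := commutator_eq_bot_of_le_centralizer (hLBF.trans hFCL)
      apply commutator_commutator_eq_bot_of_rotate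
      · exact hW1
      · rw [commutator_comm B L]; exact hW1
    obtain ⟨_, h4⟩ := fstar_action_internal hO hB hLsn hLX hBL
    rw [h4, eq_bot_iff, ← hLLB]
    exact commutator_mono hWcomm le_rfl
  · -- (5)
    have key : ∀ R : Subgroup G, IsPGroup p ↥R →
        R ≤ centralizer ((F ⊔ L : Subgroup G) : Set G) → R = ⊥ := by
      intro R hR hRC
      rw [centralizer_sup_eq] at hRC
      have hRF : R ≤ centralizer (F : Set G) := hRC.trans inf_le_left
      have hRL : R ≤ centralizer (L : Set G) := hRC.trans inf_le_right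
      have hLR : ⁅L, R⁆ = ⊥ := by
        rw [commutator_comm]; exact commutator_eq_bot_of_le_centralizer hRL
      -- Step a
      have hXRL : ⁅⁅X, R⁆, L⁆ = ⊥ := by
        apply commutator_commutator_eq_bot_of_rotate
        · rw [commutator_eq_bot_of_le_centralizer hRL]
          exact commutator_bot_left _
        · rw [eq_bot_iff, ← hLR]
          exact commutator_mono (Helper1.commutator_le_of_le_normalizer hXL) le_rfl
      have hXRD : ⁅X, R⁆ ≤ X ⊓ centralizer (L : Set G) :=
        le_inf (Helper1.commutator_le_of_le_normalizer (hNX R))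
          (commutator_eq_bot_iff_le_centralizer.mp hXRL)
      -- Step b
      have hND : ∀ A : Subgroup G, A ≤ normalizer (L : Set G) →
          A ≤ normalizer ((X ⊓ centralizer (L : Set G) : Subgroup G) : Set G) := fun A hA =>
        (le_inf (hNX A) (hA.trans (normalizer_le_normalizer_centralizer _))).trans
          inf_normalizer_le_normalizer_inf
      have hDsn : (X ⊓ centralizer (L : Set G)).IsSubnormal :=
        IsSubnormal.step _ _ inf_le_left hXsn (normal_subgroupOf_of_le_normalizer (hND X hXL))
      obtain ⟨h5, _⟩ := fstar_action_internal hO hQ hDsn inf_le_left (hND Q hQL)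
      have hDLF : X ⊓ centralizer (L : Set G) ≤ F ⊔ L := by
        rw [← h5]
        apply sup_le
        · refine le_trans ?_ le_sup_right
          rw [hL]
          exact commutator_mono inf_le_left le_rfl
        · refine le_trans ?_ le_sup_left
          rw [hF1, centralizer_sup_eq, inf_assoc]
      have hDR : ⁅X ⊓ centralizer (L : Set G), R⁆ = ⊥ := by
        rw [commutator_eq_bot_iff_le_centralizer]
        refine hDLF.trans ?_
        rw [← le_centralizer_iff, centralizer_sup_eq]
        exact hRC
      -- Step c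
      obtain ⟨_, h6⟩ := fstar_action_internal hO hR hXsn le_rfl (hNX R)
      have hXR : ⁅X, R⁆ = ⊥ := by
        rw [h6, eq_bot_iff, ← hDR]
        exact commutator_mono hXRD le_rfl
      have hRX : R ≤ centralizer (X : Set G) := by
        rw [le_centralizer_iff, ← commutator_eq_bot_iff_le_centralizer]; exact hXR
      have hRXX : R ≤ X ⊓ centralizer (X : Set G) :=
        le_inf (hRX.trans Helper22.centralizer_generalizedFittingSubgroup_le) hRX
      exact eq_bot_of_isPGroup_of_card_coprime hR
        (Nat.Coprime.coprime_dvd_left (card_dvd_of_le hRXX) (card_inf_centralizer_coprime hO X))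
    apply Nat.Coprime.symm
    rw [Nat.Prime.coprime_iff_not_dvd hp.out]
    intro hdvd
    obtain ⟨x, hx⟩ := exists_prime_orderOf_dvd_card' p hdvd
    have hR : IsPGroup p ↥(zpowers (x : G)) := by
      apply IsPGroup.of_card (n := 1)
      rw [Nat.card_zpowers, orderOf_coe, hx, pow_one]
    have := key (zpowers (x : G)) hR (by rw [zpowers_le]; exact x.2)
    rw [zpowers_eq_bot] at this
    have hx1 : x = 1 := Subtype.ext this
    rw [hx1, orderOf_one] at hx
    exact hp.out.one_lt.ne hx

end Cfsg.Agent.Helper47
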