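import Mathlib
import Cfsg.Prelude.Def_LocalStructure
import Cfsg.Agent.Lib.Helper47.UMin

set_option autoImplicit false

/-!
# The quotient `N_L(Y)/O_p(L)` for `L ∈ 𝔏_G(Y)` (helper47)

Abstract assembly for S2861: from the uniqueness property `UM` of `L / O_p(L)` to the statement about
`N_L(Y) / O_p(L)`.
-/

namespace Cfsg.Agent.Helper47.FLQ

open Subgroup Cfsg Cfsg.Agent.Helper47.UMin

variable {G : Type*} [Group G]

theorem main [Finite G] {p q : ℕ} [Fact p.Prime]
    (Y L NL : Subgroup G) (hYL : Y ≤ L) (hYe : Cfsg.IsElementaryAbelian p Y)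
    (hAN : Cfsg.pCoreOf p L ≤ normalizer (Y : Set G))
    (hNL : NL = L ⊓ normalizer (Y : Set G))
    (hncl : Subgroup.normalClosure ((Y.subgroupOf L : Subgroup ↥L) : Set ↥L) = ⊤)
    (hlt : NL < L) (hmax : ∀ X : Subgroup G, Y ≤ X → X < L → X ≤ NL)
    (hq : q = (Y ⊓ Cfsg.pCoreOf p L).relIndex Y)
    (hum : UM p q (↥L ⧸ Cfsg.pCore p ↥L))
    [hn : ((Cfsg.pCoreOf p L).subgroupOf NL).Normal] :
    let Ybar : Subgroup (↥NL ⧸ (Cfsg.pCoreOf p L).subgroupOf NL) :=
      (Y.subgroupOf NL).map (QuotientGroup.mk' ((Cfsg.pCoreOf p L).subgroupOf NL))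
    Ybar ≠ ⊥ ∧ Ybar.Normal ∧ Cfsg.IsElementaryAbelian p Ybar ∧
      ∀ V : Subgroup (↥NL ⧸ (Cfsg.pCoreOf p L).subgroupOf NL),
        V.Normal → Cfsg.IsElementaryAbelian p V → V ≠ ⊥ → V = Ybar := by
  intro Ybar
  have hNLL : NL ≤ L := hNL ▸ inf_le_left
  have hNLY : NL ≤ normalizer (Y : Set G) := hNL ▸ inf_le_right
  have hYNL : Y ≤ NL := hNL ▸ le_inf hYL Subgroup.le_normalizer
  have hAL : Cfsg.pCoreOf p L ≤ L := by
    rintro _ ⟨k, _, rfl⟩
    exact k.2
  have hANL : Cfsg.pCoreOf p L ≤ NL := hNL ▸ le_inf hAL hAN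
  have memA : ∀ x : ↥L, (x : G) ∈ Cfsg.pCoreOf p L ↔ x ∈ Cfsg.pCore p ↥L := by
    intro x
    constructor
    · rintro ⟨k, hk, hkx⟩
      have : k = x := Subtype.ext hkx
      rwa [← this]
    · intro hx
      exact ⟨x, hx, rfl⟩
  -- the embedding of the quotients
  let incl : ↥NL →* ↥L := Subgroup.inclusion hNLL
  have hle : (Cfsg.pCoreOf p L).subgroupOf NL ≤ (Cfsg.pCore p ↥L).comap incl := by
    intro x hx
    rw [mem_comap, ← memA]
    exact hx
  let ι : (↥NL ⧸ (Cfsg.pCoreOf p L).subgroupOf NL) →* (↥L ⧸ Cfsg.pCore p ↥L) :=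
    QuotientGroup.map _ _ incl hle
  have hι_mk : ∀ x : ↥NL, ι (QuotientGroup.mk x) = QuotientGroup.mk (incl x) := fun x => rfl
  have hι : Function.Injective ι := by
    rw [injective_iff_map_eq_one]
    intro x hx
    induction x using QuotientGroup.induction_on with
    | H a =>
      rw [hι_mk, QuotientGroup.eq_one_iff] at hx
      rw [QuotientGroup.eq_one_iff]
      exact (memA (incl a)).mpr hx
  -- Y is not inside O_p(L)
  have hYA : ¬ Y ≤ Cfsg.pCoreOf p L := by
    intro hcon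
    have h1 : ((Y.subgroupOf L : Subgroup ↥L) : Set ↥L) ⊆ Cfsg.pCore p ↥L := by
      intro x hx
      exact (memA x).mp (hcon hx)
    have h2 := Subgroup.normalClosure_le_normal h1
    rw [hncl, top_le_iff] at h2
    have h3 : L ≤ NL := by
      intro l hl
      have : (⟨l, hl⟩ : ↥L) ∈ Cfsg.pCore p ↥L := by rw [h2]; exact mem_top _
      exact hANL ((memA ⟨l, hl⟩).mpr this)
    exact (lt_irrefl _ (lt_of_lt_of_le hlt h3))
  have hYbar1 : Ybar ≠ ⊥ := by
    intro hcon
    apply hYA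
    intro y hy
    have h1 : (QuotientGroup.mk' ((Cfsg.pCoreOf p L).subgroupOf NL)) ⟨y, hYNL hy⟩ ∈ Ybar :=
      mem_map.mpr ⟨⟨y, hYNL hy⟩, hy, rfl⟩
    rw [hcon, mem_bot, QuotientGroup.mk'_apply, QuotientGroup.eq_one_iff] at h1
    exact h1
  have hYbarN : Ybar.Normal := by
    have : (Y.subgroupOf NL).Normal := (Subgroup.normal_subgroupOf_iff_le_normalizer hYNL).mpr hNLY
    exact Subgroup.Normal.map this _ (QuotientGroup.mk'_surjective _)
  have hYcomm : ∀ a b : G, a ∈ Y → b ∈ Y → a * b = b * a := by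
    intro a b ha hb
    have := hYe.1.is_comm.comm (⟨a, ha⟩ : ↥Y) ⟨b, hb⟩
    exact congrArg Subtype.val this
  have hYbarE : Cfsg.IsElementaryAbelian p Ybar := by
    refine ⟨⟨⟨?_⟩⟩, ?_⟩
    · rintro ⟨_, a, ha, rfl⟩ ⟨_, b, hb, rfl⟩
      apply Subtype.ext
      change (QuotientGroup.mk' _ a) * (QuotientGroup.mk' _ b) =
        (QuotientGroup.mk' _ b) * (QuotientGroup.mk' _ a)
      rw [← map_mul, ← map_mul]
      congr 1
      apply Subtype.ext
      exact hYcomm _ _ ha hb
    · rintro _ ⟨a, ha, rfl⟩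
      rw [← map_pow]
      have : a ^ p = 1 := by
        apply Subtype.ext
        rw [Subgroup.coe_pow, Subgroup.coe_one]
        exact hYe.2 _ ha
      rw [this, map_one]
  refine ⟨hYbar1, hYbarN, hYbarE, ?_⟩
  intro V hVn hVe hV1
  -- card of Ybar
  have hcardY : Nat.card (Ybar.map ι) = q := by
    rw [hq]
    let ψ : ↥Y →* (↥NL ⧸ (Cfsg.pCoreOf p L).subgroupOf NL) :=
      (QuotientGroup.mk' _).comp (Subgroup.inclusion hYNL)
    have hrange : ψ.range = Ybar := by
      ext x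
      constructor
      · rintro ⟨y, rfl⟩
        exact mem_map.mpr ⟨Subgroup.inclusion hYNL y, y.2, rfl⟩
      · rintro ⟨a, ha, rfl⟩
        exact ⟨⟨a.1, ha⟩, rfl⟩
    have hker : ψ.ker = (Y ⊓ Cfsg.pCoreOf p L).subgroupOf Y := by
      ext y
      rw [MonoidHom.mem_ker, MonoidHom.comp_apply, QuotientGroup.mk'_apply,
        QuotientGroup.eq_one_iff, mem_subgroupOf, mem_subgroupOf, mem_inf]
      constructor
      · intro hy
        exact ⟨y.2, hy⟩
      · intro hy
        exact hy.2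
    have h1 := Subgroup.index_ker ψ
    rw [hrange, hker] at h1
    have h2 : Nat.card (Ybar.map ι) = Nat.card Ybar :=
      Nat.card_congr (Ybar.equivMapOfInjective ι hι).symm.toEquiv
    rw [h2, ← h1]
    rfl
  -- apply the uniqueness property
  have key : V.map ι = Ybar.map ι := by
    apply hum (Ybar.map ι) ι.range (V.map ι)
    · rintro _ ⟨y, hy, rfl⟩
      rw [← map_pow, hYbarE.2 y hy, map_one]
    · intro hcon
      apply hYbar1
      exact (Subgroup.map_eq_bot_iff_of_injective _ hι).mp hcon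
    · exact hcardY
    · rintro _ ⟨y, _, rfl⟩
      exact ⟨y, rfl⟩
    · rintro _ ⟨k, rfl⟩
      rw [mem_normalizer_iff]
      intro x
      constructor
      · rintro ⟨y, hy, rfl⟩
        refine ⟨k * y * k⁻¹, hYbarN.conj_mem y hy k, ?_⟩
        simp
      · rintro ⟨y, hy, hyx⟩
        refine ⟨k⁻¹ * y * k⁻¹⁻¹, hYbarN.conj_mem y hy k⁻¹, ?_⟩
        rw [map_mul, map_mul, hyx]
        simp [mul_assoc]
    · intro hcon
      obtain ⟨l, hlL, hlN⟩ := SetLike.exists_of_lt hlt
      have : (QuotientGroup.mk (⟨l, hlL⟩ : ↥L) : ↥L ⧸ Cfsg.pCore p ↥L) ∈ ι.range := by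
        rw [hcon]; exact mem_top _
      obtain ⟨x, hx⟩ := this
      induction x using QuotientGroup.induction_on with
      | H a =>
        rw [hι_mk, QuotientGroup.eq] at hx
        have h1 := hANL ((memA _).mpr hx)
        have h2 : ((incl a)⁻¹ * ⟨l, hlL⟩ : ↥L).1 = (a : G)⁻¹ * l := rfl
        rw [h2] at h1
        apply hlN
        have := NL.mul_mem a.2 h1
        rwa [mul_inv_cancel_left] at this
    · intro Xb hYX hX
      let X : Subgroup G := (Xb.comap (QuotientGroup.mk' (Cfsg.pCore p ↥L))).map L.subtype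
      have hXL : X ≤ L := by
        rintro _ ⟨x, _, rfl⟩
        exact x.2
      have hYX' : Y ≤ X := by
        intro y hy
        refine ⟨⟨y, hYL hy⟩, ?_, rfl⟩
        rw [SetLike.mem_coe, mem_comap]
        apply hYX
        refine ⟨QuotientGroup.mk ⟨y, hYNL hy⟩, mem_map.mpr ⟨⟨y, hYNL hy⟩, hy, rfl⟩, rfl⟩
      have hXne : X ≠ L := by
        intro hcon
        apply hX
        rw [eq_top_iff]
        intro x _
        induction x using QuotientGroup.induction_on with
        | H a =>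
          have : (a : G) ∈ X := by rw [hcon]; exact a.2
          obtain ⟨a', ha', haa⟩ := this
          have : a' = a := Subtype.ext haa
          rw [← this]
          exact mem_comap.mp ha'
      have hXNL : X ≤ NL := hmax X hYX' (lt_of_le_of_ne hXL hXne)
      intro x hx
      induction x using QuotientGroup.induction_on with
      | H a =>
        have haX : (a : G) ∈ X := ⟨a, mem_comap.mpr hx, rfl⟩
        exact ⟨QuotientGroup.mk ⟨a.1, hXNL haX⟩, rfl⟩
    · exact Subgroup.map_le_range _ _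
    · rintro _ ⟨k, rfl⟩
      rw [mem_normalizer_iff]
      intro x
      constructor
      · rintro ⟨y, hy, rfl⟩
        refine ⟨k * y * k⁻¹, hVn.conj_mem y hy k, ?_⟩
        simp
      · rintro ⟨y, hy, hyx⟩
        refine ⟨k⁻¹ * y * k⁻¹⁻¹, hVn.conj_mem y hy k⁻¹, ?_⟩
        rw [map_mul, map_mul, hyx]
        simp [mul_assoc]
    · rintro _ ⟨y, hy, rfl⟩
      rw [← map_pow, hVe.2 y hy, map_one]
    · intro hcon
      apply hV1
      exact (Subgroup.map_eq_bot_iff_of_injective _ hι).mp hcon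
  exact Subgroup.map_injective hι key

end Cfsg.Agent.Helper47.FLQ
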