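import Mathlib
import Cfsg.Agent.Lib.Helper14.GLIDefs

/-!
# GLI server (helper14, S5958): piece (ORBCOUNT) `orbit_count`
-/

set_option autoImplicit false

namespace Cfsg.Agent.Helper47.GLI

open Module Polynomial Cfsg.Agent.Helper14.GLI

section perm

variable {t : ℕ} (σ : Equiv.Perm (Fin t)) (r : ℕ)

/-- a moved point of a permutation with `σ ^ r = 1`, `r` prime, has trivial stabiliser in `ℤ/r` -/
theorem h47_free (hr : r.Prime) (hσr : σ ^ r = 1) (j : Fin t) (hj : σ j ≠ j) (m : ℕ)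
    (hm : (σ ^ m) j = j) : r ∣ m := by
  by_contra hnd
  have hcop : Nat.Coprime r m := (Nat.Prime.coprime_iff_not_dvd hr).mpr hnd
  have h1 : Function.IsPeriodicPt σ m j := by
    unfold Function.IsPeriodicPt Function.IsFixedPt
    rw [Equiv.Perm.iterate_eq_pow]; exact hm
  have h2 : Function.IsPeriodicPt σ r j := by
    unfold Function.IsPeriodicPt Function.IsFixedPt
    rw [Equiv.Perm.iterate_eq_pow, hσr]; rfl
  have h3 := h2.gcd h1
  rw [Nat.Coprime.gcd_eq_one hcop] at h3
  unfold Function.IsPeriodicPt at h3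
  rw [Function.iterate_one] at h3
  exact hj h3

/-- a fixed point is fixed by all powers -/
theorem h47_pow_fixed (k : Fin t) (hk : σ k = k) (m : ℕ) : (σ ^ m) k = k := by
  induction m with
  | zero => rfl
  | succ m ih => rw [pow_succ', Equiv.Perm.mul_apply, ih, hk]

/-- for `m, m' < r` and a moved point `j`: `σ^m j = σ^m' j → m = m'` -/
theorem h47_pow_inj (hr : r.Prime) (hσr : σ ^ r = 1) (j : Fin t) (hj : σ j ≠ j) (m m' : ℕ)
    (hm : m < r) (hm' : m' < r) (h : (σ ^ m) j = (σ ^ m') j) : m = m' := by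
  have h1 : (σ ^ (r - m' + m)) j = j := by
    rw [pow_add, Equiv.Perm.mul_apply, h, ← Equiv.Perm.mul_apply, ← pow_add,
      Nat.sub_add_cancel hm'.le, hσr]
    rfl
  have h2 := h47_free σ r hr hσr j hj _ h1
  obtain ⟨c, hc⟩ := h2
  have hc1 : c = 1 := by
    have h3 : 0 < c := by
      rcases Nat.eq_zero_or_pos c with h0 | h0
      · rw [h0] at hc; omega
      · exact h0
    have h4 : c < 2 := by
      by_contra h5
      have : 2 * r ≤ r * c := by nlinarith
      omega
    omega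
  rw [hc1] at hc
  omega

open Classical in
/-- orbit representatives of the moved points: the least element of each nontrivial orbit -/
noncomputable def h47_reps : Finset (Fin t) :=
  Finset.univ.filter (fun j => σ j ≠ j ∧ ∀ m : ℕ, j ≤ (σ ^ m) j)

theorem h47_mem_reps (j : Fin t) :
    j ∈ h47_reps σ ↔ σ j ≠ j ∧ ∀ m : ℕ, j ≤ (σ ^ m) j := by
  classical
  unfold h47_reps
  simp

theorem h47_rep_eq (hσr : σ ^ r = 1) (j j' : Fin t) (hj : j ∈ h47_reps σ)
    (hj' : j' ∈ h47_reps σ) (m m' : ℕ) (hm : m < r) (hm' : m' < r)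
    (h : (σ ^ m) j = (σ ^ m') j') : j = j' := by
  rw [h47_mem_reps] at hj hj'
  have h1 : (σ ^ (r - m' + m)) j = j' := by
    rw [pow_add, Equiv.Perm.mul_apply, h, ← Equiv.Perm.mul_apply, ← pow_add,
      Nat.sub_add_cancel hm'.le, hσr]
    rfl
  have h2 : (σ ^ (r - m + m')) j' = j := by
    rw [pow_add, Equiv.Perm.mul_apply, ← h, ← Equiv.Perm.mul_apply, ← pow_add,
      Nat.sub_add_cancel hm.le, hσr]
    rfl
  apply le_antisymm
  · rw [← h1]; exact hj.2 _
  · rw [← h2]; exact hj'.2 _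

theorem h47_exists_rep (hr : r.Prime) (hσr : σ ^ r = 1) (k : Fin t) (hk : σ k ≠ k) :
    ∃ j ∈ h47_reps σ, ∃ m : ℕ, m < r ∧ (σ ^ m) j = k := by
  classical
  have hr0 : 0 < r := hr.pos
  set S : Finset (Fin t) := Finset.image (fun n => (σ ^ n) k) (Finset.range r) with hS
  have hne : S.Nonempty := ⟨(σ ^ 0) k, Finset.mem_image.mpr ⟨0, Finset.mem_range.mpr hr0, rfl⟩⟩
  have hmem : ∀ n : ℕ, (σ ^ n) k ∈ S := by
    intro n
    rw [pow_eq_pow_mod n hσr]
    exact Finset.mem_image.mpr ⟨n % r, Finset.mem_range.mpr (Nat.mod_lt _ hr0), rfl⟩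
  obtain ⟨n0, hn0, hj⟩ := Finset.mem_image.mp (S.min'_mem hne)
  rw [Finset.mem_range] at hn0
  have hback : (σ ^ (r - n0)) (S.min' hne) = k := by
    rw [← hj, ← Equiv.Perm.mul_apply, ← pow_add, Nat.sub_add_cancel hn0.le, hσr]
    rfl
  refine ⟨S.min' hne, ?_, (r - n0) % r, Nat.mod_lt _ hr0, ?_⟩
  · rw [h47_mem_reps]
    constructor
    · intro hfix
      apply hk
      have h1 := h47_pow_fixed σ _ hfix (r - n0)
      rw [hback] at h1
      rw [h1]
      exact hfix
    · intro m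
      apply Finset.min'_le
      rw [← hj, ← Equiv.Perm.mul_apply, ← pow_add]
      exact hmem _
  · rw [← pow_eq_pow_mod _ hσr]
    exact hback

theorem h47_pow_moved (j : Fin t) (hj : σ j ≠ j) (m : ℕ) : σ ((σ ^ m) j) ≠ (σ ^ m) j := by
  intro h
  apply hj
  have h1 : σ ((σ ^ m) j) = (σ ^ m) (σ j) := by
    rw [← Equiv.Perm.mul_apply, ← Equiv.Perm.mul_apply, ← pow_succ', ← pow_succ]
  rw [h1] at h
  exact (σ ^ m).injective h

/-- the index map `(j, m) ↦ σ^m j` on representatives is injective -/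
theorem h47_index_inj (hr : r.Prime) (hσr : σ ^ r = 1) (j j' : Fin t) (hj : j ∈ h47_reps σ)
    (hj' : j' ∈ h47_reps σ) (m m' : ℕ) (hm : m < r) (hm' : m' < r)
    (h : (σ ^ m) j = (σ ^ m') j') : j = j' ∧ m = m' := by
  have h1 := h47_rep_eq σ r hσr j j' hj hj' m m' hm hm' h
  refine ⟨h1, ?_⟩
  subst h1
  exact h47_pow_inj σ r hr hσr j ((h47_mem_reps σ j).mp hj).1 m m' hm hm' h

theorem h47_card_moved (hr : r.Prime) (hσr : σ ^ r = 1) :
    (Finset.univ.filter (fun j => σ j ≠ j)).card = (h47_reps σ).card * r := by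
  classical
  let e : {j // j ∈ h47_reps σ} × Fin r → {k // σ k ≠ k} := fun p =>
    ⟨(σ ^ (p.2 : ℕ)) p.1.1, h47_pow_moved σ _ ((h47_mem_reps σ _).mp p.1.2).1 _⟩
  have hbij : Function.Bijective e := by
    constructor
    · rintro ⟨⟨j, hj⟩, m⟩ ⟨⟨j', hj'⟩, m'⟩ h
      have h1 : (σ ^ (m : ℕ)) j = (σ ^ (m' : ℕ)) j' := congrArg Subtype.val h
      obtain ⟨h2, h3⟩ := h47_index_inj σ r hr hσr j j' hj hj' m m' m.2 m'.2 h1
      subst h2
      have h4 : m = m' := Fin.ext h3
      subst h4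
      rfl
    · rintro ⟨k, hk⟩
      obtain ⟨j, hj, m, hm, hjk⟩ := h47_exists_rep σ r hr hσr k hk
      exact ⟨⟨⟨j, hj⟩, ⟨m, hm⟩⟩, Subtype.ext hjk⟩
  have h := Fintype.card_of_bijective hbij
  rw [Fintype.card_prod, Fintype.card_coe, Fintype.card_fin, Fintype.card_subtype] at h
  exact h.symm

end perm

/-- (ORBCOUNT) `N = ∑_{m<r} x^m` is injective on `⨁_{j ∈ J₀} D j`, `J₀` a set of representatives of
the `σ`-orbits (all nontrivial orbits have size `r`, since `σ ^ r = 1`), with image in the fixed space. -/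
theorem orbit_count {F V : Type*} [Field F] [AddCommGroup V] [Module F V]
    [FiniteDimensional F V] (x : V →ₗ[F] V) (r : ℕ) [Fact r.Prime] (hr0 : (r : F) ≠ 0)
    (hxr : x ^ r = 1)
    {t : ℕ} (a : ℕ) (ha : 0 < a) (D : Fin t → Submodule F V) (hDa : ∀ j, finrank F (D j) = a)
    (hind : iSupIndep D) (σ : Equiv.Perm (Fin t)) (hσ : ∀ j, (D j).map x = D (σ j))
    (htriv : ∀ j, σ j = j → ∀ v ∈ D j, x v = v) :
    ∃ s : ℕ, (Finset.univ.filter (fun j => σ j ≠ j)).card = s * r ∧
      a * (s + (Finset.univ.filter (fun j => σ j = j)).card) ≤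
        finrank F (LinearMap.ker (x - 1)) := by
  classical
  have hr : r.Prime := Fact.out
  have hDne : ∀ j, D j ≠ ⊥ := fun j h => by
    have := hDa j
    rw [h, finrank_bot] at this
    omega
  have hDinj : Function.Injective D := hind.injective hDne
  have hpow : ∀ m : ℕ, ∀ j, (D j).map (x ^ m) = D ((σ ^ m) j) := by
    intro m
    induction m with
    | zero =>
      intro j
      rw [pow_zero, pow_zero]
      exact Submodule.map_id _
    | succ m ih =>
      intro j
      rw [pow_succ', Module.End.mul_eq_comp, Submodule.map_comp, ih, hσ, pow_succ',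
        Equiv.Perm.mul_apply]
  have hσr : σ ^ r = 1 := by
    apply Equiv.ext
    intro j
    apply hDinj
    rw [← hpow, hxr]
    exact Submodule.map_id _
  have hmem : ∀ (m : ℕ) (j : Fin t) (v : V), v ∈ D j → (x ^ m) v ∈ D ((σ ^ m) j) := by
    intro m j v hv
    rw [← hpow]
    exact Submodule.mem_map_of_mem hv
  have hfixpow : ∀ k, σ k = k → ∀ v ∈ D k, ∀ m : ℕ, (x ^ m) v = v := by
    intro k hk v hv m
    induction m with
    | zero => rfl
    | succ m ih => rw [pow_succ', Module.End.mul_apply, ih, htriv k hk v hv]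
  refine ⟨(h47_reps σ).card, h47_card_moved σ r hr hσr, ?_⟩
  set N : V →ₗ[F] V := ∑ m : Fin r, x ^ (m : ℕ) with hN
  have hNfix : ∀ v, N v ∈ LinearMap.ker (x - 1) := by
    intro v
    have h0 : (x - 1) * N = 0 := by
      rw [hN, Fin.sum_univ_eq_sum_range (fun m => x ^ m) r, mul_geom_sum, hxr, sub_self]
    rw [LinearMap.mem_ker, ← Module.End.mul_apply, h0]
    rfl
  -- index types
  let e₀ : {j // j ∈ h47_reps σ} ⊕ {k // σ k = k} → Fin t := Sum.elim (fun j => j.1) (fun k => k.1)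
  let e : {j // j ∈ h47_reps σ} × Fin r ⊕ {k // σ k = k} → Fin t :=
    Sum.elim (fun p => (σ ^ (p.2 : ℕ)) p.1.1) (fun k => k.1)
  have he : Function.Injective e := by
    rintro (⟨⟨j, hj⟩, m⟩ | ⟨k, hk⟩) (⟨⟨j', hj'⟩, m'⟩ | ⟨k', hk'⟩) h
    · have h1 : (σ ^ (m : ℕ)) j = (σ ^ (m' : ℕ)) j' := h
      obtain ⟨h2, h3⟩ := h47_index_inj σ r hr hσr j j' hj hj' m m' m.2 m'.2 h1
      subst h2
      have h4 : m = m' := Fin.ext h3
      subst h4
      rfl
    · exfalso
      have h1 : (σ ^ (m : ℕ)) j = k' := h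
      exact h47_pow_moved σ j ((h47_mem_reps σ j).mp hj).1 m (by rw [h1]; exact hk')
    · exfalso
      have h1 : k = (σ ^ (m' : ℕ)) j' := h
      exact h47_pow_moved σ j' ((h47_mem_reps σ j').mp hj').1 m' (by rw [← h1]; exact hk)
    · have h1 : k = k' := h
      subst h1
      rfl
  have hind' : iSupIndep (D ∘ e) := hind.comp he
  -- the map
  let Ψ : (∀ i : {j // j ∈ h47_reps σ} ⊕ {k // σ k = k}, D (e₀ i)) →ₗ[F] V :=
    N ∘ₗ (∑ i, (D (e₀ i)).subtype ∘ₗ LinearMap.proj i)
  have hΨ : ∀ v, Ψ v = ∑ m : Fin r, ∑ i, (x ^ (m : ℕ)) (v i : V) := by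
    intro v
    simp only [Ψ, hN, LinearMap.comp_apply, LinearMap.sum_apply, LinearMap.proj_apply,
      Submodule.subtype_apply, map_sum]
    exact Finset.sum_comm
  let Φ : (∀ i : {j // j ∈ h47_reps σ} ⊕ {k // σ k = k}, D (e₀ i)) →ₗ[F]
      LinearMap.ker (x - 1) := LinearMap.codRestrict _ Ψ (fun v => hNfix _)
  have hΦinj : Function.Injective Φ := by
    rw [injective_iff_map_eq_zero]
    intro v hv
    have hv0 : Ψ v = 0 := congrArg Subtype.val hv
    -- the family `y`
    let y : {j // j ∈ h47_reps σ} × Fin r ⊕ {k // σ k = k} → V :=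
      Sum.elim (fun p => (x ^ (p.2 : ℕ)) (v (Sum.inl p.1) : V))
        (fun k => (r : F) • (v (Sum.inr k) : V))
    have hy : ∀ i, y i ∈ (D ∘ e) i := by
      rintro (⟨j, m⟩ | k)
      · exact hmem m j.1 _ (v (Sum.inl j)).2
      · exact Submodule.smul_mem _ _ (v (Sum.inr k)).2
    have hsum : ∑ i, y i = 0 := by
      rw [← hv0, hΨ, Fintype.sum_sum_type, Fintype.sum_prod_type, Finset.sum_comm]
      simp only [Fintype.sum_sum_type, Finset.sum_add_distrib]
      congr 1
      have h1 : ∀ (m : Fin r) (k : {k // σ k = k}),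
          (x ^ (m : ℕ)) (v (Sum.inr k) : V) = (v (Sum.inr k) : V) :=
        fun m k => hfixpow k.1 k.2 _ (v (Sum.inr k)).2 m
      simp only [y, Sum.elim_inr, h1]
      rw [Finset.sum_const, Finset.card_univ, Fintype.card_fin, ← Nat.cast_smul_eq_nsmul F,
        Finset.smul_sum]
    have hzero := (iSupIndep_iff_finsetSum_eq_zero_imp_eq_zero (D ∘ e)).mp hind' Finset.univ y
      (fun i _ => hy i) hsum
    funext i
    apply Subtype.ext
    rcases i with j | k
    · have := hzero (Sum.inl (j, ⟨0, hr.pos⟩)) (Finset.mem_univ _)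
      simpa [y] using this
    · have := hzero (Sum.inr k) (Finset.mem_univ _)
      simp only [y, Sum.elim_inr, smul_eq_zero] at this
      rcases this with h | h
      · exact absurd h hr0
      · exact h
  have hle := LinearMap.finrank_le_finrank_of_injective hΦinj
  rw [Module.finrank_pi_fintype] at hle
  simp only [hDa] at hle
  rw [Finset.sum_const, Finset.card_univ, Fintype.card_sum, Fintype.card_coe,
    Fintype.card_subtype, smul_eq_mul, mul_comm] at hle
  exact hle

end Cfsg.Agent.Helper47.GLI
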