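import Mathlib

/-!
# JPC lemma server (helper35, S4150), pieces (TR) `isPretransitive_closure_pair` and
(TR2) `isPretransitive_closure_pair'` (helper47)
-/

set_option autoImplicit false

namespace Cfsg.Agent.Helper47.JPC

open Equiv Equiv.Perm MulAction Subgroup

universe u

/-- if every point can be moved to `c` by an element of `H`, then `H` is transitive -/
theorem h47_tr_of_forall {Ω : Type u} (H : Subgroup (Perm Ω)) (c : Ω)
    (key : ∀ a : Ω, ∃ g ∈ H, g c = a) : IsPretransitive H Ω := by
  refine ⟨fun a b => ?_⟩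
  obtain ⟨ga, hgaH, hga⟩ := key a
  obtain ⟨gb, hgbH, hgb⟩ := key b
  refine ⟨⟨gb * ga⁻¹, H.mul_mem hgbH (H.inv_mem hgaH)⟩, ?_⟩
  show (gb * ga⁻¹) a = b
  rw [← hga, Perm.mul_apply]
  simp [hgb]

/-- (TR) two cycles with overlapping supports covering `Ω` generate a transitive group. -/
theorem isPretransitive_closure_pair {Ω : Type u} [Fintype Ω] [DecidableEq Ω] {x y : Perm Ω}
    (hx : x.IsCycle) (hy : y.IsCycle) (hun : x.support ∪ y.support = Finset.univ)
    (hmeet : ¬ Disjoint x.support y.support) :
    IsPretransitive (closure ({x, y} : Set (Perm Ω))) Ω := by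
  classical
  obtain ⟨c, hcx, hcy⟩ := Finset.not_disjoint_iff.mp hmeet
  have hxH : x ∈ closure ({x, y} : Set (Perm Ω)) := subset_closure (by simp)
  have hyH : y ∈ closure ({x, y} : Set (Perm Ω)) := subset_closure (by simp)
  apply h47_tr_of_forall _ c
  intro a
  have ha : a ∈ x.support ∪ y.support := by rw [hun]; exact Finset.mem_univ a
  rcases Finset.mem_union.mp ha with ha | ha
  · obtain ⟨i, hi⟩ := hx.exists_zpow_eq (mem_support.mp hcx) (mem_support.mp ha)
    exact ⟨x ^ i, Subgroup.zpow_mem _ hxH i, hi⟩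
  · obtain ⟨i, hi⟩ := hy.exists_zpow_eq (mem_support.mp hcy) (mem_support.mp ha)
    exact ⟨y ^ i, Subgroup.zpow_mem _ hyH i, hi⟩

/-- (TR2) a product of two `p`-cycles on `2p` points and a cycle of length `> p` generate a
transitive group. -/
theorem isPretransitive_closure_pair' {Ω : Type u} [Fintype Ω] [DecidableEq Ω] {p : ℕ}
    {x y : Perm Ω} (hxt : x.cycleType = {p, p}) (hcard : Fintype.card Ω = 2 * p)
    (hy : y.IsCycle) (hyq : p < y.support.card) :
    IsPretransitive (closure ({x, y} : Set (Perm Ω))) Ω := by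
  classical
  have hxH : x ∈ closure ({x, y} : Set (Perm Ω)) := subset_closure (by simp)
  have hyH : y ∈ closure ({x, y} : Set (Perm Ω)) := subset_closure (by simp)
  -- `x` has no fixed point
  have hsupp : x.support = Finset.univ := by
    apply Finset.eq_univ_of_card
    rw [← sum_cycleType, hxt, hcard]
    simp [two_mul]
  -- a base point in `y.support`
  obtain ⟨c0, hc0⟩ : y.support.Nonempty := by
    rw [← Finset.card_pos]; omega
  apply h47_tr_of_forall _ c0
  intro a
  have haS : a ∈ x.support := by rw [hsupp]; exact Finset.mem_univ a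
  -- the `x`-cycle through `a` has `p` points
  have hcyc : (x.cycleOf a).support.card = p := by
    have h1 : x.cycleOf a ∈ x.cycleFactorsFinset := cycleOf_mem_cycleFactorsFinset_iff.mpr haS
    have h2 : (x.cycleOf a).support.card ∈ x.cycleType := by
      rw [cycleType_def]
      exact Multiset.mem_map_of_mem (Finset.card ∘ support) h1
    rw [hxt] at h2
    simpa using h2
  -- some point of it lies in `y.support`
  obtain ⟨b, hbc, hby⟩ : ∃ b ∈ (x.cycleOf a).support, b ∈ y.support := by
    by_contra hcon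
    push Not at hcon
    have hsub : (x.cycleOf a).support ⊆ y.supportᶜ := by
      intro b hb
      rw [Finset.mem_compl]
      exact hcon b hb
    have h1 := Finset.card_le_card hsub
    have hp0 : 0 < p := by
      rw [← hcyc]
      exact Finset.card_pos.mpr ⟨a, mem_support_cycleOf_iff.mpr ⟨SameCycle.refl _ _, haS⟩⟩
    rw [Finset.card_compl, hcyc, hcard] at h1
    omega
  obtain ⟨hsame, -⟩ := mem_support_cycleOf_iff.mp hbc
  obtain ⟨i, hi⟩ := hsame
  obtain ⟨j, hj⟩ := hy.exists_zpow_eq (mem_support.mp hc0) (mem_support.mp hby)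
  -- `a = x^(-i) (y^j c0)`
  refine ⟨x ^ (-i) * y ^ j, Subgroup.mul_mem _ (Subgroup.zpow_mem _ hxH _) (Subgroup.zpow_mem _ hyH _), ?_⟩
  rw [Perm.mul_apply, hj, ← hi, ← Perm.mul_apply, ← zpow_add]
  simp

end Cfsg.Agent.Helper47.JPC
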