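import Mathlib
import Cfsg.Prelude.Def_LocalStructure
import Cfsg.Agent.Lib.Helper47.WC2

set_option autoImplicit false

namespace Cfsg.Agent.Helper47

open Cfsg Subgroup
open scoped commutatorElement Pointwise

variable {G : Type*} [Group G] {p : ℕ}

theorem wcu_subgroupOf {Q K : Subgroup G} (hU : WCU p Q) (hQK : Q ≤ K) : WCU p (Q.subgroupOf K) := by
  intro R hR k₁ k₂ h1 h2
  apply map_injective K.subtype_injective
  rw [map_subtype_cj, map_subtype_cj, map_subgroupOf_eq_of_le hQK]
  apply hU (R.map K.subtype) (hR.map _)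
  · have := map_mono (f := K.subtype) h1
    rwa [map_subtype_cj, map_subgroupOf_eq_of_le hQK] at this
  · have := map_mono (f := K.subtype) h2
    rwa [map_subtype_cj, map_subgroupOf_eq_of_le hQK] at this

theorem iSup_cj_normal (Q : Subgroup G) : (⨆ g : G, cj g Q).Normal := by
  rw [← normalizer_eq_top_iff, eq_top_iff]
  intro x _
  rw [← cj_eq_self_iff]
  show map (MulAut.conj x).toMonoidHom (⨆ g, cj g Q) = ⨆ g, cj g Q
  rw [Subgroup.map_iSup]
  apply le_antisymm
  · apply iSup_le
    intro g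
    show cj x (cj g Q) ≤ _
    rw [← cj_mul]
    exact le_iSup (fun g => cj g Q) (x * g)
  · apply iSup_le
    intro g
    have : cj g Q = cj x (cj (x⁻¹ * g) Q) := by rw [← cj_mul, mul_inv_cancel_left]
    rw [this]
    exact le_iSup (fun g => map (MulAut.conj x).toMonoidHom (cj g Q)) (x⁻¹ * g)

theorem le_iSup_cj (Q : Subgroup G) : Q ≤ ⨆ g : G, cj g Q := by
  have := le_iSup (fun g => cj g Q) (1 : G)
  simpa [cj_one] using this

theorem iSup_cj_le_of_isSubnormal [Finite G] [Fact p.Prime] {Q : Subgroup G} (hQp : IsPGroup p Q)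
    (hU : WCU p Q) {S : Subgroup G} (hS : S.IsSubnormal) (hQS : Q ≤ S) : (⨆ g : G, cj g Q) ≤ S := by
  induction hS with
  | top => exact le_top
  | step S S' hle hS' hn ih =>
    have h1 := ih (hQS.trans hle)
    apply iSup_le
    intro g
    have hg : cj g Q ≤ S' := (le_iSup (fun g => cj g Q) g).trans h1
    obtain ⟨s, hs, hgs⟩ := exists_cj_eq_of_wcu hQp hU S' (hQS.trans hle) g hg
    rw [hgs]
    have hsN : s ∈ normalizer (S : Set G) := (normal_subgroupOf_iff_le_normalizer hle).1 hn hs
    rw [← cj_eq_self_iff.2 hsN]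
    exact cj_mono hQS

theorem subnormalClosure_eq_iSup_cj [Finite G] [Fact p.Prime] {Q : Subgroup G} (hQp : IsPGroup p Q)
    (hU : WCU p Q) : subnormalClosure Q = ⨆ g : G, cj g Q := by
  apply le_antisymm
  · apply sInf_le
    exact ⟨le_iSup_cj Q, (iSup_cj_normal Q).isSubnormal⟩
  · apply le_sInf
    rintro S ⟨hQS, hS⟩
    exact iSup_cj_le_of_isSubnormal hQp hU hS hQS

end Cfsg.Agent.Helper47
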