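import Mathlib
import Cfsg.Prelude.Def_LocalStructure
import Cfsg.Agent.Lib.Helper47.WC3
import Cfsg.Agent.Lib.Helper47.Comm
import Cfsg.Agent.Lib.Helper47.MSSAsym6
import Cfsg.Agent.Lib.Helper23.Large

set_option autoImplicit false
set_option linter.unusedSectionVars false
set_option linter.style.haveILetI false

/-!
# Weak closures of a weakly closed `p`-subgroup and their `O^p`
-/

namespace Cfsg.Agent.Helper47

open Cfsg Subgroup
open scoped commutatorElement

variable {G : Type*} [Group G] {p : ℕ}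

theorem le_normalizer_of_cj_le {A Z : Subgroup G} (h : ∀ a ∈ A, cj a Z ≤ Z) :
    A ≤ normalizer (Z : Set G) := by
  intro a ha
  rw [← cj_eq_self_iff]
  apply le_antisymm (h a ha)
  have := cj_mono (a := a) (h a⁻¹ (A.inv_mem ha))
  rwa [cj_cj_inv] at this

theorem cj_le_commutator_sup {A B : Subgroup G} {a : G} (ha : a ∈ A) : cj a B ≤ ⁅A, B⁆ ⊔ B := by
  rintro _ ⟨b, hb, rfl⟩
  have : (MulAut.conj a).toMonoidHom b = ⁅a, b⁆ * b := by
    simp [commutatorElement_def]
  rw [this]
  exact mul_mem (mem_sup_left (commutator_mem_commutator ha hb)) (mem_sup_right hb)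

theorem normalizer_inf_le_normalizer_commutator (A B : Subgroup G) :
    normalizer (A : Set G) ⊓ normalizer (B : Set G) ≤ normalizer ((⁅A, B⁆ : Subgroup G) : Set G) := by
  rintro n ⟨hA, hB⟩
  rw [← cj_eq_self_iff]
  show map (MulAut.conj n).toMonoidHom ⁅A, B⁆ = ⁅A, B⁆
  rw [map_commutator]
  have h1 : map (MulAut.conj n).toMonoidHom A = A := cj_eq_self_iff.mpr hA
  have h2 : map (MulAut.conj n).toMonoidHom B = B := cj_eq_self_iff.mpr hB
  rw [h1, h2]

theorem left_le_normalizer_commutator' (A B : Subgroup G) :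
    A ≤ normalizer ((⁅A, B⁆ : Subgroup G) : Set G) := by
  rw [Subgroup.commutator_def, Subgroup.le_normalizer_closure_iff]
  rintro a ha _ ⟨a', ha', b, hb, rfl⟩
  have h1 : a * ⁅a', b⁆ * a⁻¹ = ⁅a * a', b⁆ * ⁅a, b⁆⁻¹ := by
    simp only [commutatorElement_def]; group
  rw [h1, ← Subgroup.commutator_def]
  exact Subgroup.mul_mem _ (Subgroup.commutator_mem_commutator (A.mul_mem ha ha') hb)
    (Subgroup.inv_mem _ (Subgroup.commutator_mem_commutator ha hb))

theorem right_le_normalizer_commutator' (A B : Subgroup G) :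
    B ≤ normalizer ((⁅A, B⁆ : Subgroup G) : Set G) := by
  rw [Subgroup.commutator_comm]
  exact left_le_normalizer_commutator' B A

theorem commutator_le_left_of_le_normalizer {A B : Subgroup G} (h : B ≤ normalizer (A : Set G)) :
    ⁅A, B⁆ ≤ A := le_normalizer_iff_commutator_le_left.1 h

theorem commutator_le_right_of_le_normalizer {A B : Subgroup G} (h : A ≤ normalizer (B : Set G)) :
    ⁅A, B⁆ ≤ B := le_normalizer_iff_commutator_le_right.1 h

theorem le_normalizer_sup {A Y Z : Subgroup G} (h1 : A ≤ normalizer (Y : Set G))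
    (h2 : A ≤ normalizer (Z : Set G)) : A ≤ normalizer ((Y ⊔ Z : Subgroup G) : Set G) := by
  apply le_normalizer_of_cj_le
  intro a ha
  rw [cj_sup, cj_eq_self_iff.mpr (h1 ha), cj_eq_self_iff.mpr (h2 ha)]

/-! ### `O^p` of subgroups -/

theorem pResOf_pResOf (X : Subgroup G) : pResOf p (pResOf p X) = pResOf p X := by
  apply le_antisymm (pResOf_le _)
  show (pResidual p ↥X).map X.subtype ≤ (pResidual p ↥(pResOf p X)).map (pResOf p X).subtype
  rw [map_pResidual_eq_closure, map_pResidual_eq_closure, closure_le]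
  rintro g ⟨hgX, hg⟩
  apply Subgroup.subset_closure
  refine ⟨?_, hg⟩
  show g ∈ (pResidual p ↥X).map X.subtype
  rw [map_pResidual_eq_closure]
  exact Subgroup.subset_closure ⟨hgX, hg⟩

theorem normalizer_le_normalizer_pResOf (X : Subgroup G) :
    normalizer (X : Set G) ≤ normalizer (pResOf p X : Set G) := by
  have key : ∀ n ∈ normalizer (X : Set G), cj n (pResOf p X) ≤ pResOf p X := by
    intro n hn
    show map (MulAut.conj n).toMonoidHom ((pResidual p ↥X).map X.subtype) ≤
      (pResidual p ↥X).map X.subtype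
    rw [map_pResidual_eq_closure, MonoidHom.map_closure, closure_le]
    rintro _ ⟨g, ⟨hgX, hg⟩, rfl⟩
    apply Subgroup.subset_closure
    refine ⟨?_, ?_⟩
    · have : (MulAut.conj n).toMonoidHom g ∈ cj n X := ⟨g, hgX, rfl⟩
      rwa [cj_eq_self_iff.mpr hn] at this
    · show (orderOf (MulAut.conj n g)).Coprime p
      rw [MulEquiv.orderOf_eq]; exact hg
  exact le_normalizer_of_cj_le key

theorem pResOf_sup_eq [Finite G] [Fact p.Prime] {N R : Subgroup G}
    (hRN : R ≤ normalizer (N : Set G)) (hR : IsPGroup p R) :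
    pResOf p (N ⊔ R) = pResOf p N := by
  apply le_antisymm
  · show (pResidual p ↥(N ⊔ R)).map (N ⊔ R).subtype ≤ (pResidual p ↥N).map N.subtype
    rw [map_pResidual_eq_closure, map_pResidual_eq_closure]
    apply Subgroup.closure_mono
    rintro g ⟨hg, hcop⟩
    exact ⟨mem_of_mem_sup_of_coprime hRN hR hg hcop, hcop⟩
  · exact map_pResidual_mono le_sup_left

theorem pResOf_le_of_le_sup [Finite G] [Fact p.Prime] {X N R : Subgroup G}
    (hRN : R ≤ normalizer (N : Set G)) (hR : IsPGroup p R) (hX : X ≤ N ⊔ R) :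
    pResOf p X ≤ N :=
  ((map_pResidual_mono hX).trans (pResOf_sup_eq hRN hR).le).trans (pResOf_le N)

/-! ### weak closures -/

theorem weakClosure_le (Q X : Subgroup G) : weakClosure Q X ≤ X :=
  iSup_le fun g => g.2

theorem cj_le_weakClosure {Q X : Subgroup G} {g : G} (h : cj g Q ≤ X) :
    cj g Q ≤ weakClosure Q X :=
  le_iSup (fun g : {g : G // Q.map (MulAut.conj g).toMonoidHom ≤ X} =>
    Q.map (MulAut.conj (g : G)).toMonoidHom) ⟨g, h⟩

theorem le_weakClosure {Q X : Subgroup G} (h : Q ≤ X) : Q ≤ weakClosure Q X := by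
  have := cj_le_weakClosure (Q := Q) (X := X) (g := 1) (by rw [cj_one]; exact h)
  rwa [cj_one] at this

theorem weakClosure_idem (Q X : Subgroup G) : weakClosure Q (weakClosure Q X) = weakClosure Q X := by
  apply le_antisymm (weakClosure_le _ _)
  apply iSup_le
  rintro ⟨g, hg⟩
  exact cj_le_weakClosure (cj_le_weakClosure hg)

theorem weakClosure_top (Q : Subgroup G) : weakClosure Q ⊤ = ⨆ g : G, cj g Q := by
  apply le_antisymm
  · apply iSup_le
    rintro ⟨g, _⟩
    exact le_iSup (fun g => cj g Q) g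
  · apply iSup_le
    intro g
    exact cj_le_weakClosure le_top

theorem normalizer_le_normalizer_weakClosure (Q X : Subgroup G) :
    normalizer (X : Set G) ≤ normalizer (weakClosure Q X : Set G) := by
  apply le_normalizer_of_cj_le
  intro n hn
  show map (MulAut.conj n).toMonoidHom (weakClosure Q X) ≤ weakClosure Q X
  unfold weakClosure
  rw [Subgroup.map_iSup]
  apply iSup_le
  rintro ⟨g, hg⟩
  show cj n (cj g Q) ≤ _
  rw [← cj_mul]
  apply cj_le_weakClosure
  rw [cj_mul, ← cj_eq_self_iff.mpr hn]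
  exact cj_mono hg

theorem weakClosure_eq_iSup [Finite G] [Fact p.Prime] {Q X : Subgroup G} (hQp : IsPGroup p Q)
    (hU : WCU p Q) (hQX : Q ≤ X) : weakClosure Q X = ⨆ x : X, cj (x : G) Q := by
  apply le_antisymm
  · apply iSup_le
    rintro ⟨g, hg⟩
    obtain ⟨k, hk, hgk⟩ := exists_cj_eq_of_wcu hQp hU X hQX g hg
    show cj g Q ≤ _
    rw [hgk]
    exact le_iSup (fun k : X => cj (k : G) Q) ⟨k, hk⟩
  · apply iSup_le
    intro k
    apply cj_le_weakClosure
    have := cj_mono (a := (k : G)) hQX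
    rwa [cj_eq_self_of_mem k.2] at this

theorem weakClosure_le_of_le_normalizer [Finite G] [Fact p.Prime] {Q X Z : Subgroup G}
    (hQp : IsPGroup p Q) (hU : WCU p Q) (hQX : Q ≤ X) (hQZ : Q ≤ Z)
    (hXZ : X ≤ normalizer (Z : Set G)) : weakClosure Q X ≤ Z := by
  rw [weakClosure_eq_iSup hQp hU hQX]
  apply iSup_le
  intro x
  rw [← cj_eq_self_iff.mpr (hXZ x.2)]
  exact cj_mono hQZ

/-! ### subgroups generated by their conjugates of `Q` -/

/-- `N = N_N(Q) O^p(N)` for a weakly closed `Q` normalizing `N` -/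
theorem inf_normalizer_sup_pResOf_eq [Finite G] [Fact p.Prime] {Q : Subgroup G}
    (hQp : IsPGroup p Q) (hA : WCA Q) {N : Subgroup G} (hQN : Q ≤ normalizer (N : Set G)) :
    (N ⊓ normalizer (Q : Set G)) ⊔ pResOf p N = N := by
  apply le_antisymm
  · exact sup_le inf_le_left (pResOf_le N)
  · intro n hn
    obtain ⟨T, hT⟩ := (hQp.comap_subtype (K := N ⊔ Q)).exists_le_sylow
    have h1 := sylow_sup_pResidual_eq_top T
    have h2 := congrArg (map (N ⊔ Q).subtype) h1
    rw [Subgroup.map_sup, ← MonoidHom.range_eq_map, range_subtype] at h2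
    have h3 : (pResidual p ↥(N ⊔ Q)).map (N ⊔ Q).subtype = pResOf p N := pResOf_sup_eq hQN hQp
    rw [h3] at h2
    have hnX : n ∈ (T : Subgroup ↥(N ⊔ Q)).map (N ⊔ Q).subtype ⊔ pResOf p N := by
      rw [h2]; exact le_sup_left (a := N) hn
    have hTN : (T : Subgroup ↥(N ⊔ Q)).map (N ⊔ Q).subtype ≤ normalizer (pResOf p N : Set G) := by
      rw [← h3]
      exact (map_subtype_le _).trans (le_normalizer_pResOf (N ⊔ Q))
    obtain ⟨t, ht, r, hr, rfl⟩ := Helper23.mem_sup_of_le_normalizer hTN hnX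
    have hQT' : Q ≤ (T : Subgroup ↥(N ⊔ Q)).map (N ⊔ Q).subtype := by
      intro q hq
      exact ⟨⟨q, le_sup_right (a := N) hq⟩,
        hT (show (⟨q, le_sup_right (a := N) hq⟩ : ↥(N ⊔ Q)) ∈ comap (N ⊔ Q).subtype Q from hq), rfl⟩
    have htN : t ∈ normalizer (Q : Set G) :=
      le_normalizer_of_wca hA _ (T.isPGroup'.map _) hQT' ht
    have hrN : r ∈ N := pResOf_le N hr
    have htN' : t ∈ N := by
      have : t = (t * r) * r⁻¹ := by group
      rw [this]; exact N.mul_mem hn (N.inv_mem hrN)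
    exact mul_mem (mem_sup_left ⟨htN', htN⟩) (mem_sup_right hr)

/-- a subgroup generated by its conjugates of `Q` is `O^p(L) Q` -/
theorem pResOf_sup_eq_of_weakClosure_eq [Finite G] [Fact p.Prime] {Q L : Subgroup G}
    (hQp : IsPGroup p Q) (hU : WCU p Q) (hQL : Q ≤ L) (hL : weakClosure Q L = L) :
    pResOf p L ⊔ Q = L := by
  apply le_antisymm (sup_le (pResOf_le L) hQL)
  have hA : WCA Q := wca_of_wcu hQp hU
  have h1 := inf_normalizer_sup_pResOf_eq hQp hA (hQL.trans le_normalizer)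
  have hLi : L ≤ ⨆ x : L, cj (x : G) Q := by rw [← weakClosure_eq_iSup hQp hU hQL, hL]
  refine hLi.trans (iSup_le ?_)
  rintro ⟨l, hl⟩
  have hl' : l ∈ (L ⊓ normalizer (Q : Set G)) ⊔ pResOf p L := by rw [h1]; exact hl
  have hN : L ⊓ normalizer (Q : Set G) ≤ normalizer (pResOf p L : Set G) :=
    inf_le_left.trans (le_normalizer_pResOf L)
  obtain ⟨n, hn, k, hk, rfl⟩ := Helper23.mem_sup_of_le_normalizer hN hl'
  show cj (n * k) Q ≤ _
  have h2 : cj (n * k) Q = cj (n * k * n⁻¹) Q := by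
    have : n * k = (n * k * n⁻¹) * n := by group
    rw [this, cj_mul, cj_eq_self_iff.mpr hn.2]
    congr 1; group
  rw [h2]
  have h3 : n * k * n⁻¹ ∈ pResOf p L := by
    have := (mem_normalizer_iff.mp (hN hn) k).mp hk
    exact this
  have h4 : cj (n * k * n⁻¹) (pResOf p L ⊔ Q) = pResOf p L ⊔ Q :=
    cj_eq_self_of_mem (mem_sup_left h3)
  rw [← h4]
  exact cj_mono le_sup_right

theorem pResOf_le_of_weakClosure_eq [Finite G] [Fact p.Prime] {Q L Y : Subgroup G}
    (hQp : IsPGroup p Q) (hU : WCU p Q) (hQL : Q ≤ L) (hL : weakClosure Q L = L)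
    (hQY : Q ≤ normalizer (Y : Set G)) (hLY : L ≤ normalizer ((Y ⊔ Q : Subgroup G) : Set G)) :
    pResOf p L ≤ Y := by
  have h1 : L ≤ Y ⊔ Q := by
    rw [← hL]
    exact weakClosure_le_of_le_normalizer hQp hU hQL le_sup_right hLY
  exact pResOf_le_of_le_sup hQY hQp h1

theorem commutator_pResOf_eq [Finite G] [Fact p.Prime] {Q L : Subgroup G}
    (hQp : IsPGroup p Q) (hU : WCU p Q) (hQL : Q ≤ L) (hL : weakClosure Q L = L) :
    ⁅pResOf p L, Q⁆ = pResOf p L := by
  have hQK : Q ≤ normalizer (pResOf p L : Set G) := hQL.trans (le_normalizer_pResOf L)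
  apply le_antisymm (commutator_le_left_of_le_normalizer hQK)
  have hQY : Q ≤ normalizer ((⁅pResOf p L, Q⁆ : Subgroup G) : Set G) :=
    (le_inf hQK le_normalizer).trans (normalizer_inf_le_normalizer_commutator _ _)
  apply pResOf_le_of_weakClosure_eq hQp hU hQL hL hQY
  have hLK : L ≤ pResOf p L ⊔ Q := (pResOf_sup_eq_of_weakClosure_eq hQp hU hQL hL).ge
  refine hLK.trans (sup_le ?_ ?_)
  · apply le_normalizer_of_cj_le
    intro k hk
    rw [cj_sup]
    apply sup_le
    · have : k ∈ normalizer ((⁅pResOf p L, Q⁆ : Subgroup G) : Set G) :=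
        left_le_normalizer_commutator' _ _ hk
      rw [cj_eq_self_iff.mpr this]
      exact le_sup_left
    · exact cj_le_commutator_sup hk
  · exact le_normalizer_sup hQY le_normalizer

end Cfsg.Agent.Helper47
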