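import Mathlib
import Cfsg.Prelude.Def_LocalStructure
import Cfsg.Agent.Lib.Helper47.WClos
import Cfsg.Agent.Lib.Helper62.LowerCentral

set_option autoImplicit false
set_option linter.unusedSectionVars false
set_option linter.style.haveILetI false

/-!
# The weak closure of `Q` in a product `H₁ H₂` with `[H₁, H₂] ≤ N(Q)`
-/

namespace Cfsg.Agent.Helper47

open Cfsg Subgroup
open scoped commutatorElement

variable {G : Type*} [Group G] {p : ℕ}

theorem le_normalizer_inf {A Y Z : Subgroup G} (h1 : A ≤ normalizer (Y : Set G))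
    (h2 : A ≤ normalizer (Z : Set G)) : A ≤ normalizer ((Y ⊓ Z : Subgroup G) : Set G) := by
  apply le_normalizer_of_cj_le
  intro a ha
  have h3 : cj a (Y ⊓ Z) ≤ cj a Y ⊓ cj a Z := le_inf (cj_mono inf_le_left) (cj_mono inf_le_right)
  rwa [cj_eq_self_iff.mpr (h1 ha), cj_eq_self_iff.mpr (h2 ha)] at h3

/-- the hypotheses -/
structure KData (p : ℕ) (Q Hc H₁ H₂ : Subgroup G) : Prop where
  hQp : IsPGroup p Q
  hU : WCU p Q
  hHc : Hc = weakClosure Q ⊤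
  h₁ : H₁ ≤ Hc
  n₁ : Hc ≤ normalizer (H₁ : Set G)
  h₂ : H₂ ≤ Hc
  n₂ : Hc ≤ normalizer (H₂ : Set G)
  hprod : H₁ ⊔ H₂ = Hc
  hcomm : ⁅H₁, H₂⁆ ≤ normalizer (Q : Set G)

/-- `K = O^p` of the weak closure of `Q` in `H₁ Q` -/
abbrev KK (p : ℕ) (Q H₁ : Subgroup G) : Subgroup G := pResOf p (weakClosure Q (H₁ ⊔ Q))

namespace KData

variable {Q Hc H₁ H₂ : Subgroup G}

theorem symm (d : KData p Q Hc H₁ H₂) : KData p Q Hc H₂ H₁ where
  hQp := d.hQp
  hU := d.hU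
  hHc := d.hHc
  h₁ := d.h₂
  n₁ := d.n₂
  h₂ := d.h₁
  n₂ := d.n₁
  hprod := by rw [sup_comm]; exact d.hprod
  hcomm := by rw [commutator_comm]; exact d.hcomm

theorem Hc_normal (d : KData p Q Hc H₁ H₂) : Hc.Normal := by
  rw [d.hHc, weakClosure_top]; exact iSup_cj_normal Q

theorem Q_le (d : KData p Q Hc H₁ H₂) : Q ≤ Hc := by
  rw [d.hHc]; exact le_weakClosure le_top

theorem Hc_idem (d : KData p Q Hc H₁ H₂) : weakClosure Q Hc = Hc := by
  rw [d.hHc]; exact weakClosure_idem Q ⊤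

variable [Finite G] [Fact p.Prime]

theorem P_normal (d : KData p Q Hc H₁ H₂) : (pCoreOf p Hc).Normal := by
  haveI := d.Hc_normal
  rw [← normalizer_eq_top_iff, eq_top_iff]
  refine le_trans ?_ (normalizer_le_normalizer_pCoreOf Hc)
  rw [normalizer_eq_top_iff.mpr d.Hc_normal]

theorem le_normalizer_D (d : KData p Q Hc H₁ H₂) :
    Hc ≤ normalizer ((⁅H₁, H₂⁆ : Subgroup G) : Set G) :=
  (le_inf d.n₁ d.n₂).trans (normalizer_inf_le_normalizer_commutator _ _)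

theorem D_le (d : KData p Q Hc H₁ H₂) : ⁅H₁, H₂⁆ ≤ Hc :=
  (commutator_le_left_of_le_normalizer (d.h₂.trans d.n₁)).trans d.h₁

theorem comm_D_le (d : KData p Q Hc H₁ H₂) : ⁅⁅H₁, H₂⁆, Hc⁆ ≤ pCoreOf p Hc := by
  obtain ⟨D, hD⟩ : ∃ D : Subgroup G, D = ⁅H₁, H₂⁆ := ⟨_, rfl⟩
  rw [← hD]
  have hDn : Hc ≤ normalizer (D : Set G) := hD ▸ d.le_normalizer_D
  have hDle : D ≤ Hc := hD ▸ d.D_le
  have hDQ : D ≤ normalizer (Q : Set G) := hD ▸ d.hcomm
  have hOn : Hc ≤ normalizer (pCoreOf p D : Set G) :=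
    hDn.trans (normalizer_le_normalizer_pCoreOf D)
  have hO : pCoreOf p D ≤ pCoreOf p Hc :=
    le_pCoreOf ((Helper48.pCoreOf_le D).trans hDle) hOn (Helper48.isPGroup_pCoreOf D)
  refine le_trans ?_ hO
  have hHi : Hc ≤ ⨆ x : Hc, cj (x : G) Q := by
    rw [← weakClosure_eq_iSup d.hQp d.hU d.Q_le, d.Hc_idem]
  refine (commutator_mono le_rfl hHi).trans ?_
  refine (commutator_mono le_rfl (iSup_le fun x => ?_)).trans (commutator_commStab_le D (pCoreOf p D))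
  have hx : cj (x : G) Q ≤ Hc := by
    have := cj_mono (a := (x : G)) d.Q_le
    rwa [cj_eq_self_of_mem x.2] at this
  have hDx : D ≤ normalizer ((cj (x : G) Q : Subgroup G) : Set G) := by
    rw [normalizer_cj, ← cj_eq_self_iff.mpr (hDn x.2)]
    exact cj_mono hDQ
  apply le_commStab (hx.trans hOn)
  refine (commutator_le_inf_of_normalizers (hx.trans hDn) hDx).trans ?_
  exact le_pCoreOf inf_le_left (le_normalizer_inf le_normalizer hDx)
    ((cj_isPGroup d.hQp).to_le inf_le_right)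

theorem le_normalizer_derived (d : KData p Q Hc H₁ H₂) :
    Hc ≤ normalizer ((⁅H₁, H₁⁆ : Subgroup G) : Set G) :=
  (le_inf d.n₁ d.n₁).trans (normalizer_inf_le_normalizer_commutator _ _)

theorem Q_le_X (Q H₁ : Subgroup G) : Q ≤ H₁ ⊔ Q := le_sup_right

theorem X_le (d : KData p Q Hc H₁ H₂) : H₁ ⊔ Q ≤ Hc := sup_le d.h₁ d.Q_le

theorem Q_le_L (Q H₁ : Subgroup G) : Q ≤ weakClosure Q (H₁ ⊔ Q) := le_weakClosure le_sup_right

theorem K_le_derived (d : KData p Q Hc H₁ H₂) : KK p Q H₁ ≤ ⁅H₁, H₁⁆ := by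
  obtain ⟨D, hD⟩ : ∃ D : Subgroup G, D = ⁅H₁, H₂⁆ := ⟨_, rfl⟩
  obtain ⟨H', hH'⟩ : ∃ H' : Subgroup G, H' = ⁅H₁, H₁⁆ := ⟨_, rfl⟩
  rw [← hH']
  have hDn : Hc ≤ normalizer (D : Set G) := hD ▸ d.le_normalizer_D
  have hDQ : D ≤ normalizer (Q : Set G) := hD ▸ d.hcomm
  have hDle : D ≤ Hc := hD ▸ d.D_le
  have hH'n : Hc ≤ normalizer (H' : Set G) := hH' ▸ d.le_normalizer_derived
  have hUn : Hc ≤ normalizer ((H' ⊔ D : Subgroup G) : Set G) := le_normalizer_sup hH'n hDn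
  -- `[H₁, Q] ≤ H₁' D`
  have h1 : ⁅H₁, Q⁆ ≤ H' ⊔ D := by
    refine (commutator_mono le_rfl d.Q_le).trans ?_
    rw [← d.hprod]
    exact commutator_sup_right_le (hH' ▸ le_sup_left) (hD ▸ le_sup_right) (d.h₁.trans hUn)
      (d.h₂.trans hUn)
  -- `Z = H₁' D Q` is normalized by `H₁ Q`
  have hZ : H₁ ⊔ Q ≤ normalizer (((H' ⊔ D) ⊔ Q : Subgroup G) : Set G) := by
    apply sup_le
    · apply le_normalizer_of_cj_le
      intro h hh
      rw [cj_sup, cj_eq_self_iff.mpr (hUn (d.h₁ hh))]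
      apply sup_le le_sup_left
      exact (cj_le_commutator_sup hh).trans (sup_le (h1.trans le_sup_left) le_sup_right)
    · exact le_normalizer_sup (d.Q_le.trans hUn) le_normalizer
  have hLZ : weakClosure Q (H₁ ⊔ Q) ≤ (H' ⊔ D) ⊔ Q :=
    weakClosure_le_of_le_normalizer d.hQp d.hU le_sup_right le_sup_right hZ
  have hZn : (H' ⊔ D) ⊔ Q ≤ normalizer ((H' ⊔ Q : Subgroup G) : Set G) := by
    refine sup_le (sup_le ?_ ?_) ?_
    · exact le_sup_left.trans le_normalizer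
    · exact le_normalizer_sup (hDle.trans hH'n) hDQ
    · exact le_sup_right.trans le_normalizer
  exact pResOf_le_of_weakClosure_eq d.hQp d.hU (Q_le_L Q H₁) (weakClosure_idem _ _)
    (d.Q_le.trans hH'n) (hLZ.trans hZn)

theorem K_le (d : KData p Q Hc H₁ H₂) : KK p Q H₁ ≤ H₁ :=
  d.K_le_derived.trans (commutator_le_left_of_le_normalizer le_normalizer)

theorem derived_comm_le (d : KData p Q Hc H₁ H₂) : ⁅⁅H₁, H₁⁆, H₂⁆ ≤ pCoreOf p Hc := by
  haveI := d.P_normal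
  apply Helper62.three_subgroups_le
  · exact (commutator_mono le_rfl d.h₁).trans d.comm_D_le
  · rw [commutator_comm H₂ H₁]
    exact (commutator_mono le_rfl d.h₁).trans d.comm_D_le

theorem comm_K_K (d : KData p Q Hc H₁ H₂) : ⁅KK p Q H₁, KK p Q H₂⁆ ≤ pCoreOf p Hc :=
  (commutator_mono d.K_le_derived d.symm.K_le).trans d.derived_comm_le

theorem comm_K_Q (d : KData p Q Hc H₁ H₂) : ⁅KK p Q H₁, Q⁆ = KK p Q H₁ :=
  commutator_pResOf_eq d.hQp d.hU (Q_le_L Q H₁) (weakClosure_idem _ _)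

theorem X_le_normalizer_K (Q H₁ : Subgroup G) : H₁ ⊔ Q ≤ normalizer (KK p Q H₁ : Set G) :=
  (le_normalizer.trans (normalizer_le_normalizer_weakClosure Q (H₁ ⊔ Q))).trans
    (normalizer_le_normalizer_pResOf _)

theorem comm_K_H₂_le (d : KData p Q Hc H₁ H₂) : ⁅KK p Q H₁, H₂⁆ ≤ pCoreOf p Hc ⊓ H₁ :=
  le_inf ((commutator_mono d.K_le_derived le_rfl).trans d.derived_comm_le)
    ((commutator_mono d.K_le le_rfl).trans (commutator_le_left_of_le_normalizer (d.h₂.trans d.n₁)))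

theorem K_normal (d : KData p Q Hc H₁ H₂) : Hc ≤ normalizer (KK p Q H₁ : Set G) := by
  obtain ⟨K, hK⟩ : ∃ K : Subgroup G, K = KK p Q H₁ := ⟨_, rfl⟩
  obtain ⟨P₁, hP₁⟩ : ∃ P₁ : Subgroup G, P₁ = pCoreOf p Hc ⊓ H₁ := ⟨_, rfl⟩
  rw [← hK]
  haveI := d.P_normal
  have hPn : Hc ≤ normalizer (P₁ : Set G) := by
    rw [hP₁]
    refine le_normalizer_inf ?_ d.n₁
    rw [normalizer_eq_top_iff.mpr d.P_normal]; exact le_top
  have hP₁p : IsPGroup p P₁ := by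
    rw [hP₁]; exact (Helper48.isPGroup_pCoreOf Hc).to_le inf_le_left
  have hH₁K : H₁ ≤ normalizer (K : Set G) := hK ▸ le_sup_left.trans (X_le_normalizer_K Q H₁)
  have hP₁K : P₁ ≤ normalizer (K : Set G) := by
    rw [hP₁]; exact inf_le_right.trans hH₁K
  have hR : ⁅K, H₂⁆ ≤ P₁ := by rw [hK, hP₁]; exact d.comm_K_H₂_le
  have hJ : pResOf p (K ⊔ P₁) = K := by
    rw [pResOf_sup_eq hP₁K hP₁p, hK]
    exact pResOf_pResOf _
  have hHJ : Hc ≤ normalizer ((K ⊔ P₁ : Subgroup G) : Set G) := by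
    rw [← d.hprod]
    apply sup_le
    · exact le_normalizer_sup hH₁K (d.h₁.trans hPn)
    · apply le_normalizer_of_cj_le
      intro h hh
      rw [cj_sup, cj_eq_self_iff.mpr (hPn (d.h₂ hh))]
      apply sup_le _ le_sup_right
      refine (cj_le_commutator_sup hh).trans (sup_le ?_ le_sup_left)
      rw [commutator_comm]
      exact hR.trans le_sup_right
  have := hHJ.trans (normalizer_le_normalizer_pResOf (p := p) (K ⊔ P₁))
  rwa [hJ] at this

theorem comm_K_H (d : KData p Q Hc H₁ H₂) : ⁅KK p Q H₁, H₁⁆ = KK p Q H₁ := by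
  obtain ⟨K, hK⟩ : ∃ K : Subgroup G, K = KK p Q H₁ := ⟨_, rfl⟩
  rw [← hK]
  have hKn : Hc ≤ normalizer (K : Set G) := hK ▸ d.K_normal
  apply le_antisymm (commutator_le_left_of_le_normalizer (d.h₁.trans hKn))
  have hWn : Hc ≤ normalizer ((⁅K, H₁⁆ : Subgroup G) : Set G) :=
    (le_inf hKn d.n₁).trans (normalizer_inf_le_normalizer_commutator _ _)
  have hRn : Hc ≤ normalizer ((⁅K, H₂⁆ : Subgroup G) : Set G) :=
    (le_inf hKn d.n₂).trans (normalizer_inf_le_normalizer_commutator _ _)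
  have hUn := le_normalizer_sup hWn hRn
  have h1 : K ≤ ⁅K, H₁⁆ ⊔ ⁅K, H₂⁆ := by
    have hKQ : ⁅K, Q⁆ = K := hK ▸ d.comm_K_Q
    calc K = ⁅K, Q⁆ := hKQ.symm
      _ ≤ ⁅K, Hc⁆ := commutator_mono le_rfl d.Q_le
      _ = ⁅K, H₁ ⊔ H₂⁆ := by rw [d.hprod]
      _ ≤ ⁅K, H₁⁆ ⊔ ⁅K, H₂⁆ :=
        commutator_sup_right_le le_sup_left le_sup_right (d.h₁.trans hUn) (d.h₂.trans hUn)
  have hRle : ⁅K, H₂⁆ ≤ pCoreOf p Hc ⊓ H₁ := hK ▸ d.comm_K_H₂_le
  have hRp : IsPGroup p (⁅K, H₂⁆ : Subgroup G) :=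
    (Helper48.isPGroup_pCoreOf Hc).to_le (hRle.trans inf_le_left)
  have hRHc : ⁅K, H₂⁆ ≤ Hc := hRle.trans (inf_le_right.trans d.h₁)
  have h2 := pResOf_le_of_le_sup (hRHc.trans hWn) hRp h1
  have h3 : pResOf p K = K := by rw [hK]; exact pResOf_pResOf _
  rwa [h3] at h2

theorem K_le_pResOf (d : KData p Q Hc H₁ H₂) : KK p Q H₁ ≤ pResOf p Hc :=
  map_pResidual_mono ((weakClosure_le _ _).trans d.X_le)

theorem cj_le_of_mem (d : KData p Q Hc H₁ H₂) {h : G} (hh : h ∈ H₁) :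
    cj h Q ≤ KK p Q H₁ ⊔ Q := by
  have h1 : cj h Q ≤ weakClosure Q (H₁ ⊔ Q) := by
    apply cj_le_weakClosure
    have := cj_mono (a := h) (Q_le_X Q H₁)
    rwa [cj_eq_self_of_mem (mem_sup_left hh)] at this
  exact h1.trans (pResOf_sup_eq_of_weakClosure_eq d.hQp d.hU (Q_le_L Q H₁) (weakClosure_idem _ _)).ge

theorem K_sup (d : KData p Q Hc H₁ H₂) : KK p Q H₁ ⊔ KK p Q H₂ = pResOf p Hc := by
  apply le_antisymm (sup_le d.K_le_pResOf d.symm.K_le_pResOf)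
  have hYn : Hc ≤ normalizer ((KK p Q H₁ ⊔ KK p Q H₂ : Subgroup G) : Set G) :=
    le_normalizer_sup d.K_normal d.symm.K_normal
  apply pResOf_le_of_weakClosure_eq d.hQp d.hU d.Q_le d.Hc_idem (d.Q_le.trans hYn)
  rw [← d.hprod]
  apply sup_le
  · apply le_normalizer_of_cj_le
    intro h hh
    rw [cj_sup, cj_eq_self_iff.mpr (hYn (d.h₁ hh))]
    apply sup_le le_sup_left
    exact (d.cj_le_of_mem hh).trans (sup_le_sup_right le_sup_left _)
  · apply le_normalizer_of_cj_le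
    intro h hh
    rw [cj_sup, cj_eq_self_iff.mpr (hYn (d.h₂ hh))]
    apply sup_le le_sup_left
    exact (d.symm.cj_le_of_mem hh).trans (sup_le_sup_right le_sup_right _)

end KData

end Cfsg.Agent.Helper47
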