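import Mathlib
import Cfsg.Prelude.Def_LocalStructure
import Cfsg.Agent.Lib.Helper47.WClos
import Cfsg.Agent.Lib.Helper47.WClos2
import Cfsg.Agent.Lib.Helper47.Minimal
import Cfsg.Agent.Lib.Helper47.Basic
import Cfsg.Agent.Lib.Helper50.SubnormalSylow

set_option autoImplicit false
set_option linter.unusedSectionVars false
set_option linter.style.haveILetI false

/-!
# `p`-minimality of a group generated by a transitive family of `p`-minimal subgroups
-/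

namespace Cfsg.Agent.Helper47

open Cfsg Subgroup

variable {H : Type*} [Group H] {p : ℕ}

/-- `Y` is the largest proper subgroup of `E` containing `S` -/
def IsUM (S E Y : Subgroup H) : Prop := S ≤ Y ∧ Y < E ∧ ∀ X : Subgroup H, S ≤ X → X < E → X ≤ Y

theorem IsUM.unique {S E Y Y' : Subgroup H} (h : IsUM S E Y) (h' : IsUM S E Y') : Y = Y' :=
  le_antisymm (h'.2.2 Y h.1 h.2.1) (h.2.2 Y' h'.1 h'.2.1)

theorem cj_lt_cj {g : H} {A B : Subgroup H} (h : A < B) : cj g A < cj g B := by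
  rw [lt_iff_le_not_ge] at h ⊢
  refine ⟨cj_mono h.1, fun h2 => h.2 ?_⟩
  rw [cj_le_iff, cj_inv_cj] at h2
  exact h2

theorem IsUM.cj {S E Y : Subgroup H} (h : IsUM S E Y) (g : H) :
    IsUM (cj g S) (cj g E) (cj g Y) := by
  refine ⟨cj_mono h.1, cj_lt_cj h.2.1, fun X hSX hXE => ?_⟩
  have h1 : S ≤ Helper47.cj g⁻¹ X := cj_le_iff.mp hSX
  have h2 : Helper47.cj g⁻¹ X < E := by
    have := cj_lt_cj (g := g⁻¹) hXE
    rwa [cj_inv_cj] at this
  have h3 := cj_mono (a := g) (h.2.2 _ h1 h2)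
  rwa [cj_cj_inv] at h3

theorem isUM_of_existsUnique_coatom [Finite H] {E : Subgroup H} {Y : Subgroup ↥E}
    (h : ∃! M : Subgroup ↥E, IsCoatom M ∧ Y ≤ M) :
    ∃ M : Subgroup H, IsUM (Y.map E.subtype) E M := by
  obtain ⟨M, ⟨hMc, hYM⟩, hu⟩ := h
  refine ⟨M.map E.subtype, map_mono hYM, ?_, ?_⟩
  · rw [lt_iff_le_not_ge]
    refine ⟨map_subtype_le M, fun h2 => hMc.1 ?_⟩
    rw [eq_top_iff]
    intro e _
    obtain ⟨m, hm, hme⟩ := h2 e.2
    have : m = e := Subtype.ext hme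
    rw [← this]; exact hm
  · intro X hYX hXE
    have hX' : X.subgroupOf E ≠ ⊤ := by
      intro h2
      rw [subgroupOf_eq_top] at h2
      exact (lt_iff_le_not_ge.mp hXE).2 h2
    obtain h3 | ⟨C, hC, hXC⟩ := eq_top_or_exists_le_coatom (X.subgroupOf E)
    · exact absurd h3 hX'
    · have hYC : Y ≤ C := by
        refine le_trans ?_ hXC
        intro y hy
        rw [mem_subgroupOf]
        exact hYX ⟨y, hy, rfl⟩
      have hCM : C = M := hu C ⟨hC, hYC⟩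
      rw [hCM] at hXC
      intro x hx
      exact ⟨⟨x, hXE.le hx⟩, hXC (mem_subgroupOf.mpr hx), rfl⟩

/-- passing from `E` to `E P` for a normal `p`-subgroup `P` -/
theorem isUM_sup {E P S Y M : Subgroup H} (hP : P.Normal) (hPS : P ≤ S) (hSE : S ≤ E ⊔ P)
    (hYS : Y ≤ S) (hYE : Y ≤ E) (hM : IsUM Y E M) (hSp : IsPGroup p S) (hEnp : ¬ IsPGroup p E) :
    IsUM S (E ⊔ P) (M ⊔ P) := by
  have hEP : E ≤ normalizer (P : Set H) := by rw [normalizer_eq_top_iff.mpr hP]; exact le_top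
  have hSM : S ⊓ E ≤ M := by
    apply hM.2.2 _ (le_inf hYS hYE)
    rw [lt_iff_le_not_ge]
    exact ⟨inf_le_right, fun h2 => hEnp (hSp.to_le (h2.trans inf_le_left))⟩
  refine ⟨?_, ?_, ?_⟩
  · exact (le_inf_sup_of_le_sup hPS hSE hEP).trans (sup_le_sup_right hSM P)
  · rw [lt_iff_le_not_ge]
    refine ⟨sup_le_sup_right hM.2.1.le P, fun h2 => (lt_iff_le_not_ge.mp hM.2.1).2 ?_⟩
    intro e he
    have he' : e ∈ M ⊔ P := h2 (mem_sup_left he)
    haveI := hP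
    obtain ⟨m, hm, u, hu, rfl⟩ := mem_sup_of_normal_right.mp he'
    have hmE : m ∈ E := hM.2.1.le hm
    have huE : u ∈ E := by
      have := E.mul_mem (E.inv_mem hmE) he
      rwa [inv_mul_cancel_left] at this
    exact M.mul_mem hm (hSM ⟨hPS hu, huE⟩)
  · intro X hSX hXE
    have h1 : X ⊓ E ≤ M := by
      apply hM.2.2 _ (le_inf (hYS.trans hSX) hYE)
      rw [lt_iff_le_not_ge]
      refine ⟨inf_le_right, fun h2 => (lt_iff_le_not_ge.mp hXE).2 ?_⟩
      exact sup_le (h2.trans inf_le_left) (hPS.trans hSX)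
    exact (le_inf_sup_of_le_sup (hPS.trans hSX) hXE.le hEP).trans (sup_le_sup_right h1 P)

/-- a Sylow subgroup of `E` inside `T ∩ E P`, for `E P` subnormal -/
theorem exists_sylow_map_le [Finite H] [Fact p.Prime] {E P : Subgroup H} (T : Sylow p H)
    (hPn : P.Normal) (hPp : IsPGroup p P) (hsub : (E ⊔ P).IsSubnormal) :
    ∃ T_E : Sylow p ↥E, (T_E : Subgroup ↥E).map E.subtype ≤ (T : Subgroup H) ⊓ (E ⊔ P) := by
  have hcard := Helper50.card_inf_sylow_of_isSubnormal T hsub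
  obtain ⟨S', hS'⟩ := exists_sylow_map_eq_of_card (p := p) (T1 := (E ⊔ P) ⊓ (T : Subgroup H))
    (H := E ⊔ P) inf_le_left hcard
  have hPT : P ≤ (T : Subgroup H) := hPp.le_sylow_of_normal T
  have T₀ : Sylow p ↥E := default
  have hR₀ : IsPGroup p ((T₀ : Subgroup ↥E).map E.subtype) := T₀.isPGroup'.map _
  have hR₀E : (T₀ : Subgroup ↥E).map E.subtype ≤ E ⊔ P := (map_subtype_le _).trans le_sup_left
  obtain ⟨k, hk, hle⟩ := exists_le_cj_sylow_of_le (E ⊔ P) S' hR₀ hR₀E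
  rw [hS'] at hle
  haveI := hPn
  obtain ⟨e, he, u, hu, rfl⟩ := mem_sup_of_normal_right.mp hk
  have h1 : cj (e * u) ((E ⊔ P) ⊓ (T : Subgroup H)) = cj e ((E ⊔ P) ⊓ (T : Subgroup H)) := by
    rw [cj_mul, cj_eq_self_of_mem (show u ∈ (E ⊔ P) ⊓ (T : Subgroup H) from ⟨mem_sup_right hu, hPT hu⟩)]
  rw [h1] at hle
  have hle' : cj e⁻¹ ((T₀ : Subgroup ↥E).map E.subtype) ≤ (E ⊔ P) ⊓ (T : Subgroup H) := by
    rw [cj_le_iff, inv_inv]; exact hle
  refine ⟨(⟨e, he⟩ : ↥E)⁻¹ • T₀, ?_⟩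
  rw [sylow_smul_coe, map_subtype_cj, inf_comm]
  exact hle'

/-- the hypotheses on the family `𝒦` -/
structure Fam (p : ℕ) (𝒦 : Set (Subgroup H)) : Prop where
  hne : 𝒦.Nonempty
  hinv : ∀ h : H, ∀ E ∈ 𝒦, cj h E ∈ 𝒦
  htr : ∀ E ∈ 𝒦, ∀ K ∈ 𝒦, ∃ h : H, K = cj h E
  hres : pResidual p H ≤ sSup 𝒦
  hnorm : ∀ E ∈ 𝒦, sSup 𝒦 ⊔ pCore p H ≤ normalizer ((E ⊔ pCore p H : Subgroup H) : Set H)

theorem pCore_normal'' (p : ℕ) (H : Type*) [Group H] : (pCore p H).Normal :=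
  Subgroup.sSup_normal _ (fun _ h => h.1)

theorem cj_eq_self_of_normal {N : Subgroup H} (hN : N.Normal) (g : H) : cj g N = N :=
  cj_eq_self_iff.mpr (by rw [normalizer_eq_top_iff.mpr hN]; exact mem_top g)

theorem cj_inf (g : H) (A B : Subgroup H) : cj g (A ⊓ B) = cj g A ⊓ cj g B :=
  Subgroup.map_inf A B _ (MulAut.conj g).injective

namespace Fam

variable {𝒦 : Set (Subgroup H)}

theorem R_normal (F : Fam p 𝒦) : (sSup 𝒦).Normal := by
  rw [← normalizer_eq_top_iff, eq_top_iff]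
  refine le_trans ?_ (le_normalizer_of_cj_le (A := ⊤) (Z := sSup 𝒦) ?_)
  · exact le_rfl
  · intro a _
    rw [cj_le_iff]
    apply sSup_le
    intro E hE
    rw [← cj_le_iff]
    exact le_sSup (F.hinv a E hE)

theorem RP_normal (F : Fam p 𝒦) : (sSup 𝒦 ⊔ pCore p H).Normal := by
  haveI := F.R_normal
  haveI := pCore_normal'' p H
  exact Subgroup.sup_normal _ _

theorem cj_Ehat (g : H) (E : Subgroup H) : cj g (E ⊔ pCore p H) = cj g E ⊔ pCore p H := by
  rw [cj_sup, cj_eq_self_of_normal (pCore_normal'' p H)]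

theorem Ehat_le (_F : Fam p 𝒦) {E : Subgroup H} (hE : E ∈ 𝒦) :
    E ⊔ pCore p H ≤ sSup 𝒦 ⊔ pCore p H := sup_le_sup_right (le_sSup hE) _

theorem Ehat_subnormal (F : Fam p 𝒦) {E : Subgroup H} (hE : E ∈ 𝒦) :
    (E ⊔ pCore p H).IsSubnormal :=
  IsSubnormal.step _ _ (F.Ehat_le hE) F.RP_normal.isSubnormal
    ((normal_subgroupOf_iff_le_normalizer (F.Ehat_le hE)).2 (F.hnorm E hE))

variable [Finite H] [Fact p.Prime]

theorem RP_sup_T (F : Fam p 𝒦) (T : Sylow p H) :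
    (sSup 𝒦 ⊔ pCore p H) ⊔ (T : Subgroup H) = ⊤ := by
  rw [eq_top_iff, ← sylow_sup_pResidual_eq_top T]
  exact sup_le le_sup_right ((F.hres.trans le_sup_left).trans le_sup_left)

/-- `T ∩ E P` -/
abbrev SE (T : Sylow p H) (E : Subgroup H) : Subgroup H := (T : Subgroup H) ⊓ (E ⊔ pCore p H)

theorem exists_isUM (F : Fam p 𝒦)
    (hmin : ∀ E ∈ 𝒦, ∀ T : Sylow p ↥E, IsMinimalOver (T : Subgroup ↥E)) (T : Sylow p H)
    {E : Subgroup H} (hE : E ∈ 𝒦) :
    ∃ Y : Subgroup H, IsUM (SE T E) (E ⊔ pCore p H) Y ∧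
      ∃ T_E : Sylow p ↥E, (T_E : Subgroup ↥E).map E.subtype ≤ SE T E := by
  obtain ⟨T_E, hTE⟩ := exists_sylow_map_le (E := E) T (pCore_normal'' p H) pCore_isPGroup
    (F.Ehat_subnormal hE)
  obtain ⟨_, huniq⟩ := hmin E hE T_E
  obtain ⟨M, hM⟩ := isUM_of_existsUnique_coatom huniq
  have hEnp : ¬ IsPGroup p E := by
    intro hEp
    have h1 : (⊤ : Subgroup ↥E) = (T_E : Subgroup ↥E) :=
      T_E.is_maximal' (hEp.to_subgroup ⊤) le_top
    have h2 : E ≤ M := by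
      refine le_trans ?_ hM.1
      intro e he
      exact ⟨⟨e, he⟩, h1 ▸ mem_top _, rfl⟩
    exact (lt_iff_le_not_ge.mp hM.2.1).2 h2
  refine ⟨M ⊔ pCore p H, ?_, T_E, hTE⟩
  exact isUM_sup (pCore_normal'' p H) (le_inf (pCore_le_sylow T) le_sup_right) inf_le_right hTE
    (map_subtype_le _) hM (T.isPGroup'.to_le inf_le_left) hEnp

/-- `h` preserves the maximal-subgroup structure -/
def Pres (T : Sylow p H) (𝒦 : Set (Subgroup H)) (h : H) : Prop :=
  ∀ E ∈ 𝒦, ∀ Y : Subgroup H, IsUM (SE T E) (E ⊔ pCore p H) Y →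
    IsUM (SE T (cj h E)) (cj h E ⊔ pCore p H) (cj h Y)

theorem pres_mul (F : Fam p 𝒦) {T : Sylow p H} {a b : H} (ha : Pres T 𝒦 a) (hb : Pres T 𝒦 b) :
    Pres T 𝒦 (a * b) := by
  intro E hE Y hY
  have h1 := ha (cj b E) (F.hinv b E hE) (cj b Y) (hb E hE Y hY)
  rwa [← cj_mul, ← cj_mul] at h1

theorem pres_of_mem_T (T : Sylow p H) {t : H} (ht : t ∈ (T : Subgroup H)) : Pres T 𝒦 t := by
  intro E _ Y hY
  have h1 := hY.cj t
  rwa [cj_inf, cj_eq_self_of_mem ht, cj_Ehat] at h1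

theorem pres_inv (F : Fam p 𝒦)
    (hmin : ∀ E ∈ 𝒦, ∀ T : Sylow p ↥E, IsMinimalOver (T : Subgroup ↥E))
    {T : Sylow p H} {a : H} (ha : Pres T 𝒦 a) : Pres T 𝒦 a⁻¹ := by
  intro E hE Y hY
  obtain ⟨Y', hY', _⟩ := F.exists_isUM hmin T (F.hinv a⁻¹ E hE)
  have h1 := ha _ (F.hinv a⁻¹ E hE) Y' hY'
  rw [cj_cj_inv] at h1
  have h2 : cj a Y' = Y := h1.unique hY
  have h3 : Y' = cj a⁻¹ Y := by rw [← h2, cj_inv_cj]
  rwa [h3] at hY'

/-- no member of the family lies in a maximal subgroup over `T` -/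
theorem not_Ehat_le (F : Fam p 𝒦) (T : Sylow p H) {X : Subgroup H} (hX : IsCoatom X)
    (hTX : (T : Subgroup H) ≤ X) {E : Subgroup H} (hE : E ∈ 𝒦) : ¬ E ⊔ pCore p H ≤ X := by
  intro hEX
  apply hX.1
  rw [eq_top_iff, ← F.RP_sup_T T]
  refine sup_le (sup_le (sSup_le ?_) ((pCore_le_sylow T).trans hTX)) hTX
  intro K hK
  obtain ⟨h, rfl⟩ := F.htr E hE K hK
  have hh : h ∈ (T : Subgroup H) ⊔ (sSup 𝒦 ⊔ pCore p H) := by
    rw [sup_comm, F.RP_sup_T T]; exact mem_top h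
  haveI := F.RP_normal
  obtain ⟨t, ht, r, hr, rfl⟩ := mem_sup_of_normal_right.mp hh
  have h1 : cj (t * r) (E ⊔ pCore p H) = cj t (E ⊔ pCore p H) := by
    rw [cj_mul, cj_eq_self_iff.mpr (F.hnorm E hE hr)]
  have h2 : cj t (E ⊔ pCore p H) ≤ X := by
    rw [← cj_eq_self_of_mem (hTX ht)]
    exact cj_mono hEX
  exact ((cj_mono le_sup_left).trans h1.le).trans h2

theorem pres_of_mem_coatom (F : Fam p 𝒦) (T : Sylow p H) {X : Subgroup H} (hX : IsCoatom X)
    (hTX : (T : Subgroup H) ≤ X) {x : H} (hxX : x ∈ X) (hxR : x ∈ sSup 𝒦 ⊔ pCore p H) :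
    Pres T 𝒦 x := by
  intro E hE Y hY
  have hxE : cj x (E ⊔ pCore p H) = E ⊔ pCore p H := cj_eq_self_iff.mpr (F.hnorm E hE hxR)
  have hxE' : cj x E ⊔ pCore p H = E ⊔ pCore p H := by rw [← cj_Ehat, hxE]
  have h1 := hY.cj x
  rw [hxE] at h1
  -- `X ∩ E P` is a proper subgroup of `E P` containing `T ∩ E P`
  have h2 : X ⊓ (E ⊔ pCore p H) ≤ Y := by
    apply hY.2.2 _ (le_inf (inf_le_left.trans hTX) inf_le_right)
    rw [lt_iff_le_not_ge]
    exact ⟨inf_le_right, fun h => F.not_Ehat_le T hX hTX hE (h.trans inf_le_left)⟩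
  have h3 : cj x (SE T E) ≤ Y := by
    refine le_trans ?_ h2
    rw [cj_inf, hxE]
    refine inf_le_inf_right _ ?_
    rw [← cj_eq_self_of_mem hxX]
    exact cj_mono hTX
  have h4 : Y ≤ cj x Y := h1.2.2 Y h3 hY.2.1
  have h5 : Y = cj x Y := by
    apply le_antisymm h4
    have h6 : Nat.card ↥(cj x Y) = Nat.card ↥Y :=
      (Nat.card_congr (Y.equivMapOfInjective _ (MulAut.conj x).injective).toEquiv).symm
    have := Subgroup.eq_of_le_of_card_ge h4 h6.le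
    exact this.ge
  show IsUM ((T : Subgroup H) ⊓ (cj x E ⊔ pCore p H)) (cj x E ⊔ pCore p H) (cj x Y)
  rw [hxE', ← h5]
  exact hY

/-- uniqueness of the maximal subgroup over `T` -/
theorem coatom_unique (F : Fam p 𝒦)
    (hmin : ∀ E ∈ 𝒦, ∀ T : Sylow p ↥E, IsMinimalOver (T : Subgroup ↥E)) (T : Sylow p H)
    {X₁ X₂ : Subgroup H} (h₁ : IsCoatom X₁) (h₂ : IsCoatom X₂) (hT₁ : (T : Subgroup H) ≤ X₁)
    (hT₂ : (T : Subgroup H) ≤ X₂) : X₁ = X₂ := by
  by_contra hne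
  have htop : X₁ ⊔ X₂ = ⊤ := by
    by_contra h
    have h3 : X₁ = X₁ ⊔ X₂ := by
      rcases eq_or_lt_of_le (le_sup_left : X₁ ≤ X₁ ⊔ X₂) with h4 | h4
      · exact h4
      · exact absurd (h₁.2 _ h4) h
    have h4 : X₂ = X₁ ⊔ X₂ := by
      rcases eq_or_lt_of_le (le_sup_right : X₂ ≤ X₁ ⊔ X₂) with h4 | h4
      · exact h4
      · exact absurd (h₂.2 _ h4) h
    exact hne (h3.trans h4.symm)
  -- every element of `X₁` and `X₂` preserves the structure
  have key : ∀ {X : Subgroup H}, IsCoatom X → (T : Subgroup H) ≤ X → ∀ x ∈ X, Pres T 𝒦 x := by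
    intro X hX hTX x hx
    have hh : x ∈ (T : Subgroup H) ⊔ (sSup 𝒦 ⊔ pCore p H) := by
      rw [sup_comm, F.RP_sup_T T]; exact mem_top x
    haveI := F.RP_normal
    obtain ⟨t, ht, r, hr, rfl⟩ := mem_sup_of_normal_right.mp hh
    have hrX : r ∈ X := by
      have := X.mul_mem (X.inv_mem (hTX ht)) hx
      rwa [inv_mul_cancel_left] at this
    exact F.pres_mul (pres_of_mem_T T ht) (F.pres_of_mem_coatom T hX hTX hrX hr)
  have hall : ∀ h : H, Pres T 𝒦 h := by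
    intro h
    have hh : h ∈ X₁ ⊔ X₂ := by rw [htop]; exact mem_top h
    rw [sup_eq_closure] at hh
    induction hh using closure_induction with
    | mem x hx =>
      rcases hx with hx | hx
      · exact key h₁ hT₁ x hx
      · exact key h₂ hT₂ x hx
    | one => exact pres_of_mem_T T (one_mem _)
    | mul a b _ _ iha ihb => exact F.pres_mul iha ihb
    | inv a _ iha => exact F.pres_inv hmin iha
  -- contradiction inside a member of the family
  obtain ⟨E, hE⟩ := F.hne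
  obtain ⟨Y, hY, T_E, hTE⟩ := F.exists_isUM hmin T hE
  have hYn : E ⊔ pCore p H ≤ normalizer (Y : Set H) := by
    intro e he
    have h1 := hall e E hE Y hY
    have h2 : cj e E ⊔ pCore p H = E ⊔ pCore p H := by
      rw [← cj_Ehat, cj_eq_self_of_mem he]
    have h3 : IsUM (SE T E) (E ⊔ pCore p H) (cj e Y) := by
      have h4 : SE T (cj e E) = SE T E := by
        show (T : Subgroup H) ⊓ (cj e E ⊔ pCore p H) = (T : Subgroup H) ⊓ (E ⊔ pCore p H)
        rw [h2]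
      rw [h4, h2] at h1
      exact h1
    rw [← cj_eq_self_iff]
    exact h3.unique hY
  obtain ⟨hncl, _⟩ := hmin E hE T_E
  -- the normal closure of `T_E` lies in `Y ∩ E`
  have hN : ((Y ⊓ E).subgroupOf E).Normal :=
    normal_subgroupOf_of_le_normalizer
      (le_normalizer_inf (le_sup_left.trans hYn) le_normalizer)
  have h1 : normalClosure ((T_E : Subgroup ↥E) : Set ↥E) ≤ (Y ⊓ E).subgroupOf E := by
    apply normalClosure_le_normal
    intro x hx
    rw [SetLike.mem_coe, mem_subgroupOf]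
    exact ⟨hY.1 (hTE ⟨x, hx, rfl⟩), x.2⟩
  rw [hncl] at h1
  have h2 : E ≤ Y := by
    intro e he
    have := h1 (mem_top (⟨e, he⟩ : ↥E))
    rw [mem_subgroupOf] at this
    exact this.1
  have h3 : E ⊔ pCore p H ≤ Y :=
    sup_le h2 ((le_inf (pCore_le_sylow T) le_sup_right : pCore p H ≤ SE T E).trans hY.1)
  exact (lt_iff_le_not_ge.mp hY.2.1).2 h3

/-- `H` is generated by the conjugates of `T` -/
theorem normalClosure_T (F : Fam p 𝒦)
    (hmin : ∀ E ∈ 𝒦, ∀ T : Sylow p ↥E, IsMinimalOver (T : Subgroup ↥E)) (T : Sylow p H) :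
    normalClosure ((T : Subgroup H) : Set H) = ⊤ := by
  rw [eq_top_iff, ← F.RP_sup_T T]
  have hTN : (T : Subgroup H) ≤ normalClosure ((T : Subgroup H) : Set H) := le_normalClosure
  refine sup_le (sup_le (sSup_le ?_) ((pCore_le_sylow T).trans hTN)) hTN
  intro E hE
  obtain ⟨Y, hY, T_E, hTE⟩ := F.exists_isUM hmin T hE
  obtain ⟨hncl, _⟩ := hmin E hE T_E
  have hN : ((normalClosure ((T : Subgroup H) : Set H)).subgroupOf E).Normal := inferInstance
  have h1 : normalClosure ((T_E : Subgroup ↥E) : Set ↥E) ≤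
      (normalClosure ((T : Subgroup H) : Set H)).subgroupOf E := by
    apply normalClosure_le_normal
    intro x hx
    rw [SetLike.mem_coe, mem_subgroupOf]
    exact hTN ((hTE ⟨x, hx, rfl⟩ : (x : H) ∈ SE T E).1)
  rw [hncl] at h1
  intro e he
  have := h1 (mem_top (⟨e, he⟩ : ↥E))
  rw [mem_subgroupOf] at this
  exact this

/-- the conclusion of the first part -/
theorem isMinimalOver (F : Fam p 𝒦)
    (hmin : ∀ E ∈ 𝒦, ∀ T : Sylow p ↥E, IsMinimalOver (T : Subgroup ↥E)) (T : Sylow p H) :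
    IsMinimalOver (T : Subgroup H) := by
  refine ⟨F.normalClosure_T hmin T, ?_⟩
  have hTne : (T : Subgroup H) ≠ ⊤ := by
    intro hT
    obtain ⟨E, hE⟩ := F.hne
    obtain ⟨Y, hY, _, _⟩ := F.exists_isUM hmin T hE
    have h1 : E ⊔ pCore p H ≤ Y := by
      refine le_trans ?_ hY.1
      show E ⊔ pCore p H ≤ (T : Subgroup H) ⊓ (E ⊔ pCore p H)
      rw [hT]; exact le_inf le_top le_rfl
    exact (lt_iff_le_not_ge.mp hY.2.1).2 h1
  obtain h | ⟨M, hM, hTM⟩ := eq_top_or_exists_le_coatom (T : Subgroup H)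
  · exact absurd h hTne
  · exact ⟨M, ⟨hM, hTM⟩, fun M' hM' => F.coatom_unique hmin T hM'.1 hM hM'.2 hTM⟩

end Fam

end Cfsg.Agent.Helper47
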