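import Mathlib
import Cfsg.Prelude.Def_LocalStructure
import Cfsg.Agent.Lib.Helper47.PMinFam
import Cfsg.Agent.Lib.Helper47.PIrr
import Cfsg.Agent.Lib.Helper47.PRed3
import Cfsg.Agent.Lib.Helper22.Radical
import Cfsg.Agent.Lib.Helper48.PReduced
import Cfsg.Agent.S2829

set_option autoImplicit false
set_option linter.unusedSectionVars false
set_option linter.style.haveILetI false

/-!
# `p`-irreducibility of a group generated by a transitive family of strongly `p`-irreducible
subgroups
-/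

namespace Cfsg.Agent.Helper47

open Cfsg Subgroup
open scoped commutatorElement

variable {H : Type*} [Group H] {p : ℕ}

/-- if `e` commutes with `[e, n]` then `[e ^ m, n] = [e, n] ^ m` -/
theorem commutatorElement_pow_left_of_commute {Q : Type*} [Group Q] (e n : Q)
    (h : Commute e ⁅e, n⁆) (m : ℕ) : ⁅e ^ m, n⁆ = ⁅e, n⁆ ^ m := by
  induction m with
  | zero => simp
  | succ m ih =>
    have h1 : ⁅e ^ (m + 1), n⁆ = e ^ m * ⁅e, n⁆ * (e ^ m)⁻¹ * ⁅e ^ m, n⁆ := by
      rw [pow_succ]; simp only [commutatorElement_def]; group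
    have h2 : e ^ m * ⁅e, n⁆ * (e ^ m)⁻¹ = ⁅e, n⁆ := by
      rw [(h.pow_left m).eq, mul_inv_cancel_right]
    rw [h1, h2, ih, pow_succ']

/-- the key lemma: a commutator `[e, n]` with a `p`-element `e` that is central modulo a normal
`p`-subgroup in a subnormal subgroup lies in `O_p` -/
theorem commutatorElement_mem_pCore_of_central [Finite H] [Fact p.Prime] {P A Z : Subgroup H}
    (hPn : P.Normal) (hPp : IsPGroup p P) (hA : A.IsSubnormal) (hPA : P ≤ A) (hZA : Z ≤ A)
    (hZ : ⁅Z, A⁆ ≤ P) {e n : H} (heA : e ∈ A) (hep : ∃ a : ℕ, e ^ (p ^ a) = 1)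
    (hx : ⁅e, n⁆ ∈ Z) : ⁅e, n⁆ ∈ pCore p H := by
  haveI := hPn
  obtain ⟨a, ha⟩ := hep
  obtain ⟨x, hxdef⟩ : ∃ x, x = ⁅e, n⁆ := ⟨_, rfl⟩
  rw [← hxdef] at hx ⊢
  -- `x ^ (p ^ a) ∈ P`
  have hcomm : ⁅e, x⁆ ∈ P := by
    have h1 : ⁅x, e⁆ ∈ P := hZ (commutator_mem_commutator hx heA)
    have h2 : ⁅e, x⁆ = ⁅x, e⁆⁻¹ := (commutatorElement_inv x e).symm
    rw [h2]; exact P.inv_mem h1
  have hxa : x ^ (p ^ a) ∈ P := by
    have hc : Commute (QuotientGroup.mk' P e) ⁅QuotientGroup.mk' P e, QuotientGroup.mk' P n⁆ := by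
      rw [← map_commutatorElement, ← hxdef, ← commutatorElement_eq_one_iff_commute,
        ← map_commutatorElement]
      exact (QuotientGroup.eq_one_iff _).mpr hcomm
    have h3 := commutatorElement_pow_left_of_commute _ _ hc (p ^ a)
    rw [← map_pow, ha, map_one, commutatorElement_one_left, ← map_commutatorElement, ← hxdef,
      ← map_pow] at h3
    exact (QuotientGroup.eq_one_iff _).mp h3.symm
  obtain ⟨b, hb⟩ := hPp ⟨x ^ (p ^ a), hxa⟩
  have hxab : x ^ (p ^ (a + b)) = 1 := by
    have := congrArg Subtype.val hb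
    simpa [pow_add, pow_mul] using this
  have hzp : IsPGroup p (zpowers x) := by
    rintro ⟨y, hy⟩
    obtain ⟨i, rfl⟩ := mem_zpowers_iff.mp hy
    refine ⟨a + b, ?_⟩
    apply Subtype.ext
    show (x ^ i) ^ (p ^ (a + b)) = 1
    rw [← zpow_natCast, ← zpow_mul, mul_comm, zpow_mul, zpow_natCast, hxab, one_zpow]
  have hXp : IsPGroup p (zpowers x ⊔ P : Subgroup H) := hzp.to_sup_of_normal_right hPp
  have hzZ : zpowers x ≤ Z := zpowers_le.mpr hx
  have hXA : zpowers x ⊔ P ≤ A := sup_le (hzZ.trans hZA) hPA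
  have hAX : A ≤ normalizer ((zpowers x ⊔ P : Subgroup H) : Set H) := by
    apply le_normalizer_of_cj_le
    intro g hg
    rw [cj_sup, cj_eq_self_of_normal hPn]
    refine sup_le ?_ le_sup_right
    refine (cj_le_commutator_sup (A := A) (B := zpowers x) hg).trans (sup_le ?_ le_sup_left)
    refine le_trans ?_ (le_sup_right : P ≤ zpowers x ⊔ P)
    rw [commutator_comm]
    exact (commutator_mono hzZ le_rfl).trans hZ
  have := Helper22.le_pCore_of_subnormal hA hXA hAX hXp
  exact this (mem_sup_left (mem_zpowers x))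

/-- a `p`-irreducible subgroup is generated by its `p`-elements -/
theorem le_closure_pElements_of_isPIrreducible [Finite H] [Fact p.Prime] {E : Subgroup H}
    (hE : IsPIrreducible p ↥E) :
    E ≤ closure {e : H | e ∈ E ∧ ∃ a : ℕ, e ^ (p ^ a) = 1} := by
  obtain ⟨C, hC⟩ : ∃ C, C = closure {e : H | e ∈ E ∧ ∃ a : ℕ, e ^ (p ^ a) = 1} := ⟨_, rfl⟩
  rw [← hC]
  have hEC : E ≤ normalizer (C : Set H) := by
    rw [hC, Subgroup.le_normalizer_closure_iff]
    rintro g hg e ⟨heE, a, hea⟩
    refine Subgroup.subset_closure ⟨E.mul_mem (E.mul_mem hg heE) (E.inv_mem hg), a, ?_⟩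
    rw [conj_pow, hea, mul_one, mul_inv_cancel]
  haveI : (C.subgroupOf E).Normal := normal_subgroupOf_of_le_normalizer hEC
  have T : Sylow p ↥E := default
  have hT : (T : Subgroup ↥E) ≤ C.subgroupOf E := by
    intro t ht
    rw [mem_subgroupOf, hC]
    obtain ⟨k, hk⟩ := T.isPGroup' ⟨t, ht⟩
    refine Subgroup.subset_closure ⟨t.2, k, ?_⟩
    have h1 : t ^ (p ^ k) = 1 := by simpa using congrArg Subtype.val hk
    have h2 := congrArg Subtype.val h1
    simpa using h2
  have h1 := eq_top_of_sylow_le_of_isPIrreducible hE T (C.subgroupOf E) hT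
  exact subgroupOf_eq_top.mp h1

/-- strong `p`-irreducibility of a subgroup, in internal form -/
theorem pResOf_le_of_isStronglyPIrreducible {E N : Subgroup H}
    (hE : IsStronglyPIrreducible p ↥E) (hNE : N ≤ E) (hEN : E ≤ normalizer (N : Set H))
    (hc : ¬ ⁅N, E⁆ ≤ pCoreOf p E) : pResOf p E ≤ N := by
  haveI : (N.subgroupOf E).Normal := normal_subgroupOf_of_le_normalizer hEN
  have h1 : pResidual p ↥E ≤ N.subgroupOf E := by
    apply hE.2 (N.subgroupOf E) inferInstance
    intro h2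
    apply hc
    have h3 := map_mono (f := E.subtype) h2
    rw [map_commutator, subgroupOf_map_subtype, inf_of_le_left hNE, ← MonoidHom.range_eq_map,
      range_subtype] at h3
    exact h3
  have h2 := map_mono (f := E.subtype) h1
  rw [subgroupOf_map_subtype] at h2
  exact h2.trans inf_le_left

/-- `O_p(E) ≤ O_p(H)` when `E O_p(H)` is subnormal -/
theorem pCoreOf_le_pCore_of_sup_subnormal [Finite H] [Fact p.Prime] {E : Subgroup H}
    (h : (E ⊔ pCore p H).IsSubnormal) : pCoreOf p E ≤ pCore p H := by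
  haveI := pCore_normal'' p H
  have hQp : IsPGroup p (pCoreOf p E ⊔ pCore p H : Subgroup H) :=
    (Helper48.isPGroup_pCoreOf E).to_sup_of_normal_right pCore_isPGroup
  have hQle : pCoreOf p E ⊔ pCore p H ≤ E ⊔ pCore p H := sup_le_sup_right (Helper48.pCoreOf_le E) _
  have hn : E ⊔ pCore p H ≤ normalizer ((pCoreOf p E ⊔ pCore p H : Subgroup H) : Set H) := by
    refine sup_le (le_normalizer_sup (Helper48.le_normalizer_pCoreOf E) ?_)
      (le_sup_right.trans le_normalizer)
    rw [normalizer_eq_top_iff.mpr (pCore_normal'' p H)]; exact le_top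
  exact le_sup_left.trans (Helper22.le_pCore_of_subnormal h hQle hn hQp)

/-- `O^p` commutes with conjugation -/
theorem pResOf_cj (g : H) (X : Subgroup H) : pResOf p (cj g X) = cj g (pResOf p X) := by
  show (pResidual p ↥(cj g X)).map (cj g X).subtype =
    map (MulAut.conj g).toMonoidHom ((pResidual p ↥X).map X.subtype)
  rw [map_pResidual_eq_closure, map_pResidual_eq_closure, MonoidHom.map_closure]
  congr 1
  ext y
  constructor
  · rintro ⟨⟨x, hx, rfl⟩, hy⟩
    refine ⟨x, ⟨hx, ?_⟩, rfl⟩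
    rwa [orderOf_injective _ (MulAut.conj g).injective] at hy
  · rintro ⟨x, ⟨hx, hxo⟩, rfl⟩
    refine ⟨⟨x, hx, rfl⟩, ?_⟩
    show (orderOf ((MulAut.conj g).toMonoidHom x)).Coprime p
    rwa [orderOf_injective _ (MulAut.conj g).injective]

theorem card_cj (g : H) (X : Subgroup H) : Nat.card ↥(cj g X) = Nat.card ↥X :=
  (Nat.card_congr (X.equivMapOfInjective _ (MulAut.conj g).injective).toEquiv).symm

/-- `E = O^p(E) T_E` -/
theorem le_pResOf_sup_sylow [Finite H] [Fact p.Prime] {E : Subgroup H} (T_E : Sylow p ↥E) :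
    E ≤ pResOf p E ⊔ (T_E : Subgroup ↥E).map E.subtype := by
  have h1 := sylow_sup_pResidual_eq_top T_E
  have h2 : ((T_E : Subgroup ↥E) ⊔ pResidual p ↥E).map E.subtype = E := by
    rw [h1, ← MonoidHom.range_eq_map, range_subtype]
  rw [Subgroup.map_sup] at h2
  rw [sup_comm]
  exact h2.ge

theorem commutatorElement_mem_of_mem_normalizer_left {X : Subgroup H} {e n : H}
    (he : e ∈ normalizer (X : Set H)) (hn : n ∈ X) : ⁅e, n⁆ ∈ X := by
  rw [commutatorElement_def]
  exact X.mul_mem ((mem_normalizer_iff.mp he n).mp hn) (X.inv_mem hn)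

theorem commutatorElement_mem_of_mem_normalizer_right {X : Subgroup H} {e n : H}
    (he : e ∈ X) (hn : n ∈ normalizer (X : Set H)) : ⁅e, n⁆ ∈ X := by
  have h1 : ⁅e, n⁆ = e * (n * e⁻¹ * n⁻¹) := by rw [commutatorElement_def]; group
  rw [h1]
  exact X.mul_mem he ((mem_normalizer_iff.mp hn e⁻¹).mp (X.inv_mem he))

/-- if all commutators `[e, n]` (`e ∈ E`, `n ∈ M`) lie in a subgroup `Z` that is central modulo
`O_p(H)` in a subnormal subgroup `A ≥ E`, then `[E, M] ≤ O_p(H)` -/
theorem commutator_le_pCore_of_central [Finite H] [Fact p.Prime] {E A Z M : Subgroup H}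
    (hirr : IsPIrreducible p ↥E) (hA : A.IsSubnormal) (hEA : E ≤ A) (hPA : pCore p H ≤ A)
    (hZA : Z ≤ A) (hZ : ⁅Z, A⁆ ≤ pCore p H) (hM : ∀ e ∈ E, ∀ n ∈ M, ⁅e, n⁆ ∈ Z) :
    ⁅E, M⁆ ≤ pCore p H := by
  have h1 : E ≤ commStab M (pCore p H) := by
    refine (le_closure_pElements_of_isPIrreducible hirr).trans ?_
    rw [closure_le]
    rintro e ⟨heE, hep⟩
    refine ⟨?_, fun n hn => ?_⟩
    · rw [normalizer_eq_top_iff.mpr (pCore_normal'' p H)]; exact mem_top e
    · have := commutatorElement_mem_pCore_of_central (pCore_normal'' p H) pCore_isPGroup hA hPA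
        hZA hZ (hEA heE) hep (hM e heE n hn)
      rw [← commutatorElement_inv]; exact inv_mem this
  rw [commutator_comm]
  exact (commutator_mono le_rfl h1).trans (commutator_commStab_le M _)

namespace Fam

variable {𝒦 : Set (Subgroup H)} [Finite H] [Fact p.Prime]

theorem E_le (_F : Fam p 𝒦) {E : Subgroup H} (hE : E ∈ 𝒦) : E ≤ sSup 𝒦 ⊔ pCore p H :=
  (le_sSup hE).trans le_sup_left

/-- for a subgroup `M ≥ O_p(H)` normalized by `R O_p(H)`: either `O^p(E O_p(H)) ≤ M` or
`M ∩ E O_p(H)` is central in `E O_p(H)` modulo `O_p(H)` -/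
theorem dichotomy (F : Fam p 𝒦) {E : Subgroup H} (hE : E ∈ 𝒦)
    (hirr : IsStronglyPIrreducible p ↥E) {M : Subgroup H} (hPM : pCore p H ≤ M)
    (hM : sSup 𝒦 ⊔ pCore p H ≤ normalizer (M : Set H)) :
    pResOf p (E ⊔ pCore p H) ≤ M ∨
      ⁅M ⊓ (E ⊔ pCore p H), E ⊔ pCore p H⁆ ≤ pCore p H := by
  have hEM : E ≤ normalizer (M : Set H) := (F.E_le hE).trans hM
  have hIn : E ≤ normalizer ((E ⊓ M : Subgroup H) : Set H) := le_normalizer_inf le_normalizer hEM
  haveI := pCore_normal'' p H
  have hnP : ∀ X : Subgroup H, X ≤ normalizer (pCore p H : Set H) := fun X => by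
    rw [normalizer_eq_top_iff.mpr (pCore_normal'' p H)]; exact le_top
  by_cases hc : ⁅E ⊓ M, E⁆ ≤ pCoreOf p E
  · right
    have hcP : ⁅E ⊓ M, E⁆ ≤ pCore p H :=
      hc.trans (pCoreOf_le_pCore_of_sup_subnormal (F.Ehat_subnormal hE))
    have hJ : M ⊓ (E ⊔ pCore p H) ≤ (E ⊓ M) ⊔ pCore p H := by
      have := le_inf_sup_of_le_sup (A := M ⊓ (E ⊔ pCore p H)) (K := E) (D := pCore p H)
        (le_inf hPM le_sup_right) inf_le_right (hnP E)
      refine this.trans (sup_le_sup_right ?_ _)
      exact le_inf inf_le_right (inf_le_left.trans inf_le_left)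
    refine (commutator_mono hJ le_rfl).trans ?_
    have h1 : ⁅E ⊓ M, E ⊔ pCore p H⁆ ≤ pCore p H :=
      commutator_sup_right_le hcP (commutator_le_right _ _) (hnP _) (hnP _)
    have h2 : ⁅pCore p H, E ⊔ pCore p H⁆ ≤ pCore p H := commutator_le_left _ _
    rw [commutator_comm]
    exact commutator_sup_right_le (V := E ⊔ pCore p H) (K₁ := E ⊓ M) (K₂ := pCore p H)
      (U := pCore p H) (by rw [commutator_comm]; exact h1) (by rw [commutator_comm]; exact h2)
      (hnP _) (hnP _)
  · left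
    have h1 : pResOf p E ≤ E ⊓ M := pResOf_le_of_isStronglyPIrreducible hirr inf_le_left hIn hc
    have T_E : Sylow p ↥E := default
    have hR'p : IsPGroup p ((T_E : Subgroup ↥E).map E.subtype ⊔ pCore p H : Subgroup H) :=
      (T_E.isPGroup'.map _).to_sup_of_normal_right pCore_isPGroup
    have hR'M : (T_E : Subgroup ↥E).map E.subtype ⊔ pCore p H ≤ normalizer (M : Set H) :=
      sup_le ((map_subtype_le _).trans hEM) (hPM.trans le_normalizer)
    apply pResOf_le_of_le_sup hR'M hR'p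
    refine sup_le ?_ (le_sup_right.trans le_sup_right)
    exact (le_pResOf_sup_sylow T_E).trans
      (sup_le ((h1.trans inf_le_right).trans le_sup_left) (le_sup_left.trans le_sup_right))

/-- the conclusion on pairs of members -/
theorem pResOf_eq_or_commutator_le (F : Fam p 𝒦)
    (hirr : ∀ E ∈ 𝒦, IsStronglyPIrreducible p ↥E) {E K : Subgroup H} (hE : E ∈ 𝒦)
    (hK : K ∈ 𝒦) :
    pResOf p (E ⊔ pCore p H) = pResOf p (K ⊔ pCore p H) ∨ ⁅E, K⁆ ≤ pCore p H := by
  rcases F.dichotomy hE (hirr E hE) (M := K ⊔ pCore p H) le_sup_right (F.hnorm K hK) with h | h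
  · left
    have h1 : pResOf p (E ⊔ pCore p H) ≤ pResOf p (K ⊔ pCore p H) :=
      (pResOf_pResOf (p := p) (E ⊔ pCore p H)).ge.trans (map_pResidual_mono h)
    obtain ⟨g, rfl⟩ := F.htr E hE K hK
    have h2 : Nat.card (pResOf p (cj g E ⊔ pCore p H)) = Nat.card (pResOf p (E ⊔ pCore p H)) := by
      rw [← cj_Ehat, pResOf_cj, card_cj]
    exact Subgroup.eq_of_le_of_card_ge h1 h2.le
  · right
    have hEirr := S2829.result (hirr E hE)
    have := commutator_le_pCore_of_central (E := E) (A := E ⊔ pCore p H)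
      (Z := (K ⊔ pCore p H) ⊓ (E ⊔ pCore p H)) (M := K ⊔ pCore p H) hEirr (F.Ehat_subnormal hE)
      le_sup_left le_sup_right inf_le_right h ?_
    · exact (commutator_mono le_rfl le_sup_left).trans this
    · intro e he n hn
      exact ⟨commutatorElement_mem_of_mem_normalizer_left (F.hnorm K hK (F.E_le hE he)) hn,
        commutatorElement_mem_of_mem_normalizer_right (mem_sup_left he)
          (F.hnorm E hE ((F.Ehat_le hK) hn))⟩

theorem not_isPClosed (F : Fam p 𝒦) (hirr : ∀ E ∈ 𝒦, IsStronglyPIrreducible p ↥E) :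
    ¬ IsPClosed p H := by
  intro hH
  obtain ⟨E, hE⟩ := F.hne
  apply (hirr E hE).1
  have T_E : Sylow p ↥E := default
  apply isPClosed_of_sylow_normal T_E
  obtain ⟨T', hT'⟩ := (T_E.isPGroup'.map E.subtype).exists_le_sylow
  haveI : (T' : Subgroup H).Normal := hH T'
  have hQp : IsPGroup p ((T' : Subgroup H).subgroupOf E) := T'.isPGroup'.comap_subtype
  have hle : (T_E : Subgroup ↥E) ≤ (T' : Subgroup H).subgroupOf E := by
    intro t ht
    rw [mem_subgroupOf]
    exact hT' ⟨t, ht, rfl⟩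
  have := T_E.is_maximal' hQp hle
  rw [← this]
  infer_instance

/-- `O^p(H)` lies in every normal subgroup that is not `p`-closed -/
theorem pResidual_le_of_normal (F : Fam p 𝒦) (hirr : ∀ E ∈ 𝒦, IsStronglyPIrreducible p ↥E)
    (N : Subgroup H) (hN : N.Normal) (hNp : ¬ IsPClosed p ↥N) : pResidual p H ≤ N := by
  haveI := hN
  haveI hPn := pCore_normal'' p H
  haveI hNhat : (N ⊔ pCore p H).Normal := Subgroup.sup_normal _ _
  have hnorm_top : ∀ (X Y : Subgroup H), Y.Normal → X ≤ normalizer (Y : Set H) :=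
    fun X Y hY => by rw [normalizer_eq_top_iff.mpr hY]; exact le_top
  by_cases hc : ∃ E ∈ 𝒦, pResOf p (E ⊔ pCore p H) ≤ N ⊔ pCore p H
  · -- first case
    obtain ⟨E, hE, hEN⟩ := hc
    have hall : ∀ K ∈ 𝒦, pResOf p (K ⊔ pCore p H) ≤ N ⊔ pCore p H := by
      intro K hK
      obtain ⟨g, rfl⟩ := F.htr E hE K hK
      rw [← cj_Ehat, pResOf_cj, ← cj_eq_self_of_normal hNhat g]
      exact cj_mono hEN
    have T : Sylow p H := default
    have h1 : (N ⊔ pCore p H) ⊔ (T : Subgroup H) = ⊤ := by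
      rw [eq_top_iff, ← F.RP_sup_T T]
      refine sup_le (sup_le (sSup_le ?_) (le_sup_right.trans le_sup_left)) le_sup_right
      intro K hK
      obtain ⟨T_K, hTK⟩ := exists_sylow_map_le (E := K) T hPn pCore_isPGroup
        (F.Ehat_subnormal hK)
      refine (le_pResOf_sup_sylow T_K).trans (sup_le ?_ ?_)
      · exact ((map_pResidual_mono le_sup_left).trans (hall K hK)).trans le_sup_left
      · exact (hTK.trans inf_le_left).trans le_sup_right
    have h2 : pResidual p H ≤ N ⊔ pCore p H := pResidual_le_of_sup_eq_top T.isPGroup' h1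
    show closure {g : H | Nat.Coprime (orderOf g) p} ≤ N
    rw [closure_le]
    intro g hg
    exact mem_of_mem_sup_of_coprime (hnorm_top _ N hN) pCore_isPGroup
      (h2 (mem_pResidual_of_coprime hg)) hg
  · -- second case
    exfalso
    push Not at hc
    have hD : ∀ E ∈ 𝒦,
        ⁅(N ⊔ pCore p H) ⊓ (E ⊔ pCore p H), E ⊔ pCore p H⁆ ≤ pCore p H := by
      intro E hE
      rcases F.dichotomy hE (hirr E hE) (M := N ⊔ pCore p H) le_sup_right
        (hnorm_top _ _ hNhat) with h | h
      · exact absurd h (hc E hE)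
      · exact h
    obtain ⟨N₁, hN₁⟩ : ∃ N₁, N₁ = (N ⊔ pCore p H) ⊓ (sSup 𝒦 ⊔ pCore p H) := ⟨_, rfl⟩
    have hs1 : ∀ E ∈ 𝒦, ⁅E, N₁⁆ ≤ pCore p H := by
      intro E hE
      apply commutator_le_pCore_of_central (A := E ⊔ pCore p H)
        (Z := (N ⊔ pCore p H) ⊓ (E ⊔ pCore p H)) (S2829.result (hirr E hE))
        (F.Ehat_subnormal hE) le_sup_left le_sup_right inf_le_right (hD E hE)
      intro e he n hn
      rw [hN₁] at hn
      exact ⟨commutatorElement_mem_of_mem_normalizer_left (hnorm_top ⊤ _ hNhat (mem_top e)) hn.1,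
        commutatorElement_mem_of_mem_normalizer_right (mem_sup_left he) (F.hnorm E hE hn.2)⟩
    have hRN₁ : ⁅N₁, sSup 𝒦 ⊔ pCore p H⁆ ≤ pCore p H := by
      have : sSup 𝒦 ⊔ pCore p H ≤ commStab N₁ (pCore p H) := by
        refine sup_le (sSup_le fun E hE => ?_) ?_
        · exact le_commStab (hnorm_top _ _ hPn) (by rw [commutator_comm]; exact hs1 E hE)
        · exact le_commStab (hnorm_top _ _ hPn) (commutator_le_right _ _)
      exact (commutator_mono le_rfl this).trans (commutator_commStab_le _ _)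
    have hs2 : ∀ E ∈ 𝒦, ⁅E, N ⊔ pCore p H⁆ ≤ pCore p H := by
      intro E hE
      apply commutator_le_pCore_of_central (A := sSup 𝒦 ⊔ pCore p H) (Z := N₁)
        (S2829.result (hirr E hE)) F.RP_normal.isSubnormal (F.E_le hE) le_sup_right
        (hN₁ ▸ inf_le_right) hRN₁
      intro e he n hn
      rw [hN₁]
      exact ⟨commutatorElement_mem_of_mem_normalizer_left (hnorm_top ⊤ _ hNhat (mem_top e)) hn,
        commutatorElement_mem_of_mem_normalizer_right (F.E_le hE he)
          (hnorm_top ⊤ _ F.RP_normal (mem_top n))⟩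
    have hRN : ⁅N ⊔ pCore p H, sSup 𝒦⁆ ≤ pCore p H := by
      have : sSup 𝒦 ≤ commStab (N ⊔ pCore p H) (pCore p H) :=
        sSup_le fun E hE => le_commStab (hnorm_top _ _ hPn)
          (by rw [commutator_comm]; exact hs2 E hE)
      exact (commutator_mono le_rfl this).trans (commutator_commStab_le _ _)
    -- `N` is `p`-closed
    apply hNp
    have S_N : Sylow p ↥N := default
    apply isPClosed_of_sylow_normal S_N
    obtain ⟨S, hS⟩ : ∃ S, S = (S_N : Subgroup ↥N).map N.subtype := ⟨_, rfl⟩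
    have hSN : S ≤ N := hS ▸ map_subtype_le _
    have hPNS : pCore p H ⊓ N ≤ S := by
      have hQp : IsPGroup p ((pCore p H).subgroupOf N) := pCore_isPGroup.comap_subtype
      have h1 : (pCore p H).subgroupOf N ≤ S_N := hQp.le_sylow_of_normal S_N
      intro x hx
      rw [hS]
      exact ⟨⟨x, hx.2⟩, h1 (mem_subgroupOf.mpr hx.1), rfl⟩
    have h3 : ⁅pResOf p N, S⁆ ≤ S := by
      refine le_trans (le_inf ?_ ?_) hPNS
      · refine le_trans ?_ hRN
        rw [commutator_comm]
        exact commutator_mono (hSN.trans le_sup_left)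
          ((map_pResidual_le_pResidual N).trans F.hres)
      · rw [commutator_le]
        intro a ha b hb
        exact N.mul_mem (N.mul_mem (N.mul_mem (pResOf_le N ha) (hSN hb))
          (N.inv_mem (pResOf_le N ha))) (N.inv_mem (hSN hb))
    have hNS : N ≤ normalizer (S : Set H) := by
      refine (le_pResOf_sup_sylow S_N).trans (sup_le ?_ (hS ▸ le_normalizer))
      exact le_normalizer_iff_commutator_le_right.2 h3
    have hnormal : (S.subgroupOf N).Normal := normal_subgroupOf_of_le_normalizer hNS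
    have : S.subgroupOf N = S_N := by
      rw [hS]; exact comap_map_eq_self_of_injective N.subtype_injective _
    rw [← this]; exact hnormal

/-- the conclusion of the second part -/
theorem isPIrreducible (F : Fam p 𝒦) (hirr : ∀ E ∈ 𝒦, IsStronglyPIrreducible p ↥E) :
    IsPIrreducible p H :=
  ⟨F.not_isPClosed hirr, fun N hN hNp => F.pResidual_le_of_normal hirr N hN hNp⟩

end Fam

end Cfsg.Agent.Helper47
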