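import Mathlib
import Cfsg.Prelude.Def_LocalStructure
import Cfsg.Prelude.Def_Amalgam
import Cfsg.Agent.Lib.Helper47.Conj
import Cfsg.Agent.Lib.Helper47.FStarQ
import Cfsg.Agent.Lib.Helper47.PMinFam
import Cfsg.Agent.Lib.Helper47.PIrrFam
import Cfsg.Agent.Lib.Helper47.MSSAsym4
import Cfsg.Agent.Lib.Helper47.WClos
import Cfsg.Agent.Lib.Helper47.WC2
import Cfsg.Agent.Lib.Helper23.Large
import Cfsg.Agent.Lib.Helper29.PGroupNorm

/-!
# The L-Lemma: preparations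

Everything happens inside a fixed finite ambient group `G`; all groups are subgroups of `G`.
-/

set_option autoImplicit false
set_option linter.unusedSectionVars false

namespace Cfsg.Agent.Helper47.LLem

open Cfsg Subgroup
open Cfsg.Agent.Helper47

variable {G : Type*} [Group G] [Finite G] {p : ℕ} [Fact p.Prime]

theorem card_lt {X L : Subgroup G} (h : X < L) : Nat.card X < Nat.card L :=
  lt_of_le_of_ne (Subgroup.card_le_of_le h.le)
    (fun e => h.ne (Subgroup.eq_of_le_of_card_ge h.le e.ge))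

theorem cj_eq_of_le {a : G} {X : Subgroup G} (h : cj a X ≤ X) : cj a X = X :=
  Subgroup.eq_of_le_of_card_ge h (card_cj a X).ge

theorem cj_pCoreOf_self {H : Subgroup G} {h : G} (hh : h ∈ H) :
    cj h (pCoreOf p H) = pCoreOf p H := by
  rw [← pCoreOf_cj, cj_eq_self_of_mem hh]

theorem cj_pCoreOf_of_mem {L : Subgroup G} {x : G} (hx : x ∈ L) :
    cj x (pCoreOf p L) = pCoreOf p L := cj_pCoreOf_self hx

/-! ### maximal `p`-subgroups of a subgroup -/

/-- `P` is a maximal `p`-subgroup of `K`. -/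
def IsMaxP (p : ℕ) (P K : Subgroup G) : Prop :=
  P ≤ K ∧ IsPGroup p P ∧ ∀ R : Subgroup G, P ≤ R → R ≤ K → IsPGroup p R → R ≤ P

theorem exists_isMaxP {B K : Subgroup G} (hBK : B ≤ K) (hB : IsPGroup p B) :
    ∃ P, B ≤ P ∧ IsMaxP p P K := by
  let S : Set (Subgroup G) := {R | B ≤ R ∧ R ≤ K ∧ IsPGroup p R}
  have hne : S.Nonempty := ⟨B, le_rfl, hBK, hB⟩
  obtain ⟨P, hPS, hmax⟩ := wellFounded_gt.has_min S hne
  refine ⟨P, hPS.1, hPS.2.1, hPS.2.2, fun R hPR hRK hR => ?_⟩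
  by_contra hne'
  exact hmax R ⟨hPS.1.trans hPR, hRK, hR⟩ (lt_of_le_not_ge hPR hne')

theorem IsMaxP.exists_conj {P K R : Subgroup G} (hP : IsMaxP p P K) (hRK : R ≤ K)
    (hR : IsPGroup p R) : ∃ y ∈ K, cj y R ≤ P := by
  obtain ⟨T, hT⟩ := IsPGroup.exists_le_sylow (hP.2.1.comap_subtype (K := K))
  have hTP : (T : Subgroup K).map K.subtype = P := by
    apply le_antisymm
    · apply hP.2.2
      · intro x hx
        exact ⟨⟨x, hP.1 hx⟩, hT (show (⟨x, hP.1 hx⟩ : K) ∈ P.comap K.subtype from hx), rfl⟩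
      · exact map_subtype_le _
      · exact T.2.map _
    · intro x hx
      exact ⟨⟨x, hP.1 hx⟩, hT (show (⟨x, hP.1 hx⟩ : K) ∈ P.comap K.subtype from hx), rfl⟩
  obtain ⟨k, hk, hle⟩ := exists_le_cj_sylow_of_le K T hR hRK
  refine ⟨k⁻¹, K.inv_mem hk, ?_⟩
  rw [cj_le_iff, inv_inv, ← hTP]
  exact hle

/-! ### the hypothesis -/

/-- `M` is a non-normal proper subgroup of `H`, and the unique maximal subgroup of `H` containing the
`p`-subgroup `W`. -/
structure Hyp (p : ℕ) (H M W : Subgroup G) : Prop where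
  lt : M < H
  nn : ¬ H ≤ normalizer (M : Set G)
  WM : W ≤ M
  Wp : IsPGroup p W
  uniq : ∀ X : Subgroup G, W ≤ X → X < H → X ≤ M

theorem Hyp.cj {H M W : Subgroup G} (h : Hyp p H M W) {g : G} (hg : g ∈ H) :
    Hyp p H (cj g M) (cj g W) where
  lt := by
    have := cj_lt_cj (g := g) h.lt
    rwa [cj_eq_self_of_mem hg] at this
  nn := fun hn => h.nn (by
    rw [normalizer_cj] at hn
    have h1 : Helper47.cj g⁻¹ H ≤ normalizer (M : Set G) := cj_le_iff.mpr (by rwa [inv_inv])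
    rwa [cj_eq_self_of_mem (H.inv_mem hg)] at h1)
  WM := cj_mono h.WM
  Wp := cj_isPGroup h.Wp
  uniq := fun X hWX hXH => by
    have h1 : W ≤ Helper47.cj g⁻¹ X := cj_le_iff.mp hWX
    have h2 : Helper47.cj g⁻¹ X < H := by
      have := cj_lt_cj (g := g⁻¹) hXH
      rwa [cj_eq_self_of_mem (H.inv_mem hg)] at this
    have h3 := cj_le_iff.mp (h.uniq _ h1 h2)
    rwa [inv_inv] at h3

theorem Hyp.max {H M W X : Subgroup G} (h : Hyp p H M W) (hMX : M < X) (hXH : X ≤ H) : X = H := by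
  by_contra hne
  exact (not_le_of_gt hMX) (h.uniq X (h.WM.trans hMX.le) (lt_of_le_of_ne hXH hne))

theorem Hyp.selfnorm {H M W : Subgroup G} (h : Hyp p H M W) {x : G} (hxH : x ∈ H)
    (hxN : x ∈ normalizer (M : Set G)) : x ∈ M := by
  by_contra hxM
  have hMX : M < H ⊓ normalizer (M : Set G) := by
    refine lt_of_le_of_ne (le_inf h.lt.le le_normalizer) ?_
    intro heq
    apply hxM
    rw [heq]
    exact ⟨hxH, hxN⟩
  have := h.max hMX inf_le_left
  exact h.nn (inf_eq_left.mp this)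

theorem Hyp.not_isPGroup {H M W : Subgroup G} (h : Hyp p H M W) : ¬ IsPGroup p H := by
  intro hp
  obtain ⟨x, hxH, hxM, hxN⟩ := Helper29.exists_mem_normalizer_not_mem_of_lt hp h.lt
  exact hxM (h.selfnorm hxH hxN)

theorem Hyp.exists_syl {H M W : Subgroup G} (h : Hyp p H M W) {B : Subgroup G} (hBH : B ≤ H)
    (hB : IsPGroup p B) :
    ∃ g ∈ H, ∃ T₁ : Subgroup G, B ≤ T₁ ∧ T₁ ≤ Helper47.cj g M ∧ IsPGroup p T₁ ∧
      ∀ X : Subgroup G, T₁ ≤ X → X < H → X ≤ Helper47.cj g M := by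
  obtain ⟨T, hWT, hT⟩ := exists_isMaxP (h.WM.trans h.lt.le) h.Wp
  have hTH : T < H := lt_of_le_of_ne hT.1 (fun e => h.not_isPGroup (e ▸ hT.2.1))
  have hTM : T ≤ M := h.uniq T hWT hTH
  obtain ⟨y, hy, hyB⟩ := hT.exists_conj hBH hB
  refine ⟨y⁻¹, H.inv_mem hy, Helper47.cj y⁻¹ T, cj_le_iff.mp hyB, cj_mono hTM,
    cj_isPGroup hT.2.1, ?_⟩
  intro X hTX hXH
  exact (h.cj (H.inv_mem hy)).uniq X ((cj_mono hWT).trans hTX) hXH

/-! ### the conclusion -/

/-- the conclusion of the L-Lemma for the pair `L₀ < L`. -/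
def Concl (p : ℕ) (B L L₀ : Subgroup G) : Prop :=
  B ⊔ pCoreOf p L ≤ L₀ ∧ L₀ < L ∧
  (∀ X : Subgroup G, B ⊔ pCoreOf p L ≤ X → X < L → X ≤ L₀) ∧
  ∀ x ∈ L, x ∉ L₀ → (B ⊔ cj x B) ⊔ pCoreOf p L = L

/-- the L-Lemma holds for `B` in `H`, relative to `M`. -/
def Good (p : ℕ) (H M B : Subgroup G) : Prop :=
  ∃ L : Subgroup G, ∃ g : G, g ∈ H ∧ L ≤ H ∧ B ⊔ pCoreOf p H ≤ L ∧ Concl p B L (L ⊓ cj g M)

theorem Concl.cj {B L L₀ : Subgroup G} (h : Concl p B L L₀) (k : G) :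
    Concl p (cj k B) (cj k L) (cj k L₀) := by
  obtain ⟨h1, h2, h3, h4⟩ := h
  refine ⟨?_, cj_lt_cj h2, ?_, ?_⟩
  · rw [pCoreOf_cj, ← cj_sup]
    exact cj_mono h1
  · intro X hX hXL
    rw [pCoreOf_cj, ← cj_sup, cj_le_iff] at hX
    have hXL' : Helper47.cj k⁻¹ X < L := by
      have := cj_lt_cj (g := k⁻¹) hXL
      rwa [cj_inv_cj] at this
    have h5 := cj_le_iff.mp (h3 _ hX hXL')
    rwa [inv_inv] at h5
  · intro x hxL hxL₀
    have hy : k⁻¹ * x * k ∈ L := mem_cj.mp hxL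
    have hy0 : k⁻¹ * x * k ∉ L₀ := fun hh => hxL₀ (mem_cj.mpr hh)
    have h5 := h4 _ hy hy0
    have e : Helper47.cj x (Helper47.cj k B) = Helper47.cj k (Helper47.cj (k⁻¹ * x * k) B) := by
      rw [← cj_mul, ← cj_mul]
      congr 1
      group
    rw [e, pCoreOf_cj, ← cj_sup, ← cj_sup, h5]

theorem Good.of_cj {H M B : Subgroup G} {h : G} (hh : h ∈ H) (hg : Good p H M (cj h B)) :
    Good p H M B := by
  obtain ⟨L, g, hgH, hLH, hBL, hc⟩ := hg
  refine ⟨cj h⁻¹ L, h⁻¹ * g, H.mul_mem (H.inv_mem hh) hgH, ?_, ?_, ?_⟩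
  · have := cj_mono (a := h⁻¹) hLH
    rwa [cj_eq_self_of_mem (H.inv_mem hh)] at this
  · apply cj_le_iff.mp
    rw [cj_sup, cj_pCoreOf_self hh]
    exact hBL
  · have := hc.cj h⁻¹
    rw [cj_inv_cj, cj_inf, ← cj_mul] at this
    exact this

theorem Good.of_sup {H M B : Subgroup G} (hg : Good p H M (B ⊔ pCoreOf p H)) :
    Good p H M B := by
  obtain ⟨L, g, hgH, hLH, hBL, h1, h2, h3, h4⟩ := hg
  have hQL' : pCoreOf p H ≤ L := le_sup_right.trans hBL
  have hBL' : B ≤ L := (le_sup_left.trans le_sup_left).trans hBL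
  have hQL : pCoreOf p H ≤ pCoreOf p L :=
    Helper23.le_pCoreOf_of_normal_pgroup hQL' (Helper23.pCoreOf_isPGroup H)
      (hLH.trans (Helper23.le_normalizer_pCoreOf H))
  have e : (B ⊔ pCoreOf p H) ⊔ pCoreOf p L = B ⊔ pCoreOf p L := by
    rw [sup_assoc, sup_eq_right.mpr hQL]
  refine ⟨L, g, hgH, hLH, sup_le hBL' hQL', ?_, h2, ?_, ?_⟩
  · rw [← e]; exact h1
  · intro X hX
    rw [← e] at hX
    exact h3 X hX
  · intro x hxL hx0
    have h5 := h4 x hxL hx0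
    have hxQ : Helper47.cj x (pCoreOf p H) = pCoreOf p H := cj_pCoreOf_self (hLH hxL)
    rw [cj_sup, hxQ] at h5
    have hxB : Helper47.cj x B ≤ L := by
      have := cj_mono (a := x) hBL'
      rwa [cj_eq_self_of_mem hxL] at this
    apply le_antisymm
    · exact sup_le (sup_le hBL' hxB) (Helper23.pCoreOf_le L)
    · refine h5.symm.le.trans ?_
      refine sup_le (sup_le (sup_le ?_ ?_) (sup_le ?_ ?_)) le_sup_right
      · exact le_sup_left.trans le_sup_left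
      · exact hQL.trans le_sup_right
      · exact le_sup_right.trans le_sup_left
      · exact hQL.trans le_sup_right

end Cfsg.Agent.Helper47.LLem
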