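import Mathlib
import Cfsg.Agent.Lib.Helper47.LLemA

/-!
# The L-Lemma: the inductive theorem
-/

set_option autoImplicit false
set_option linter.unusedSectionVars false

namespace Cfsg.Agent.Helper47.LLem

open Cfsg Subgroup
open Cfsg.Agent.Helper47

variable {G : Type*} [Group G] [Finite G] {p : ℕ} [Fact p.Prime]

/-- Step 1: a minimal subgroup over `B` not in `cj g M` whose trace on `cj g M` is not normal
gives the conclusion. -/
theorem good_of_umin {H M B L : Subgroup G} {g : G} (hgH : g ∈ H) (hLH : L ≤ H)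
    (hQB : pCoreOf p H ≤ B) (hBp : IsPGroup p B) (hBL : B ≤ L) (hB0 : B ≤ cj g M)
    (hLU : ¬ L ≤ cj g M)
    (hmin : ∀ X : Subgroup G, B ≤ X → X < L → X ≤ cj g M)
    (hnn : ¬ L ≤ normalizer ((L ⊓ cj g M : Subgroup G) : Set G)) : Good p H M B := by
  have hL0 : L ⊓ cj g M < L := lt_of_le_of_ne inf_le_left (fun e => hLU (inf_eq_left.mp e))
  have hB0' : B ≤ L ⊓ cj g M := le_inf hBL hB0
  have hmin' : ∀ X : Subgroup G, B ≤ X → X < L → X ≤ L ⊓ cj g M :=
    fun X h1 h2 => le_inf h2.le (hmin X h1 h2)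
  -- `L₀` is self-normalizing in `L`
  have hself : ∀ x ∈ L, x ∈ normalizer ((L ⊓ cj g M : Subgroup G) : Set G) → x ∈ L ⊓ cj g M := by
    intro x hxL hxN
    by_contra hx0
    have hlt : L ⊓ cj g M < L ⊓ normalizer ((L ⊓ cj g M : Subgroup G) : Set G) := by
      refine lt_of_le_of_ne (le_inf inf_le_left le_normalizer) ?_
      intro heq
      apply hx0
      rw [heq]
      exact ⟨hxL, hxN⟩
    have hNL : L ⊓ normalizer ((L ⊓ cj g M : Subgroup G) : Set G) = L := by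
      by_contra hne
      have := hmin' _ (hB0'.trans hlt.le) (lt_of_le_of_ne inf_le_left hne)
      exact absurd this (not_le_of_gt hlt)
    exact hnn (inf_eq_left.mp hNL)
  have hWp : IsPGroup p (B ⊔ pCoreOf p L : Subgroup G) :=
    IsPGroup.to_sup_of_normal_right' hBp (Helper23.pCoreOf_isPGroup L)
      (hBL.trans (Helper23.le_normalizer_pCoreOf L))
  have hWL : B ⊔ pCoreOf p L ≤ L := sup_le hBL (Helper23.pCoreOf_le L)
  have hWne : B ⊔ pCoreOf p L ≠ L := by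
    intro e
    have hLp : IsPGroup p L := by
      have := hWp
      rwa [e] at this
    obtain ⟨x, hxL, hx0, hxN⟩ := Helper29.exists_mem_normalizer_not_mem_of_lt hLp hL0
    exact hx0 (hself x hxL hxN)
  have hW0 : B ⊔ pCoreOf p L ≤ L ⊓ cj g M := hmin' _ le_sup_left (lt_of_le_of_ne hWL hWne)
  refine ⟨L, g, hgH, hLH, sup_le hBL (hQB.trans hBL), hW0, hL0,
    fun X hX hXL => hmin' X (le_sup_left.trans hX) hXL, ?_⟩
  intro x hxL hx0
  have hxB : cj x B ≤ L := by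
    have := cj_mono (a := x) hBL
    rwa [cj_eq_self_of_mem hxL] at this
  have hXL : (B ⊔ cj x B) ⊔ pCoreOf p L ≤ L := sup_le (sup_le hBL hxB) (Helper23.pCoreOf_le L)
  by_contra hne
  have hX0 := hmin' _ (le_sup_left.trans le_sup_left) (lt_of_le_of_ne hXL hne)
  have hxB0 : cj x B ≤ L ⊓ cj g M := (le_sup_right.trans le_sup_left).trans hX0
  have h1 : B ≤ cj x⁻¹ (L ⊓ cj g M) := cj_le_iff.mp hxB0
  have h2 : cj x⁻¹ (L ⊓ cj g M) < L := by
    have := cj_lt_cj (g := x⁻¹) hL0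
    rwa [cj_eq_self_of_mem (L.inv_mem hxL)] at this
  have h3 := cj_eq_of_le (hmin' _ h1 h2)
  have h4 : x⁻¹ ∈ normalizer ((L ⊓ cj g M : Subgroup G) : Set G) := cj_eq_self_iff.mp h3
  have h5 : x ∈ normalizer ((L ⊓ cj g M : Subgroup G) : Set G) := by
    have := (normalizer ((L ⊓ cj g M : Subgroup G) : Set G)).inv_mem h4
    rwa [inv_inv] at this
  exact hx0 (hself x hxL h5)

/-- Step 2: if the trace is normal then a maximal `p`-subgroup of it containing `B` is normal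
in `L`. -/
theorem bad_struct {B L L₀ : Subgroup G} (hBp : IsPGroup p B) (hB0 : B ≤ L₀) (hL0 : L₀ < L)
    (hmin : ∀ X : Subgroup G, B ≤ X → X < L → X ≤ L₀) (hn : L ≤ normalizer (L₀ : Set G)) :
    ∃ P₀ : Subgroup G, IsPGroup p P₀ ∧ B ≤ P₀ ∧ P₀ ≤ L₀ ∧ L ≤ normalizer (P₀ : Set G) := by
  obtain ⟨P₀, hBP, hP⟩ := exists_isMaxP hB0 hBp
  refine ⟨P₀, hP.2.1, hBP, hP.1, ?_⟩
  by_contra hno
  have hNL : L ⊓ normalizer (P₀ : Set G) < L :=
    lt_of_le_of_ne inf_le_left (fun e => hno (inf_eq_left.mp e))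
  have hBN : B ≤ L ⊓ normalizer (P₀ : Set G) :=
    le_inf (hB0.trans hL0.le) (hBP.trans le_normalizer)
  have hN0 := hmin _ hBN hNL
  apply not_le_of_gt hL0
  intro x hxL
  have hx0 : cj x L₀ = L₀ := cj_eq_self_iff.mpr (hn hxL)
  have h1 : cj x P₀ ≤ L₀ := by
    have := cj_mono (a := x) hP.1
    rwa [hx0] at this
  obtain ⟨y, hy, hyP⟩ := hP.exists_conj h1 (cj_isPGroup hP.2.1)
  rw [← cj_mul] at hyP
  have h2 : y * x ∈ normalizer (P₀ : Set G) := cj_eq_self_iff.mp (cj_eq_of_le hyP)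
  have h3 : y * x ∈ L₀ := hN0 ⟨L.mul_mem (hL0.le hy) hxL, h2⟩
  have : x = y⁻¹ * (y * x) := by group
  rw [this]
  exact L₀.mul_mem (L₀.inv_mem hy) h3

/-- the theorem's statement for a given `H` -/
def ThmAt (p : ℕ) (H : Subgroup G) : Prop :=
  ∀ M W B : Subgroup G, Hyp p H M W → B ≤ H → IsPGroup p B → ¬ B ≤ pCoreOf p H → Good p H M B

/-- Step (★): descending into a proper `L₁` obtained for `P`. -/
theorem star {H M : Subgroup G} (IH : ∀ H' : Subgroup G, H' < H → ThmAt p H')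
    {P L₁ : Subgroup G} {g₁ : G} (hg₁ : g₁ ∈ H) (hL₁H : L₁ < H) (hPp : IsPGroup p P)
    (hPL : P ⊔ pCoreOf p H ≤ L₁) (hc : Concl p P L₁ (L₁ ⊓ cj g₁ M))
    {B' : Subgroup G} (hB'p : IsPGroup p B') (hB'L : B' ≤ L₁) (hB' : ¬ B' ≤ pCoreOf p L₁) :
    Good p H M B' := by
  have hPL₁ : P ≤ L₁ := le_sup_left.trans hPL
  have hyp₁ : Hyp p L₁ (L₁ ⊓ cj g₁ M) (P ⊔ pCoreOf p L₁) := by
    refine ⟨hc.2.1, ?_, hc.1, ?_, hc.2.2.1⟩
    · intro hn
      obtain ⟨x, hxL, hx0⟩ := SetLike.exists_of_lt hc.2.1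
      have e := hc.2.2.2 x hxL hx0
      have hx : cj x (L₁ ⊓ cj g₁ M) = L₁ ⊓ cj g₁ M := cj_eq_self_iff.mpr (hn hxL)
      have h1 : cj x P ≤ L₁ ⊓ cj g₁ M := by
        have := cj_mono (a := x) (le_sup_left.trans hc.1)
        rwa [hx] at this
      have : L₁ ≤ L₁ ⊓ cj g₁ M :=
        e.symm.le.trans (sup_le (sup_le (le_sup_left.trans hc.1) h1) (le_sup_right.trans hc.1))
      exact absurd this (not_le_of_gt hc.2.1)
    · exact IsPGroup.to_sup_of_normal_right' hPp (Helper23.pCoreOf_isPGroup L₁)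
        (hPL₁.trans (Helper23.le_normalizer_pCoreOf L₁))
  obtain ⟨L, g, hgL₁, hLL₁, hB'L', hc'⟩ := IH L₁ hL₁H _ _ B' hyp₁ hB'L hB'p hB'
  have hQ : pCoreOf p H ≤ pCoreOf p L₁ :=
    Helper23.le_pCoreOf_of_normal_pgroup (le_sup_right.trans hPL) (Helper23.pCoreOf_isPGroup H)
      (hL₁H.le.trans (Helper23.le_normalizer_pCoreOf H))
  refine ⟨L, g * g₁, H.mul_mem (hL₁H.le hgL₁) hg₁, hLL₁.trans hL₁H.le, ?_, ?_⟩
  · exact sup_le (le_sup_left.trans hB'L') (hQ.trans (le_sup_right.trans hB'L'))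
  · have e : L ⊓ cj g (L₁ ⊓ cj g₁ M) = L ⊓ cj (g * g₁) M := by
      rw [cj_inf, cj_eq_self_of_mem hgL₁, ← cj_mul, ← inf_assoc, inf_eq_left.mpr hLL₁]
    rw [← e]
    exact hc'

/-- the context of a maximal counterexample -/
structure Ctx (p : ℕ) (H M W B : Subgroup G) : Prop where
  hyp : Hyp p H M W
  IH : ∀ H' : Subgroup G, H' < H → ThmAt p H'
  QB : pCoreOf p H ≤ B
  BH : B ≤ H
  Bp : IsPGroup p B
  BQ : ¬ B ≤ pCoreOf p H
  IH2 : ∀ P : Subgroup G, pCoreOf p H ≤ P → P ≤ H → IsPGroup p P → Nat.card B < Nat.card P →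
    Good p H M P
  bad : ¬ Good p H M B

/-- Claim A: a larger `p`-subgroup generated by conjugates of `B` lies in a unique maximal
subgroup of `H`. -/
theorem Ctx.claimA {H M W B : Subgroup G} (c : Ctx p H M W B) {P : Subgroup G} (hBP : B ≤ P)
    (hPH : P ≤ H) (hPp : IsPGroup p P) (hcard : Nat.card B < Nat.card P)
    (hgen : ∀ Y : Subgroup G, (∀ h ∈ H, Helper47.cj h B ≤ P → Helper47.cj h B ≤ Y) → P ≤ Y) :
    ∃ g₁ ∈ H, P ≤ Helper47.cj g₁ M ∧
      ∀ X : Subgroup G, P ≤ X → X < H → X ≤ Helper47.cj g₁ M := by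
  obtain ⟨L₁, g₁, hg₁, hL₁H, hPL, hc⟩ := c.IH2 P (c.QB.trans hBP) hPH hPp hcard
  by_cases hL : L₁ = H
  · subst hL
    refine ⟨g₁, hg₁, (le_sup_left.trans hc.1).trans inf_le_right, ?_⟩
    intro X hPX hXH
    have hQX : pCoreOf p L₁ ≤ X := (c.QB.trans hBP).trans hPX
    exact (hc.2.2.1 X (sup_le hPX hQX) hXH).trans inf_le_right
  · exfalso
    have hL₁ : L₁ < H := lt_of_le_of_ne hL₁H hL
    have key : ∀ h ∈ H, Helper47.cj h B ≤ P → Helper47.cj h B ≤ pCoreOf p L₁ := by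
      intro h hh hhP
      by_contra hno
      exact c.bad (Good.of_cj hh (star c.IH hg₁ hL₁ hPp hPL hc (cj_isPGroup c.Bp)
        (hhP.trans (le_sup_left.trans hPL)) hno))
    have hPQ : P ≤ pCoreOf p L₁ := hgen _ key
    obtain ⟨x, hxL, hx0⟩ := SetLike.exists_of_lt hc.2.1
    have e := hc.2.2.2 x hxL hx0
    have h1 : Helper47.cj x P ≤ pCoreOf p L₁ := by
      have := cj_mono (a := x) hPQ
      rwa [cj_pCoreOf_of_mem hxL] at this
    have h2 : L₁ ≤ pCoreOf p L₁ := e.symm.le.trans (sup_le (sup_le hPQ h1) le_rfl)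
    exact absurd (h2.trans (le_sup_right.trans hc.1)) (not_le_of_gt hc.2.1)

/-- Step 1 for a counterexample: a minimal `L` whose trace on `cj g M` is normal. -/
theorem Ctx.umin_bad {H M W B : Subgroup G} (c : Ctx p H M W B) {g : G} (hg : g ∈ H)
    (hBg : B ≤ Helper47.cj g M) :
    ∃ L : Subgroup G, B ≤ L ∧ L ≤ H ∧ ¬ L ≤ Helper47.cj g M ∧
      (∀ X : Subgroup G, B ≤ X → X < L → X ≤ Helper47.cj g M) ∧
      L ≤ normalizer ((L ⊓ Helper47.cj g M : Subgroup G) : Set G) := by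
  let S : Set (Subgroup G) := {L | B ≤ L ∧ L ≤ H ∧ ¬ L ≤ Helper47.cj g M}
  have hne : S.Nonempty := ⟨H, c.BH, le_rfl, not_le_of_gt (c.hyp.cj hg).lt⟩
  obtain ⟨L, hLS, hmin⟩ := wellFounded_lt.has_min S hne
  have hmin' : ∀ X : Subgroup G, B ≤ X → X < L → X ≤ Helper47.cj g M := by
    intro X hBX hXL
    by_contra hno
    exact hmin X ⟨hBX, hXL.le.trans hLS.2.1, hno⟩ hXL
  refine ⟨L, hLS.1, hLS.2.1, hLS.2.2, hmin', ?_⟩
  by_contra hnn
  exact c.bad (good_of_umin hg hLS.2.1 c.QB c.Bp hLS.1 hBg hLS.2.2 hmin' hnn)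

/-- Claim B: the normalizer of `B` in `H` lies in no conjugate of `M` containing `B`. -/
theorem Ctx.claimB {H M W B : Subgroup G} (c : Ctx p H M W B) {g : G} (hg : g ∈ H)
    (hBg : B ≤ Helper47.cj g M) : ¬ H ⊓ normalizer (B : Set G) ≤ Helper47.cj g M := by
  intro hN
  obtain ⟨L, hBL, hLH, hLU, hmin, hn⟩ := c.umin_bad hg hBg
  have hL0 : L ⊓ Helper47.cj g M < L :=
    lt_of_le_of_ne inf_le_left (fun e => hLU (inf_eq_left.mp e))
  have hB0 : B ≤ L ⊓ Helper47.cj g M := le_inf hBL hBg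
  have hmin' : ∀ X : Subgroup G, B ≤ X → X < L → X ≤ L ⊓ Helper47.cj g M :=
    fun X h1 h2 => le_inf h2.le (hmin X h1 h2)
  obtain ⟨P₀, hP₀p, hBP₀, hP₀L₀, hLP₀⟩ := bad_struct c.Bp hB0 hL0 hmin' hn
  let S₁ : Subgroup G := sSup {Y | ∃ x ∈ L, Y = Helper47.cj x B}
  have hS1 : ∀ x ∈ L, Helper47.cj x B ≤ S₁ := fun x hx => le_sSup ⟨x, hx, rfl⟩
  have hBS : B ≤ S₁ := by
    have := hS1 1 L.one_mem
    rwa [cj_one] at this
  have hSP : S₁ ≤ P₀ := by
    apply sSup_le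
    rintro _ ⟨x, hx, rfl⟩
    have := cj_mono (a := x) hBP₀
    rwa [cj_eq_self_iff.mpr (hLP₀ hx)] at this
  have hSp : IsPGroup p S₁ := hP₀p.to_le hSP
  have hSH : S₁ ≤ H := hSP.trans (hP₀L₀.trans (inf_le_left.trans hLH))
  by_cases hcard : Nat.card B < Nat.card S₁
  · have hgen : ∀ Y : Subgroup G,
        (∀ h ∈ H, Helper47.cj h B ≤ S₁ → Helper47.cj h B ≤ Y) → S₁ ≤ Y := by
      intro Y hY
      apply sSup_le
      rintro _ ⟨x, hx, rfl⟩
      exact hY x (hLH hx) (hS1 x hx)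
    obtain ⟨g₁, hg₁, hSg₁, huniq⟩ := c.claimA hBS hSH hSp hcard hgen
    obtain ⟨x, hxL, hxU⟩ := SetLike.not_le_iff_exists.mp hLU
    have h1 : S₁ ≤ Helper47.cj g M := hSP.trans (hP₀L₀.trans inf_le_right)
    have h2 : S₁ ≤ Helper47.cj x (Helper47.cj g M) := by
      apply sSup_le
      rintro _ ⟨y, hy, rfl⟩
      have e : Helper47.cj y B = Helper47.cj x (Helper47.cj (x⁻¹ * y) B) := by
        rw [← cj_mul, mul_inv_cancel_left]
      rw [e]
      exact cj_mono ((hS1 _ (L.mul_mem (L.inv_mem hxL) hy)).trans h1)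
    have hxH : x ∈ H := hLH hxL
    have hU1 : Helper47.cj g M < H := (c.hyp.cj hg).lt
    have hU2 : Helper47.cj x (Helper47.cj g M) < H := ((c.hyp.cj hg).cj hxH).lt
    have e1 : Helper47.cj g M = Helper47.cj g₁ M :=
      Subgroup.eq_of_le_of_card_ge (huniq _ h1 hU1) (by rw [card_cj, card_cj])
    have e2 : Helper47.cj x (Helper47.cj g M) = Helper47.cj g₁ M :=
      Subgroup.eq_of_le_of_card_ge (huniq _ h2 hU2) (by rw [card_cj, card_cj, card_cj])
    have hxN : x ∈ normalizer ((Helper47.cj g M : Subgroup G) : Set G) :=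
      cj_eq_self_iff.mp (e2.trans e1.symm)
    exact hxU ((c.hyp.cj hg).selfnorm hxH hxN)
  · have hSB : B = S₁ := Subgroup.eq_of_le_of_card_ge hBS (not_lt.mp hcard)
    have hLN : L ≤ normalizer (B : Set G) := by
      apply le_normalizer_of_cj_le
      intro x hx
      have := hS1 x hx
      rwa [← hSB] at this
    exact hLU ((le_inf hLH hLN).trans hN)

/-- a maximal counterexample does not exist -/
theorem Ctx.false {H M W B : Subgroup G} (c : Ctx p H M W B) : False := by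
  obtain ⟨g, hg, T₁, hBT, hTU, hTp, hTuniq⟩ := c.hyp.exists_syl c.BH c.Bp
  have hBg : B ≤ Helper47.cj g M := hBT.trans hTU
  have hdag := c.claimB hg hBg
  have hNH : H ⊓ normalizer (B : Set G) < H :=
    lt_of_le_of_ne inf_le_left (fun e => c.BQ
      (Helper23.le_pCoreOf_of_normal_pgroup c.BH c.Bp (inf_eq_left.mp e)))
  have hTH : T₁ ≤ H := hTU.trans (c.hyp.cj hg).lt.le
  by_cases hBn : T₁ ≤ normalizer (B : Set G)
  · exact hdag (hTuniq _ (le_inf hTH hBn) hNH)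
  · have hN1 : T₁ ⊓ normalizer (B : Set G) < T₁ :=
      lt_of_le_of_ne inf_le_left (fun e => hBn (inf_eq_left.mp e))
    obtain ⟨τ, hτT, hτN1, hτn⟩ := Helper29.exists_mem_normalizer_not_mem_of_lt hTp hN1
    have h1 : Helper47.cj τ B ≤ T₁ ⊓ normalizer (B : Set G) := by
      have e : Helper47.cj τ (T₁ ⊓ normalizer (B : Set G)) = T₁ ⊓ normalizer (B : Set G) :=
        cj_eq_self_iff.mpr hτn
      rw [← e]
      exact cj_mono (le_inf hBT le_normalizer)
    have hne : Helper47.cj τ B ≠ B := fun e => hτN1 ⟨hτT, cj_eq_self_iff.mp e⟩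
    have hPT : B ⊔ Helper47.cj τ B ≤ T₁ := sup_le hBT (h1.trans inf_le_left)
    have hPp : IsPGroup p (B ⊔ Helper47.cj τ B : Subgroup G) := hTp.to_le hPT
    have hlt : B < B ⊔ Helper47.cj τ B := by
      refine lt_of_le_of_ne le_sup_left (fun e => hne ?_)
      have h2 : Helper47.cj τ B ≤ B := by
        have : Helper47.cj τ B ≤ B ⊔ Helper47.cj τ B := le_sup_right
        rwa [← e] at this
      exact cj_eq_of_le h2
    have hcard := card_lt hlt
    have hgen : ∀ Y : Subgroup G,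
        (∀ h ∈ H, Helper47.cj h B ≤ B ⊔ Helper47.cj τ B → Helper47.cj h B ≤ Y) →
          B ⊔ Helper47.cj τ B ≤ Y := by
      intro Y hY
      refine sup_le ?_ (hY τ (hTH hτT) le_sup_right)
      have := hY 1 H.one_mem (by rw [cj_one]; exact le_sup_left)
      rwa [cj_one] at this
    obtain ⟨g₁, hg₁, hPg₁, huniq⟩ := c.claimA le_sup_left (hPT.trans hTH) hPp hcard hgen
    have hPN : B ⊔ Helper47.cj τ B ≤ H ⊓ normalizer (B : Set G) :=
      sup_le (le_inf c.BH le_normalizer)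
        (le_inf ((h1.trans inf_le_left).trans hTH) (h1.trans inf_le_right))
    exact c.claimB hg₁ (le_sup_left.trans hPg₁) (huniq _ hPN hNH)

theorem core {H M W : Subgroup G} (hyp : Hyp p H M W)
    (IH : ∀ H' : Subgroup G, H' < H → ThmAt p H') :
    ∀ (k : ℕ) (B : Subgroup G), Nat.card H - Nat.card B = k → pCoreOf p H ≤ B → B ≤ H →
      IsPGroup p B → ¬ B ≤ pCoreOf p H → Good p H M B := by
  intro k
  induction k using Nat.strong_induction_on with
  | _ k ih =>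
    intro B hk hQB hBH hBp hBQ
    by_contra hbad
    refine Ctx.false (W := W) ⟨hyp, IH, hQB, hBH, hBp, hBQ, ?_, hbad⟩
    intro P hQP hPH hPp hcard
    have h1 : Nat.card P ≤ Nat.card H := Subgroup.card_le_of_le hPH
    refine ih (Nat.card H - Nat.card P) (by omega) P rfl hQP hPH hPp ?_
    intro hPQ
    have := Subgroup.card_le_of_le (hPQ.trans hQB)
    omega

theorem step {H : Subgroup G} (IH : ∀ H' : Subgroup G, H' < H → ThmAt p H') : ThmAt p H := by
  intro M W B hyp hBH hBp hBQ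
  apply Good.of_sup
  refine core hyp IH _ (B ⊔ pCoreOf p H) rfl le_sup_right
    (sup_le hBH (Helper23.pCoreOf_le H)) ?_ (fun h => hBQ (le_sup_left.trans h))
  exact IsPGroup.to_sup_of_normal_right' hBp (Helper23.pCoreOf_isPGroup H)
    (hBH.trans (Helper23.le_normalizer_pCoreOf H))

/-- **Theorem L.** -/
theorem thm : ∀ (n : ℕ) (H : Subgroup G), Nat.card H = n → ThmAt p H := by
  intro n
  induction n using Nat.strong_induction_on with
  | _ n ih =>
    intro H hn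
    apply step
    intro H' h'
    exact ih (Nat.card H') (hn ▸ card_lt h') H' rfl

theorem thmAt (H : Subgroup G) : ThmAt p H := thm _ H rfl

end Cfsg.Agent.Helper47.LLem
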