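import Mathlib
import Cfsg.Agent.Lib.Helper74.M11Defs

/-!
# Piece (P13) `false_of_sq` of helper74's M11 lemma server (S0434 / S0435).
-/

set_option autoImplicit false

namespace Cfsg.Agent.Helper47.M11

open Cfsg.Agent.Helper74.M11

variable {G : Type*} [Group G] [Finite G]

/-- a subgroup with two distinct nontrivial elements has at least three elements -/
theorem h47_three_le_card {M : Type*} [Group M] [Finite M] (H : Subgroup M) {a b : M}
    (ha : a ∈ H) (hb : b ∈ H) (ha1 : a ≠ 1) (hb1 : b ≠ 1) (hab : a ≠ b) : 3 ≤ Nat.card H := by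
  let f : Fin 3 → H := ![1, ⟨a, ha⟩, ⟨b, hb⟩]
  have hf : Function.Injective f := by
    intro i j h
    fin_cases i <;> fin_cases j <;> simp [f, Subtype.ext_iff] at h ⊢
    all_goals
      first
        | exact absurd h ha1
        | exact absurd h hb1
        | exact absurd h hab
        | exact absurd h.symm ha1
        | exact absurd h.symm hb1
        | exact absurd h.symm hab
  have := Nat.card_le_card_of_injective f hf
  simpa using this

/-- a group of order 8 whose centre contains a subgroup of order 2 and an element outside it is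
commutative -/
theorem h47_comm_of_center {M : Type*} [Group M] [Finite M] (h8 : Nat.card M = 8)
    (K : Subgroup M) (hK2 : Nat.card K = 2) (hKc : K ≤ Subgroup.center M)
    (x : M) (hxc : x ∈ Subgroup.center M) (hxK : x ∉ K) : ∀ a b : M, a * b = b * a := by
  have h2dvd : 2 ∣ Nat.card (Subgroup.center M) := hK2 ▸ Subgroup.card_dvd_of_le hKc
  have hdvd8 : Nat.card (Subgroup.center M) ∣ 8 := h8 ▸ Subgroup.card_subgroup_dvd_card _
  have hne2 : Nat.card (Subgroup.center M) ≠ 2 := by
    intro h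
    have := Subgroup.eq_of_le_of_card_ge hKc (by rw [h, hK2])
    exact hxK (this ▸ hxc)
  have hmul := Subgroup.card_mul_index (Subgroup.center M)
  rw [h8] at hmul
  have hle8 : Nat.card (Subgroup.center M) ≤ 8 := Nat.le_of_dvd (by norm_num) hdvd8
  have hcases : Nat.card (Subgroup.center M) = 4 ∨ Nat.card (Subgroup.center M) = 8 := by
    have hpos : 0 < Nat.card (Subgroup.center M) := Nat.card_pos
    interval_cases h : Nat.card (Subgroup.center M) <;> simp_all
  intro a b
  rcases hcases with h4 | h8'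
  · have hidx : (Subgroup.center M).index = 2 := by rw [h4] at hmul; omega
    by_cases ha : a ∈ Subgroup.center M
    · exact (Subgroup.mem_center_iff.mp ha b).symm
    by_cases hb : b ∈ Subgroup.center M
    · exact Subgroup.mem_center_iff.mp hb a
    have hab : a⁻¹ * b ∈ Subgroup.center M := by
      rw [Subgroup.mul_mem_iff_of_index_two hidx, inv_mem_iff]
      exact ⟨fun h => absurd h ha, fun h => absurd h hb⟩
    have hc := Subgroup.mem_center_iff.mp hab a
    have : b = a⁻¹ * b * a := by rw [← hc]; group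
    calc a * b = a * (a⁻¹ * b * a) := by rw [← this]
      _ = b * a := by group
  · have htop : Subgroup.center M = ⊤ := by
      apply Subgroup.eq_top_of_card_eq
      rw [h8', h8]
    have ha : a ∈ Subgroup.center M := htop ▸ Subgroup.mem_top a
    exact (Subgroup.mem_center_iff.mp ha b).symm

/-- in a commutative group of order 8 two distinct involutions cannot both be squares -/
theorem h47_sq_false {M : Type*} [Group M] [Finite M] (h8 : Nat.card M = 8)
    (hcomm : ∀ a b : M, a * b = b * a) (t t' v w : M) (ht : t ^ 2 = 1) (ht' : t' ^ 2 = 1)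
    (ht1 : t ≠ 1) (ht'1 : t' ≠ 1) (hne : t ≠ t') (hv : v ^ 2 = t) (hw : w ^ 2 = t') : False := by
  let f : M →* M := MonoidHom.mk' (fun a => a ^ 2) (fun a b => Commute.mul_pow (hcomm a b) 2)
  have hker : 3 ≤ Nat.card f.ker :=
    h47_three_le_card f.ker (a := t) (b := t') (MonoidHom.mem_ker.mpr ht) (MonoidHom.mem_ker.mpr ht')
      ht1 ht'1 hne
  have hrange : 3 ≤ Nat.card f.range :=
    h47_three_le_card f.range (a := t) (b := t') ⟨v, hv⟩ ⟨w, hw⟩ ht1 ht'1 hne
  have h1 := Subgroup.card_mul_index f.ker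
  rw [Subgroup.index_ker, h8] at h1
  have hk : Nat.card f.ker ∣ 8 := Dvd.intro _ h1
  have hk8 : Nat.card f.ker ≤ 8 := Nat.le_of_dvd (by norm_num) hk
  interval_cases hh : Nat.card f.ker <;> omega

/-- normalisers grow: a proper subgroup `T` of a Sylow subgroup `P` is normalised by some element
of `P` outside `T` -/
theorem h47_exists_normalizing {p : ℕ} [Fact p.Prime] (P : Sylow p G) (T : Subgroup G)
    (hle : T ≤ (P : Subgroup G)) (hne : T ≠ (P : Subgroup G)) :
    ∃ s ∈ (P : Subgroup G), s ∉ T ∧ ∀ x : G, x ∈ T ↔ s * x * s⁻¹ ∈ T := by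
  have hnle : ¬ (P : Subgroup G) ≤ T := fun h => hne (le_antisymm hle h)
  have hnil : Group.IsNilpotent ↥(P : Subgroup G) := P.isPGroup'.isNilpotent
  have hlt : T.subgroupOf (P : Subgroup G) < ⊤ := by
    rw [lt_top_iff_ne_top, Ne, Subgroup.subgroupOf_eq_top]
    exact hnle
  have hgrow := Group.normalizerCondition_of_isNilpotent (G := ↥(P : Subgroup G)) _ hlt
  obtain ⟨g, hgN, hgS⟩ := SetLike.exists_of_lt hgrow
  rw [Subgroup.mem_subgroupOf] at hgS
  refine ⟨(g : G), g.2, hgS, ?_⟩
  rw [Subgroup.mem_normalizer_iff] at hgN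
  intro y
  constructor
  · intro hy
    have := (hgN ⟨y, hle hy⟩).mp (by rw [Subgroup.mem_subgroupOf]; exact hy)
    rw [Subgroup.mem_subgroupOf] at this
    exact this
  · intro hy
    have hyP : y ∈ (P : Subgroup G) := by
      have h1 : (g : G)⁻¹ * ((g : G) * y * (g : G)⁻¹) * (g : G) ∈ (P : Subgroup G) :=
        Subgroup.mul_mem _ (Subgroup.mul_mem _ (Subgroup.inv_mem _ g.2) (hle hy)) g.2
      have h2 : (g : G)⁻¹ * ((g : G) * y * (g : G)⁻¹) * (g : G) = y := by group
      rw [h2] at h1; exact h1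
    have := (hgN ⟨y, hyP⟩).mpr (by rw [Subgroup.mem_subgroupOf]; exact hy)
    rw [Subgroup.mem_subgroupOf] at this
    exact this


/-- piece (P13) -/
theorem false_of_sq (hc : Nat.card G = 7920) (t v : G) (ht : orderOf t = 2) (hv : v ^ 2 = t)
    (h8 : 8 ∣ Nat.card (Cen t)) (h16 : ¬ 16 ∣ Nat.card (Cen t)) : False := by
  haveI : Fact (Nat.Prime 2) := ⟨Nat.prime_two⟩
  have ht2 : t ^ 2 = 1 := by rw [← ht]; exact pow_orderOf_eq_one t
  have ht1 : t ≠ 1 := by
    intro h
    rw [h, orderOf_one] at ht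
    omega
  have hvC : v ∈ Cen t := by
    rw [Subgroup.mem_centralizer_singleton_iff, ← hv]; group
  have hv4 : v ^ 4 = 1 := by
    have : v ^ 4 = (v ^ 2) ^ 2 := by rw [← pow_mul]
    rw [this, hv, ht2]
  -- a Sylow 2-subgroup `T'` of `C(t)` containing `v`
  have hK0 : IsPGroup 2 (Subgroup.zpowers (⟨v, hvC⟩ : ↥(Cen t))) := by
    have h4 : (⟨v, hvC⟩ : ↥(Cen t)) ^ (2 ^ 2) = 1 := by
      apply Subtype.ext
      simpa using hv4
    obtain ⟨k, -, hk⟩ := (Nat.dvd_prime_pow Nat.prime_two).mp (orderOf_dvd_of_pow_eq_one h4)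
    exact IsPGroup.of_card (n := k) (by rw [Nat.card_zpowers, hk])
  obtain ⟨T', hT'⟩ := hK0.exists_le_sylow
  have hn0 : Nat.card (Cen t) ≠ 0 := Nat.card_pos.ne'
  have hfac : (Nat.card (Cen t)).factorization 2 = 3 := by
    have h3 : 3 ≤ (Nat.card (Cen t)).factorization 2 :=
      (Nat.prime_two.pow_dvd_iff_le_factorization hn0).mp (by norm_num; exact h8)
    have h4 : ¬ 4 ≤ (Nat.card (Cen t)).factorization 2 := fun h => h16 (by
      have := (Nat.prime_two.pow_dvd_iff_le_factorization hn0).mpr h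
      norm_num at this
      exact this)
    omega
  have hT'8 : Nat.card (T' : Subgroup ↥(Cen t)) = 8 := by
    rw [T'.card_eq_multiplicity, hfac]; norm_num
  set T : Subgroup G := (T' : Subgroup ↥(Cen t)).map (Cen t).subtype with hT
  have hT8 : Nat.card T = 8 := by
    rw [hT, Subgroup.card_map_of_injective (Cen t).subtype_injective, hT'8]
  have hTC : T ≤ Cen t := Subgroup.map_subtype_le _
  have hvT : v ∈ T := ⟨⟨v, hvC⟩, hT' (Subgroup.mem_zpowers _), rfl⟩
  have htT : t ∈ T := hv ▸ T.pow_mem hvT 2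
  have hT2 : IsPGroup 2 T := T'.isPGroup'.map _
  -- a Sylow 2-subgroup `S` of `G` containing `T`
  obtain ⟨S, hTS⟩ := hT2.exists_le_sylow
  have hS16 : 2 ^ 4 ∣ Nat.card (S : Subgroup G) :=
    S.pow_dvd_card_of_pow_dvd_card (by rw [hc]; norm_num)
  have hTneS : T ≠ (S : Subgroup G) := by
    intro h
    rw [← h, hT8] at hS16
    norm_num at hS16
  obtain ⟨s, hsS, hsT, hsN⟩ := h47_exists_normalizing S T hTS hTneS
  -- `s ∉ C(t)`
  have hsC : s ∉ Cen t := by
    intro hsC
    have hQ : IsPGroup 2 ↥(((S : Subgroup G) ⊓ Cen t).subgroupOf (Cen t)) :=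
      (S.isPGroup'.to_le inf_le_left).comap_subtype
    have hle : (T' : Subgroup ↥(Cen t)) ≤ ((S : Subgroup G) ⊓ Cen t).subgroupOf (Cen t) := by
      intro x hx
      rw [Subgroup.mem_subgroupOf]
      exact ⟨hTS ⟨x, hx, rfl⟩, x.2⟩
    have heq := T'.is_maximal' hQ hle
    have hs' : (⟨s, hsC⟩ : ↥(Cen t)) ∈ ((S : Subgroup G) ⊓ Cen t).subgroupOf (Cen t) := by
      rw [Subgroup.mem_subgroupOf]; exact ⟨hsS, hsC⟩
    rw [heq] at hs'
    exact hsT ⟨⟨s, hsC⟩, hs', rfl⟩
  -- the second involution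
  have ht'T : s * t * s⁻¹ ∈ T := (hsN t).mp htT
  have hwT : s * v * s⁻¹ ∈ T := (hsN v).mp hvT
  have hne : t ≠ s * t * s⁻¹ := by
    intro h
    apply hsC
    rw [Subgroup.mem_centralizer_singleton_iff]
    have h' : s * t * s⁻¹ = t := h.symm
    rw [mul_inv_eq_iff_eq_mul] at h'
    exact h'
  have ht'2 : (s * t * s⁻¹) ^ 2 = 1 := by rw [conj_pow, ht2]; group
  have ht'1 : s * t * s⁻¹ ≠ 1 := by
    intro h
    apply ht1
    have : t = s⁻¹ * (s * t * s⁻¹) * s := by group
    rw [this, h]; group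
  have hw2 : (s * v * s⁻¹) ^ 2 = s * t * s⁻¹ := by rw [conj_pow, hv]
  -- `T` is commutative
  have hcomm : ∀ a b : ↥T, a * b = b * a := by
    apply h47_comm_of_center hT8 (Subgroup.zpowers (⟨t, htT⟩ : ↥T)) ?_ ?_ ⟨s * t * s⁻¹, ht'T⟩ ?_ ?_
    · rw [Nat.card_zpowers, ← Subgroup.orderOf_coe]; exact ht
    · rw [Subgroup.zpowers_le, Subgroup.mem_center_iff]
      intro y
      apply Subtype.ext
      exact Subgroup.mem_centralizer_singleton_iff.mp (hTC y.2)
    · rw [Subgroup.mem_center_iff]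
      intro y
      apply Subtype.ext
      show (y : G) * (s * t * s⁻¹) = (s * t * s⁻¹) * (y : G)
      have hy' : s⁻¹ * (y : G) * s ∈ T := by
        rw [hsN]
        have : s * (s⁻¹ * (y : G) * s) * s⁻¹ = (y : G) := by group
        rw [this]; exact y.2
      have hc := Subgroup.mem_centralizer_singleton_iff.mp (hTC hy')
      calc (y : G) * (s * t * s⁻¹) = s * ((s⁻¹ * (y : G) * s) * t) * s⁻¹ := by group
        _ = s * (t * (s⁻¹ * (y : G) * s)) * s⁻¹ := by rw [hc]
        _ = (s * t * s⁻¹) * (y : G) := by group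
    · intro hmem
      obtain ⟨k, hk⟩ := Subgroup.mem_zpowers_iff.mp hmem
      have hk' : t ^ k = s * t * s⁻¹ := by
        have := congrArg Subtype.val hk
        simpa using this
      rw [← zpow_mod_orderOf, ht] at hk'
      rcases Int.emod_two_eq_zero_or_one k with h0 | h1
      · rw [show ((2 : ℕ) : ℤ) = 2 from rfl, h0, zpow_zero] at hk'
        exact ht'1 hk'.symm
      · rw [show ((2 : ℕ) : ℤ) = 2 from rfl, h1, zpow_one] at hk'
        exact hne hk'
  exact h47_sq_false hT8 hcomm ⟨t, htT⟩ ⟨s * t * s⁻¹, ht'T⟩ ⟨v, hvT⟩ ⟨s * v * s⁻¹, hwT⟩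
    (Subtype.ext (by simpa using ht2)) (Subtype.ext (by simpa using ht'2))
    (fun h => ht1 (congrArg Subtype.val h)) (fun h => ht'1 (congrArg Subtype.val h))
    (fun h => hne (congrArg Subtype.val h)) (Subtype.ext (by simpa using hv))
    (Subtype.ext (by simpa using hw2))

end Cfsg.Agent.Helper47.M11
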