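import Mathlib
import Cfsg.Agent.Lib.Helper47.MSSAsym6
import Cfsg.Agent.Lib.Helper52.FrattiniCoprime

set_option autoImplicit false
set_option linter.unusedSectionVars false
set_option linter.style.haveILetI false

/-!
# A criterion for `Y ≤ O_p(L)`
-/

namespace Cfsg.Agent.Helper47

open Cfsg Subgroup
open scoped commutatorElement

section main

variable {G : Type*} [Group G] [Finite G] {p : ℕ} [Fact p.Prime]
variable {S : Sylow p G} {Q M : Subgroup G}

theorem normalizer_le_normalizer_commutator_self (A : Subgroup G) :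
    normalizer (A : Set G) ≤ normalizer ((⁅A, A⁆ : Subgroup G) : Set G) := fun _ hx =>
  normalizer_inf_normalizer_le_normalizer_commutator A A ⟨hx, hx⟩

theorem Std.le_pCoreOf_of_commutator_le (h : Std p S Q M) {I Y L A : Subgroup G}
    (hI1 : I ≠ ⊥) (hIp : IsPGroup p I) (hMI : M ≤ normalizer (I : Set G))
    (hY : Y ≤ pCoreOf p (dag p M)) (hYL : Y ≤ L) (hAp : IsPGroup p A)
    (hLA : L ≤ normalizer (A : Set G)) (hIA : I ≤ A) (hc : ⁅Y, A⁆ ≤ ⁅I, A⁆) :
    Y ≤ pCoreOf p L := by
  have hYp : IsPGroup p Y := (Helper48.isPGroup_pCoreOf (dag p M)).to_le hY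
  have hYN : Y ≤ normalizer (A : Set G) := hYL.trans hLA
  have hNA' : normalizer (A : Set G) ≤ normalizer ((⁅A, A⁆ : Subgroup G) : Set G) :=
    normalizer_le_normalizer_commutator_self A
  -- `X = ⟨Y^N⟩` acts trivially on `A/A'`
  have hYcs : Y ≤ commStab A ⁅A, A⁆ := by
    apply le_commStab (hYN.trans hNA')
    rw [commutator_comm]
    exact hc.trans (commutator_mono hIA le_rfl)
  have hNcs : normalizer (A : Set G) ≤ normalizer (commStab A ⁅A, A⁆ : Set G) := fun x hx =>
    normalizer_inf_le_normalizer_commStab _ _ ⟨hx, hNA' hx⟩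
  have hXcs : nclIn Y (normalizer (A : Set G)) ≤ commStab A ⁅A, A⁆ :=
    nclIn_le_of_le_normalizer hYcs hNcs
  have hXN : nclIn Y (normalizer (A : Set G)) ≤ normalizer (A : Set G) := nclIn_le _ _
  -- `O^p(X)` centralizes `A`
  have hRD : pResOf p (nclIn Y (normalizer (A : Set G))) ≤ centralizer (A : Set G) := by
    show (pResidual p ↥(nclIn Y (normalizer (A : Set G)))).map
      (nclIn Y (normalizer (A : Set G))).subtype ≤ _
    rw [map_pResidual_eq_closure, closure_le]
    rintro x ⟨hxX, hxc⟩
    have h1 : A ≤ centralizer ((zpowers x : Subgroup G) : Set G) := by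
      apply Helper52.le_centralizer_of_commutator_le_commutator A (zpowers x) hAp
      · rw [Nat.card_zpowers]
        exact (Nat.Prime.coprime_iff_not_dvd Fact.out).mp hxc.symm
      · rw [zpowers_le]; exact hXN hxX
      · rw [commutator_le]
        intro a ha z hz
        exact (commutator_commStab_le A ⁅A, A⁆)
          (commutator_mem_commutator ha ((zpowers_le.mpr (hXcs hxX)) hz))
    have h2 := le_centralizer_iff.mp h1
    exact h2 (mem_zpowers x)
  -- `D = C_G(A) ≤ M†`
  have hDM : centralizer (A : Set G) ≤ dag p M :=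
    ((centralizer_le (by exact_mod_cast hIA)).trans (centralizer_le_normalizer _)).trans
      (h.normalizer_le_dag hIp hI1 hMI)
  have hND : normalizer (A : Set G) ≤ normalizer ((centralizer (A : Set G) : Subgroup G) : Set G) :=
    normalizer_le_normalizer_centralizer A
  -- `[D, Y] ≤ O_p(D)`
  have hDY : ⁅centralizer (A : Set G), Y⁆ ≤ pCoreOf p (centralizer (A : Set G)) := by
    have h1 : ⁅centralizer (A : Set G), Y⁆ ≤ centralizer (A : Set G) :=
      Helper1.commutator_le_of_le_normalizer (hYN.trans hND)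
    have h2 : ⁅centralizer (A : Set G), Y⁆ ≤ pCoreOf p (dag p M) := by
      refine (commutator_mono le_rfl hY).trans ?_
      rw [commutator_comm]
      exact Helper1.commutator_le_of_le_normalizer (hDM.trans (Helper48.le_normalizer_pCoreOf _))
    apply (le_inf h2 h1).trans
    apply le_pCoreOf inf_le_right _ ((Helper48.isPGroup_pCoreOf _).to_le inf_le_left)
    intro x hx
    exact Helper48.mem_normalizer_inf' (Helper48.le_normalizer_pCoreOf _ (hDM hx)) (le_normalizer hx)
  have hNOD : normalizer (A : Set G) ≤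
      normalizer (pCoreOf p (centralizer (A : Set G)) : Set G) :=
    hND.trans (normalizer_le_normalizer_pCoreOf _)
  have hYcs2 : Y ≤ commStab (centralizer (A : Set G)) (pCoreOf p (centralizer (A : Set G))) :=
    le_commStab (hYN.trans hNOD) hDY
  have hXcs2 : nclIn Y (normalizer (A : Set G)) ≤
      commStab (centralizer (A : Set G)) (pCoreOf p (centralizer (A : Set G))) :=
    nclIn_le_of_le_normalizer hYcs2 (fun x hx =>
      normalizer_inf_le_normalizer_commStab _ _ ⟨hND hx, hNOD hx⟩)
  -- `Y ≤ O_p(X)`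
  have hYX : Y ≤ pCoreOf p (nclIn Y (normalizer (A : Set G))) := by
    apply le_pCoreOf_of_commutator_mem _ (le_nclIn hYN) hYp
    intro v hv r hr
    have h1 : ⁅r, v⁆ ∈ pCoreOf p (centralizer (A : Set G)) := (hXcs2 hv).2 r (hRD hr)
    have h2 : ⁅v, r⁆ ∈ pCoreOf p (centralizer (A : Set G)) := by
      rw [← commutatorElement_inv]; exact inv_mem h1
    have h3 : ⁅v, r⁆ ∈ nclIn Y (normalizer (A : Set G)) := by
      rw [commutatorElement_def]
      exact mul_mem (mul_mem (mul_mem hv (pResOf_le _ hr)) (inv_mem hv)) (inv_mem (pResOf_le _ hr))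
    have h4 : pCoreOf p (centralizer (A : Set G)) ⊓ nclIn Y (normalizer (A : Set G)) ≤
        pCoreOf p (nclIn Y (normalizer (A : Set G))) := by
      apply le_pCoreOf inf_le_right _ ((Helper48.isPGroup_pCoreOf _).to_le inf_le_left)
      intro x hx
      exact Helper48.mem_normalizer_inf' (hNOD (hXN hx)) (le_normalizer hx)
    exact h4 ⟨h2, h3⟩
  have h10 : pCoreOf p (nclIn Y (normalizer (A : Set G))) ≤ pCoreOf p (normalizer (A : Set G)) :=
    pCoreOf_le_pCoreOf_of_le_normalizer hXN (le_normalizer_nclIn _ _)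
  have h11 : pCoreOf p (normalizer (A : Set G)) ⊓ L ≤ pCoreOf p L := by
    apply le_pCoreOf inf_le_right _ ((Helper48.isPGroup_pCoreOf _).to_le inf_le_left)
    intro x hx
    exact Helper48.mem_normalizer_inf' (Helper48.le_normalizer_pCoreOf _ (hLA hx)) (le_normalizer hx)
  exact (le_inf (hYX.trans h10) hYL).trans h11

end main

end Cfsg.Agent.Helper47
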