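import Mathlib
import Cfsg.Agent.Lib.Helper25.N5400Defs

/-!
# N5400 (FIN) — helper47 for helper25's sub-server (#7235, S0983 order 5400)

`false_of_two`: `N(P)` permutes the two shared subgroups, so `150 ≤ 2 * 50`.
-/

set_option autoImplicit false

namespace Cfsg.Agent.Helper47.N5400

open Cfsg MulAction Cfsg.Agent.Helper25.N5400

universe u

variable {G : Type u} [Group G] [Finite G]

omit [Finite G] in
theorem h47_map_conj_mul (F : Subgroup G) (a b : G) :
    (F.map (MulAut.conj b : G →* G)).map (MulAut.conj a : G →* G) =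
      F.map (MulAut.conj (a * b) : G →* G) := by
  rw [Subgroup.map_map]
  congr 1
  ext x
  simp [mul_assoc]

omit [Finite G] in
theorem h47_shared_conj (P : Sylow 5 G) (F : Subgroup G) (hF : Shared P F) (g : G)
    (hg : g ∈ Subgroup.normalizer ((P : Subgroup G) : Set G)) :
    Shared P (F.map (MulAut.conj g : G →* G)) := by
  obtain ⟨hFP, hF5, R, hRP, hFR⟩ := hF
  have hPg : (P : Subgroup G).map (MulAut.conj g : G →* G) = P :=
    Subgroup.mem_normalizer_iff_map_conj_eq.mp hg
  refine ⟨?_, ?_, g • R, ?_, ?_⟩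
  · rw [← hPg]
    exact Subgroup.map_mono hFP
  · rw [Subgroup.card_map_of_injective (MulAut.conj g).injective, hF5]
  · intro h
    apply hRP
    have h1 : g • P = P := Sylow.smul_eq_iff_mem_normalizer.mpr hg
    rw [← h1] at h
    exact smul_left_cancel g h
  · have h1 : ((g • R : Sylow 5 G) : Subgroup G) = (R : Subgroup G).map (MulAut.conj g : G →* G) := rfl
    rw [h1]
    exact Subgroup.map_mono hFR

/-- (FIN) -/
theorem false_of_two (P : Sylow 5 G)
    (hN : Nat.card ↥(Subgroup.normalizer ((P : Subgroup G) : Set G)) = 150)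
    (hl : Nat.card {F : Subgroup G // Shared P F} = 2)
    (h50 : ∀ F : Subgroup G, Shared P F →
      Nat.card ↥(Subgroup.normalizer ((P : Subgroup G) : Set G) ⊓ Subgroup.normalizer (F : Set G)) = 50) :
    False := by
  classical
  have hX : Nonempty {F : Subgroup G // Shared P F} := by
    by_contra h
    rw [not_nonempty_iff] at h
    rw [Nat.card_of_isEmpty] at hl
    omega
  obtain ⟨⟨F₁, hF₁⟩⟩ := hX
  let f : ↥(Subgroup.normalizer ((P : Subgroup G) : Set G)) → {F : Subgroup G // Shared P F} :=
    fun g => ⟨F₁.map (MulAut.conj (g : G) : G →* G), h47_shared_conj P F₁ hF₁ g g.2⟩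
  have hfib : ∀ x, Nat.card {g : ↥(Subgroup.normalizer ((P : Subgroup G) : Set G)) // f g = x} ≤ 50 := by
    intro x
    by_cases hx : ∃ h, f h = x
    · obtain ⟨h, hh⟩ := hx
      rw [← h50 F₁ hF₁]
      have hmem : ∀ g : {g : ↥(Subgroup.normalizer ((P : Subgroup G) : Set G)) // f g = x},
          (h : G)⁻¹ * (g.1 : G) ∈ Subgroup.normalizer ((P : Subgroup G) : Set G) ⊓
            Subgroup.normalizer (F₁ : Set G) := by
        intro g
        refine Subgroup.mem_inf.mpr ⟨Subgroup.mul_mem _ (Subgroup.inv_mem _ h.2) g.1.2, ?_⟩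
        rw [Subgroup.mem_normalizer_iff_map_conj_eq, ← h47_map_conj_mul]
        have h1 : F₁.map (MulAut.conj (g.1 : G) : G →* G) = F₁.map (MulAut.conj (h : G) : G →* G) := by
          have := g.2.trans hh.symm
          exact congrArg Subtype.val this
        rw [h1, h47_map_conj_mul, inv_mul_cancel]
        ext y
        simp
      refine Nat.card_le_card_of_injective (fun g => ⟨(h : G)⁻¹ * (g.1 : G), hmem g⟩) ?_
      intro g g' hgg'
      have h2 : (h : G)⁻¹ * (g.1 : G) = (h : G)⁻¹ * (g'.1 : G) := congrArg Subtype.val hgg'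
      exact Subtype.ext (Subtype.ext (mul_left_cancel h2))
    · have : IsEmpty {g : ↥(Subgroup.normalizer ((P : Subgroup G) : Set G)) // f g = x} :=
        ⟨fun g => hx ⟨g.1, g.2⟩⟩
      rw [Nat.card_of_isEmpty]
      omega
  have hsum : Nat.card ↥(Subgroup.normalizer ((P : Subgroup G) : Set G)) =
      Nat.card (Σ x, {g : ↥(Subgroup.normalizer ((P : Subgroup G) : Set G)) // f g = x}) :=
    Nat.card_congr (Equiv.sigmaFiberEquiv f).symm
  have : Fintype {F : Subgroup G // Shared P F} := Fintype.ofFinite _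
  rw [Nat.card_sigma, hN] at hsum
  have hle : ∑ x : {F : Subgroup G // Shared P F},
      Nat.card {g : ↥(Subgroup.normalizer ((P : Subgroup G) : Set G)) // f g = x} ≤
      ∑ _x : {F : Subgroup G // Shared P F}, 50 := Finset.sum_le_sum (fun x _ => hfib x)
  rw [Finset.sum_const, Finset.card_univ, ← Nat.card_eq_fintype_card, hl] at hle
  rw [smul_eq_mul] at hle
  omega

end Cfsg.Agent.Helper47.N5400
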