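import Mathlib
import Cfsg.Agent.S1017

/-!
# O5760 (C36b) — helper47 for helper7's server (#6832, S0980)

`exists_complement_K`: the normal 5-complement of `C(R)` (Schur–Zassenhaus), invariant under `N(R)`.
-/

set_option autoImplicit false

namespace Cfsg.Agent.Helper47.O5760

universe u

theorem exists_complement_K {G : Type u} [Group G] [Finite G] (R : Sylow 5 G)
    (hR : Nat.card (R : Subgroup G) = 5) (c : ℕ) (hc : Nat.Coprime c 5)
    (hC : Nat.card (Subgroup.centralizer ((R : Subgroup G) : Set G)) = 5 * c) :
    ∃ K : Subgroup G, K ≤ Subgroup.centralizer ((R : Subgroup G) : Set G) ∧ Nat.card K = c ∧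
      ∀ n ∈ Subgroup.normalizer ((R : Subgroup G) : Set G), ∀ k ∈ K, n * k * n⁻¹ ∈ K := by
  classical
  have : Fact (Nat.Prime 5) := ⟨by norm_num⟩
  set C : Subgroup G := Subgroup.centralizer ((R : Subgroup G) : Set G) with hCdef
  have hRC : (R : Subgroup G) ≤ C := Cfsg.Agent.S1017.le_centralizer_self R hR
  have hcpos : 0 < c := by
    rcases Nat.eq_zero_or_pos c with h | h
    · rw [h, Nat.mul_zero] at hC
      exact absurd hC Nat.card_pos.ne'
    · exact h
  -- R' = R inside C: central of order 5
  set R' : Subgroup C := (R : Subgroup G).subgroupOf C with hR'def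
  have hR'card : Nat.card R' = 5 := by
    rw [← hR]
    exact Nat.card_congr (Subgroup.subgroupOfEquivOfLe hRC).toEquiv
  have hcentral : ∀ r ∈ R', ∀ g : C, Commute r g := by
    intro r hr g
    have hr' : (r : G) ∈ (R : Subgroup G) := hr
    have : (r : G) * (g : G) = (g : G) * (r : G) :=
      (Subgroup.mem_centralizer_iff.mp g.2 (r : G) hr')
    exact Subtype.ext this
  have : R'.Normal := by
    constructor
    intro r hr g
    have := (hcentral r hr g).eq
    have h2 : g * r * g⁻¹ = r := by
      rw [← this, mul_inv_cancel_right]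
    rw [h2]; exact hr
  have hidx : R'.index = c := by
    have h := R'.card_mul_index
    rw [hR'card, hC] at h
    exact Nat.eq_of_mul_eq_mul_left (by norm_num) h
  obtain ⟨K', hK'⟩ := Subgroup.exists_right_complement'_of_coprime (N := R')
    (by rw [hR'card, hidx]; exact hc.symm)
  have hK'card : Nat.card K' = c := by
    have h := hK'.card_mul_card
    rw [hR'card, hC] at h
    exact Nat.eq_of_mul_eq_mul_left (by norm_num) h
  -- characterization: g ^ c = 1 → g ∈ K'
  have hchar : ∀ g : C, g ^ c = 1 → g ∈ K' := by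
    intro g hg
    obtain ⟨⟨r, k⟩, hrk, -⟩ := (Subgroup.isComplement_iff_existsUnique.mp hK') g
    simp only at hrk
    have hkc : (k : C) ^ c = 1 := by
      have := pow_card_eq_one' (G := K') (x := k)
      rw [hK'card] at this
      have h2 := congrArg (Subtype.val) this
      simpa using h2
    have hcomm : Commute (r : C) (k : C) := hcentral r r.2 k
    have hrc : (r : C) ^ c = 1 := by
      have := hcomm.mul_pow c
      rw [hrk, hg, hkc, mul_one] at this
      exact this.symm
    have hr5 : (r : C) ^ 5 = 1 := by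
      have := pow_card_eq_one' (G := R') (x := r)
      rw [hR'card] at this
      have h2 := congrArg (Subtype.val) this
      simpa using h2
    have hr1 : (r : C) = 1 := by
      have h1 : orderOf (r : C) ∣ c := orderOf_dvd_of_pow_eq_one hrc
      have h5 : orderOf (r : C) ∣ 5 := orderOf_dvd_of_pow_eq_one hr5
      have : orderOf (r : C) ∣ Nat.gcd c 5 := Nat.dvd_gcd h1 h5
      rw [hc.gcd_eq_one, Nat.dvd_one] at this
      exact orderOf_eq_one_iff.mp this
    rw [← hrk, hr1, one_mul]
    exact k.2
  refine ⟨K'.map C.subtype, Subgroup.map_subtype_le K', ?_, ?_⟩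
  · rw [Subgroup.card_map_of_injective C.subtype_injective, hK'card]
  · rintro n hn _ ⟨k, hk, rfl⟩
    have hnC : n * (k : G) * n⁻¹ ∈ C := by
      show n * (k : G) * n⁻¹ ∈ Subgroup.centralizer ((R : Subgroup G) : Set G)
      rw [Subgroup.mem_centralizer_iff]
      intro r hr
      have hr' : n⁻¹ * r * n ∈ (R : Subgroup G) :=
        (Subgroup.mem_normalizer_iff''.mp hn r).mp hr
      have hk' : n⁻¹ * r * n * (k : G) = (k : G) * (n⁻¹ * r * n) :=
        Subgroup.mem_centralizer_iff.mp k.2 _ hr'
      calc r * (n * (k : G) * n⁻¹) = n * (n⁻¹ * r * n * (k : G)) * n⁻¹ := by group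
        _ = n * ((k : G) * (n⁻¹ * r * n)) * n⁻¹ := by rw [hk']
        _ = n * (k : G) * n⁻¹ * r := by group
    refine ⟨⟨n * (k : G) * n⁻¹, hnC⟩, ?_, rfl⟩
    apply hchar
    apply Subtype.ext
    have hkc : (k : C) ^ c = 1 := by
      have := pow_card_eq_one' (G := K') (x := ⟨k, hk⟩)
      rw [hK'card] at this
      have h2 := congrArg (Subtype.val) this
      simpa using h2
    have hkc' : (k : G) ^ c = 1 := by
      have h2 := congrArg (Subtype.val) hkc
      simpa using h2
    simp only [Subgroup.coe_pow, Subgroup.coe_one]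
    rw [conj_pow, hkc', mul_one, mul_inv_cancel]

end Cfsg.Agent.Helper47.O5760
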