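import Mathlib

/-!
# O5760 (GEN2T) — helper47 for helper7's server (#6832, S0980)

`card_of_two_transitive`: orbit–stabilizer twice.
-/

set_option autoImplicit false

namespace Cfsg.Agent.Helper47.O5760

open MulAction

universe u v

theorem card_of_two_transitive {N : Type u} [Group N] [Finite N] {F : Type v} [MulAction N F] [Finite F]
    (hF : 2 ≤ Nat.card F)
    (h2 : ∀ a b c d : F, a ≠ b → c ≠ d → ∃ g : N, g • a = c ∧ g • b = d) (m : ℕ)
    (hm : ∀ a b : F, a ≠ b → Nat.card ↥(stabilizer N a ⊓ stabilizer N b) = m) :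
    Nat.card N = Nat.card F * (Nat.card F - 1) * m := by
  classical
  have hnt : Nontrivial F := (Finite.one_lt_card_iff_nontrivial).mp (by omega)
  obtain ⟨c, d, hcd⟩ := exists_pair_ne F
  have horb : orbit N c = Set.univ := by
    ext x
    simp only [Set.mem_univ, iff_true]
    obtain ⟨y, hy⟩ := exists_ne x
    obtain ⟨g, hg, -⟩ := h2 c d x y hcd hy.symm
    exact ⟨g, hg⟩
  have h1 : Nat.card N = Nat.card (stabilizer N c) * Nat.card F := by
    rw [← Subgroup.card_mul_index (stabilizer N c), MulAction.index_stabilizer, horb,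
      Set.ncard_univ]
  have horb2 : orbit (stabilizer N c) d = {c}ᶜ := by
    ext x
    simp only [Set.mem_compl_iff, Set.mem_singleton_iff]
    constructor
    · rintro ⟨g, rfl⟩ hgc
      have hg : (g : N) • c = c := g.2
      have : (g : N) • d = (g : N) • c := by
        rw [hg]; exact hgc
      exact hcd (smul_left_cancel _ this).symm
    · intro hx
      obtain ⟨g, hg, hg'⟩ := h2 c d c x hcd (Ne.symm hx)
      exact ⟨⟨g, hg⟩, hg'⟩
  have h2' : Nat.card (stabilizer N c) =
      Nat.card (stabilizer (stabilizer N c) d) * (Nat.card F - 1) := by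
    rw [← Subgroup.card_mul_index (stabilizer (stabilizer N c) d), MulAction.index_stabilizer,
      horb2, Set.ncard_compl, Set.ncard_singleton]
  have h3 : Nat.card (stabilizer (stabilizer N c) d) = m := by
    rw [← hm c d hcd]
    refine Nat.card_congr ⟨fun g => ⟨g.1.1, ⟨g.1.2, g.2⟩⟩, fun g => ⟨⟨g.1, g.2.1⟩, g.2.2⟩, ?_, ?_⟩
    · intro g; rfl
    · intro g; rfl
  rw [h1, h2', h3]; ring

end Cfsg.Agent.Helper47.O5760
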