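import Cfsg.Agent.Lib.Helper93.OR0

/-!
# OR3 (PSL) — helper47 for helper93's server (#7074, S2459)

`psl_of_sl`: passage from `SL₃` to `PSL₃`.
-/

set_option autoImplicit false

namespace Cfsg.Agent.Helper47.OR

open Matrix Cfsg.Agent.Helper93.OR

local notation "SL3" => Matrix.SpecialLinearGroup (Fin 3)

/-- (PSL) passage from `SL₃` to `PSL₃`. -/
theorem psl_of_sl {F : Type*} [Field F] (p : ℕ) (X : SL3 F) (n : ℕ) (hn : X ^ n = 1) (hpn : ¬ p ∣ n)
    (hmain : ∀ A : SL3 F, (∀ c : F, A.1 ≠ c • (1 : Matrix (Fin 3) (Fin 3) F)) →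
      ∃ u v : SL3 F, A = u * X * u⁻¹ * (v * X * v⁻¹)) :
    ∃ x : Matrix.ProjectiveSpecialLinearGroup (Fin 3) F, ¬ p ∣ orderOf x ∧
      ∀ g : Matrix.ProjectiveSpecialLinearGroup (Fin 3) F, g ≠ 1 →
        ∃ u v : Matrix.ProjectiveSpecialLinearGroup (Fin 3) F,
          g = (u * x * u⁻¹) * (v * x * v⁻¹) := by
  refine ⟨QuotientGroup.mk X, ?_, ?_⟩
  · intro h
    apply hpn
    refine h.trans (orderOf_dvd_of_pow_eq_one ?_)
    rw [← QuotientGroup.mk_pow, hn]
    rfl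
  · intro g hg
    obtain ⟨A, rfl⟩ := QuotientGroup.mk_surjective g
    have hA : ∀ c : F, A.1 ≠ c • (1 : Matrix (Fin 3) (Fin 3) F) := by
      intro c hc
      apply hg
      rw [QuotientGroup.eq_one_iff, Subgroup.mem_center_iff]
      intro B
      apply Subtype.ext
      simp [hc]
    obtain ⟨u, v, huv⟩ := hmain A hA
    refine ⟨QuotientGroup.mk u, QuotientGroup.mk v, ?_⟩
    rw [huv]
    rfl

end Cfsg.Agent.Helper47.OR
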