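import Cfsg.Agent.Lib.Helper93.OR0

/-!
# OR3 (TR) — helper47 for helper93's server (#7074, S2459)

`transport3`: transport from `ZMod 3` to any field with 3 elements.
-/

set_option autoImplicit false

namespace Cfsg.Agent.Helper47.OR

open Matrix Cfsg.Agent.Helper93.OR

local notation "SL3" => Matrix.SpecialLinearGroup (Fin 3)

/-- (TR) transport from `ZMod 3` to any field with 3 elements. -/
theorem transport3 {F : Type*} [Field F] [Fintype F] (h3 : Fintype.card F = 3)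
    (Y : SL3 (ZMod 3)) (n : ℕ) (hn : Y ^ n = 1)
    (hmain3 : ∀ A : SL3 (ZMod 3), (∀ c : ZMod 3, A.1 ≠ c • (1 : Matrix (Fin 3) (Fin 3) (ZMod 3))) →
      ∃ u v : SL3 (ZMod 3), A = u * Y * u⁻¹ * (v * Y * v⁻¹)) :
    ∃ X : SL3 F, X ^ n = 1 ∧ ∀ A : SL3 F, (∀ c : F, A.1 ≠ c • (1 : Matrix (Fin 3) (Fin 3) F)) →
      ∃ u v : SL3 F, A = u * X * u⁻¹ * (v * X * v⁻¹) := by
  classical
  let e : ZMod 3 ≃+* F := ZMod.ringEquivOfPrime F (by norm_num) h3
  let φ : SL3 (ZMod 3) →* SL3 F := Matrix.SpecialLinearGroup.map (e : ZMod 3 →+* F)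
  let ψ : SL3 F →* SL3 (ZMod 3) := Matrix.SpecialLinearGroup.map (e.symm : F →+* ZMod 3)
  have hφψ : ∀ A : SL3 F, φ (ψ A) = A := by
    intro A
    apply Subtype.ext
    ext i j
    simp [φ, ψ]
  refine ⟨φ Y, ?_, ?_⟩
  · rw [← map_pow, hn, map_one]
  · intro A hA
    have hψA : ∀ c : ZMod 3, (ψ A).1 ≠ c • (1 : Matrix (Fin 3) (Fin 3) (ZMod 3)) := by
      intro c hc
      apply hA (e c)
      have h1 : (φ (ψ A)).1 = (e : ZMod 3 →+* F).mapMatrix (ψ A).1 := rfl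
      rw [← hφψ A, h1, hc]
      ext i j
      by_cases hij : i = j
      · subst hij; simp
      · simp [hij]
    obtain ⟨u, v, huv⟩ := hmain3 (ψ A) hψA
    refine ⟨φ u, φ v, ?_⟩
    rw [← hφψ A, huv]
    simp only [map_mul, map_inv]

end Cfsg.Agent.Helper47.OR
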