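import Mathlib
import Cfsg.Prelude.Def_LieTypeDatum
import Cfsg.Agent.Lib.Helper40.SplitCount

/-!
# PFA (ABS) `splitCount_of_relIndex_four` (helper5 lemma server "PFA", row S2715)

Abstract count: `K ≤ H` normalised by `H` of index 4, `C_H(x) ⊆ K ∪ dK`: the `H`-class of `x` splits
into 4 `K`-classes if `d ∈ K` and into 2 otherwise.
-/

set_option autoImplicit false

namespace Cfsg.Agent.Helper47.PFA

open Cfsg.Agent.Helper40.SplitCount

theorem splitCount_of_relIndex_four {X : Type*} [Group X] (H K : Subgroup X) (hKH : K ≤ H)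
    (hnorm : ∀ h ∈ H, ∀ k ∈ K, h * k * h⁻¹ ∈ K) (hidx : K.relIndex H = 4) (x d : X)
    (hd : d ∈ H ⊓ Subgroup.centralizer {x})
    (hcov : ∀ c ∈ H ⊓ Subgroup.centralizer {x}, c ∈ K ∨ d⁻¹ * c ∈ K) :
    (d ∈ K → Cfsg.splitClassCount H K x = 4) ∧ (d ∉ K → Cfsg.splitClassCount H K x = 2) := by
  rw [splitClassCount_eq H K hKH hnorm x]
  have hKM : K ≤ MSub H K x := le_sup_left
  have hMH : MSub H K x ≤ H := sup_le hKH inf_le_left
  have hmul := Subgroup.relIndex_mul_relIndex K (MSub H K x) H hKM hMH
  rw [hidx] at hmul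
  constructor
  · intro hdK
    have hle : H ⊓ Subgroup.centralizer {x} ≤ K := by
      intro c hc
      rcases hcov c hc with h | h
      · exact h
      · have : c = d * (d⁻¹ * c) := by group
        rw [this]; exact K.mul_mem hdK h
    have h1 : MSub H K x = K := sup_eq_left.2 hle
    rw [h1, hidx]
  · intro hdK
    have hdH : d ∈ H := hd.1
    have hddK : d * d ∈ K := by
      have hdd : d * d ∈ H ⊓ Subgroup.centralizer {x} :=
        (H ⊓ Subgroup.centralizer {x}).mul_mem hd hd
      rcases hcov (d * d) hdd with h | h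
      · exact h
      · exfalso
        apply hdK
        have : d⁻¹ * (d * d) = d := by group
        rwa [this] at h
    have h2 : K.relIndex (MSub H K x) = 2 := by
      rw [Subgroup.relIndex_eq_two_iff]
      refine ⟨d, le_sup_right (a := K) hd, ?_⟩
      intro b hb
      obtain ⟨k, hk, c, hcH, hcx, rfl⟩ := (mem_MSub_iff H K hKH hnorm x b).mp hb
      have hcC : c ∈ H ⊓ Subgroup.centralizer {x} := by
        refine ⟨hcH, ?_⟩
        show c ∈ Subgroup.centralizer {x}
        rw [Subgroup.mem_centralizer_singleton_iff]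
        exact hcx
      have hb1 : k * c ∈ K ↔ c ∈ K := Subgroup.mul_mem_cancel_left K hk
      have hb2 : k * c * d ∈ K ↔ c * d ∈ K := by
        rw [mul_assoc]; exact Subgroup.mul_mem_cancel_left K hk
      rw [hb1, hb2]
      rcases hcov c hcC with h | h
      · -- `c ∈ K`
        refine Or.inr ⟨h, ?_⟩
        intro hcd
        exact hdK ((Subgroup.mul_mem_cancel_left K h).mp hcd)
      · -- `d⁻¹ c ∈ K`
        by_cases hcK : c ∈ K
        · refine Or.inr ⟨hcK, ?_⟩
          intro hcd
          exact hdK ((Subgroup.mul_mem_cancel_left K hcK).mp hcd)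
        · refine Or.inl ⟨?_, hcK⟩
          have e : c * d = (d * (d⁻¹ * c) * d⁻¹) * (d * d) := by group
          rw [e]
          exact K.mul_mem (hnorm d hdH _ h) hddK
    rw [h2] at hmul
    omega

end Cfsg.Agent.Helper47.PFA
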