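import Mathlib

/-!
# PFA (NT) `isSquare_pow_iff` (helper5 lemma server "PFA", row S2715)

Pure finite-field number theory: `F₀ ⊂ F` of index 2, odd order, `ν² = μ₀` a non-square of `F₀`.
-/

set_option autoImplicit false

namespace Cfsg.Agent.Helper47.PFA

universe u u₀

variable {F₀ : Type u₀} [Field F₀] [Fintype F₀] {F : Type u} [Field F] [Fintype F]

/-- `ν` is a square in `F` iff `|F₀| ≡ 3 (mod 4)`. -/
theorem h47_nt_isSquare_iff (hodd : Odd (Fintype.card F₀))
    (hcard : Fintype.card F = Fintype.card F₀ ^ 2)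
    (emb : F₀ →+* F) (μ₀ : F₀) (hμ₀ : ¬ IsSquare μ₀) (ν : F) (hν : ν * ν = emb μ₀) :
    IsSquare ν ↔ ¬ (Fintype.card F₀ % 4 = 1) := by
  obtain ⟨k, hk⟩ := hodd
  have hc0 : ringChar F₀ ≠ 2 := by
    intro h
    have := FiniteField.even_card_iff_char_two.mp h
    omega
  have hcF : ringChar F ≠ 2 := by
    intro h
    have := FiniteField.even_card_iff_char_two.mp h
    rw [hcard, hk] at this
    have h2 : (2 * k + 1) ^ 2 = 2 * (2 * k * k + 2 * k) + 1 := by ring
    omega
  have hμ0 : μ₀ ≠ 0 := by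
    rintro rfl
    exact hμ₀ ⟨0, by simp⟩
  have hν0 : ν ≠ 0 := by
    rintro rfl
    rw [mul_zero] at hν
    exact hμ0 ((map_eq_zero emb).mp hν.symm)
  -- Euler's criterion for `μ₀`
  have hμk : μ₀ ^ k = -1 := by
    have h1 := FiniteField.pow_dichotomy hc0 hμ0
    have h2 := (FiniteField.isSquare_iff hc0 hμ0).not.mp hμ₀
    have hdiv : Fintype.card F₀ / 2 = k := by omega
    rw [hdiv] at h1 h2
    exact h1.resolve_left h2
  -- the exponent for `F`
  have hdivF : Fintype.card F / 2 = 2 * (k * (k + 1)) := by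
    rw [hcard, hk]
    have h2 : (2 * k + 1) ^ 2 = 2 * (2 * (k * (k + 1))) + 1 := by ring
    omega
  have hpow : ν ^ (Fintype.card F / 2) = (-1) ^ (k + 1) := by
    rw [hdivF, pow_mul, pow_two, hν, pow_mul, ← map_pow, hμk, map_neg, map_one]
  rw [FiniteField.isSquare_iff hcF hν0, hpow,
    neg_one_pow_eq_one_iff_even (Ring.neg_one_ne_one_of_char_ne_two hcF)]
  rw [hk]
  constructor
  · intro he h1
    obtain ⟨j, hj⟩ := he
    omega
  · intro h1
    have : k % 2 = 1 := by omega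
    exact ⟨(k + 1) / 2, by omega⟩

theorem isSquare_pow_iff (hodd : Odd (Fintype.card F₀)) (hcard : Fintype.card F = Fintype.card F₀ ^ 2)
    (emb : F₀ →+* F) (μ₀ : F₀) (hμ₀ : ¬ IsSquare μ₀) (ν : F) (hν : ν * ν = emb μ₀) (m : ℕ) :
    IsSquare (ν ^ m) ↔ ¬ (Odd m ∧ Fintype.card F₀ % 4 = 1) := by
  have hmain := h47_nt_isSquare_iff hodd hcard emb μ₀ hμ₀ ν hν
  have hμ0 : μ₀ ≠ 0 := by
    rintro rfl
    exact hμ₀ ⟨0, by simp⟩
  have hν0 : ν ≠ 0 := by
    rintro rfl
    rw [mul_zero] at hν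
    exact hμ0 ((map_eq_zero emb).mp hν.symm)
  rcases Nat.even_or_odd m with hm | hm
  · -- even exponent: always a square
    have h1 : IsSquare (ν ^ m) := by
      obtain ⟨j, hj⟩ := hm
      exact ⟨ν ^ j, by rw [hj, pow_add]⟩
    have h2 : ¬ (Odd m ∧ Fintype.card F₀ % 4 = 1) := by
      rintro ⟨ho, _⟩
      exact (Nat.not_even_iff_odd.mpr ho) hm
    exact ⟨fun _ => h2, fun _ => h1⟩
  · -- odd exponent: square iff `ν` is
    have hiff : IsSquare (ν ^ m) ↔ IsSquare ν := by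
      constructor
      · rintro ⟨w, hw⟩
        obtain ⟨j, hj⟩ := hm
        have hνj : ν ^ j ≠ 0 := pow_ne_zero j hν0
        refine ⟨w / ν ^ j, ?_⟩
        have h3 : ν ^ m = ν * (ν ^ j * ν ^ j) := by
          rw [hj, pow_succ, pow_mul, pow_two, mul_pow, mul_comm]
        have h4 : ν * (ν ^ j * ν ^ j) = w * w := by rw [← h3, hw]
        field_simp
        rw [pow_two, pow_two, h4]
      · intro h
        exact h.pow m
    rw [hiff, hmain]
    constructor
    · intro h1 h2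
      exact h1 h2.2
    · intro h1 h2
      exact h1 ⟨hm, h2⟩

end Cfsg.Agent.Helper47.PFA
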