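import Mathlib
import Cfsg.Agent.Lib.Helper47.PRedSn
import Cfsg.Agent.Lib.Helper46.Coprime
import Cfsg.Agent.Lib.Helper30.AxB

set_option autoImplicit false

namespace Cfsg.Agent.Helper47

open Cfsg Subgroup
open scoped commutatorElement

variable {H : Type*} [Group H] {p : ℕ}

/-- Splitting off the `p'`-part: `d ^ p ^ a` has order prime to `p`. -/
theorem exists_pow_orderOf_coprime [Finite H] [hp : Fact p.Prime] (d : H) :
    ∃ a : ℕ, (orderOf (d ^ p ^ a)).Coprime p := by
  have hn : orderOf d ≠ 0 := (orderOf_pos d).ne'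
  obtain ⟨a, m, hm, hnm⟩ := Nat.exists_eq_pow_mul_and_not_dvd hn p hp.out.ne_one
  refine ⟨a, ?_⟩
  have h1 : (d ^ p ^ a) ^ m = 1 := by
    rw [← pow_mul, ← hnm, pow_orderOf_eq_one]
  have h2 : orderOf (d ^ p ^ a) ∣ m := orderOf_dvd_of_pow_eq_one h1
  have h3 : m.Coprime p := ((Nat.Prime.coprime_iff_not_dvd hp.out).mpr hm).symm
  exact Nat.Coprime.coprime_dvd_left h2 h3

/-- Quadratic action is `p`-action: if `[V, D] ≤ V₀` and `D` is `p`-acting on `V₀`, then `D` is
`p`-acting on the elementary abelian group `V`. -/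
theorem pact_of_quadratic [Finite H] [hp : Fact p.Prime] {V V₀ D : Subgroup H}
    (hV : IsElementaryAbelian p V) (hDV : D ≤ normalizer (V : Set H)) (hV₀ : ⁅V, D⁆ ≤ V₀)
    (h : PAct p D (centralizer (V₀ : Set H))) : PAct p D (centralizer (V : Set H)) := by
  intro d hd
  obtain ⟨a, ha⟩ := exists_pow_orderOf_coprime (p := p) d
  refine ⟨a, ?_⟩
  set y := d ^ p ^ a with hy
  have hyD : y ∈ D := pow_mem hd _
  -- `y` centralizes `V₀`
  have hyV₀ : y ∈ centralizer (V₀ : Set H) := by
    obtain ⟨k, hk⟩ := h y hyD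
    have hco : (p ^ k).Coprime (orderOf y) := (Nat.Coprime.pow_right k ha).symm
    obtain ⟨m, hm⟩ := exists_pow_eq_self_of_coprime hco
    rw [← hm]
    exact pow_mem hk m
  have hVc : ∀ a ∈ V, ∀ b ∈ V, a * b = b * a := by
    have := hV.1
    have hle : V ≤ centralizer (V : Set H) := le_centralizer_iff_isMulCommutative.mpr this
    intro a ha b hb
    exact (mem_centralizer_iff.mp (hle hb) a ha)
  have hyV : ∀ u ∈ V, y * u * y⁻¹ ∈ V := fun u hu =>
    (mem_normalizer_iff.mp (hDV hyD) u).mp hu
  rw [mem_centralizer_iff]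
  intro v hv
  have hcomm : ⁅v, y⁆ ∈ (⊥ : Subgroup H) := by
    apply Helper46.commutator_mem_of_coprime (p := p) hVc hyV hv
    · intro i
      rw [mem_bot, commutatorElement_eq_one_iff_commute]
      have h1 : ⁅v, y⁆ ∈ V₀ := hV₀ (commutator_mem_commutator hv hyD)
      have h2 : y ^ i ∈ centralizer (V₀ : Set H) := pow_mem hyV₀ i
      exact (mem_centralizer_iff.mp h2 _ h1)
    · exact ha
    · exact (orderOf_pos y).ne'
    · intro u hu
      exact ⟨1, by rw [pow_one]; exact hV.2 u hu⟩
  rw [mem_bot, commutatorElement_eq_one_iff_commute] at hcomm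
  exact hcomm.eq

/-- **Lemma A.** A `p`-reduced normal subgroup of `M` meets a normal subgroup `N` of `M` in a
`p`-reduced normal subgroup of `N`. -/
theorem PR.inf_normal [Finite H] [hp : Fact p.Prime] {M V N : Subgroup H} (h : PR p M V)
    (hNM : N ≤ M) (hMN : M ≤ normalizer (N : Set H)) : PR p N (V ⊓ N) := by
  have hNV₀ : N ≤ normalizer ((V ⊓ N : Subgroup H) : Set H) :=
    (le_inf (hNM.trans h.norm) le_normalizer).trans inf_normalizer_le_normalizer_inf
  have hMV₀ : M ≤ normalizer ((V ⊓ N : Subgroup H) : Set H) :=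
    (le_inf h.norm hMN).trans inf_normalizer_le_normalizer_inf
  refine ⟨inf_le_right, hNV₀, isElementaryAbelian_of_le h.ea inf_le_left, ?_⟩
  intro E' hE'N hNE' hpow
  obtain ⟨D, hDN, hND, hDp, hMD, hlargest⟩ :=
    exists_largest_pact (p := p) N (centralizer ((V ⊓ N : Subgroup H) : Set H)) M
      (hNV₀.trans (normalizer_le_normalizer_centralizer _)) hMN
      (hMV₀.trans (normalizer_le_normalizer_centralizer _))
  have hE'D : E' ≤ D := hlargest E' hE'N hNE' hpow
  have hDV : D ≤ centralizer (V : Set H) := by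
    apply h.red D (hDN.trans hNM) hMD
    apply pact_of_quadratic h.ea ((hDN.trans hNM).trans h.norm) _ hDp
    apply le_inf
    · exact Helper1.commutator_le_of_le_normalizer ((hDN.trans hNM).trans h.norm)
    · rw [commutator_comm]
      exact (commutator_mono hDN le_rfl).trans
        (Helper1.commutator_le_of_le_normalizer (h.le.trans hMN))
  exact hE'D.trans (hDV.trans (centralizer_le (by exact_mod_cast (inf_le_left : V ⊓ N ≤ V))))

/-- **Lemma B.** `C_N(V ∩ N) ≤ C(V)`. -/
theorem PR.inf_centralizer_le [Finite H] [hp : Fact p.Prime] {M V N : Subgroup H} (h : PR p M V)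
    (hNM : N ≤ M) (hMN : M ≤ normalizer (N : Set H)) :
    N ⊓ centralizer ((V ⊓ N : Subgroup H) : Set H) ≤ centralizer (V : Set H) := by
  have hMV₀ : M ≤ normalizer ((V ⊓ N : Subgroup H) : Set H) :=
    (le_inf h.norm hMN).trans inf_normalizer_le_normalizer_inf
  have hDM : N ⊓ centralizer ((V ⊓ N : Subgroup H) : Set H) ≤ M := inf_le_left.trans hNM
  apply h.red _ hDM
  · exact (le_inf hMN (hMV₀.trans (normalizer_le_normalizer_centralizer _))).trans
      inf_normalizer_le_normalizer_inf
  · apply pact_of_quadratic h.ea (hDM.trans h.norm) (V₀ := V ⊓ N)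
    · apply le_inf
      · exact Helper1.commutator_le_of_le_normalizer (hDM.trans h.norm)
      · rw [commutator_comm]
        exact (commutator_mono inf_le_left le_rfl).trans
          (Helper1.commutator_le_of_le_normalizer (h.le.trans hMN))
    · intro d hd
      exact ⟨0, by simpa using hd.2⟩

end Cfsg.Agent.Helper47
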