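import Mathlib
import Cfsg.Agent.Lib.Helper47.PRedSn2

set_option autoImplicit false

namespace Cfsg.Agent.Helper47

open Cfsg Subgroup
open scoped commutatorElement

variable {H : Type*} [Group H] {p : ℕ}

/-- A `p`-acting subgroup is a `p`-subgroup times the kernel of the action. -/
theorem PAct.exists_isPGroup_sup [Finite H] [hp : Fact p.Prime] {E C : Subgroup H}
    (hEC : E ≤ normalizer (C : Set H)) (h : PAct p E C) :
    ∃ S : Subgroup H, S ≤ E ∧ IsPGroup p S ∧ E ≤ S ⊔ (E ⊓ C) := by
  have hKn : (C.subgroupOf E).Normal := normal_subgroupOf_of_le_normalizer hEC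
  have hQ : IsPGroup p (↥E ⧸ C.subgroupOf E) := by
    intro q
    induction q using QuotientGroup.induction_on with
    | H e =>
      obtain ⟨k, hk⟩ := h (e : H) e.2
      refine ⟨k, ?_⟩
      rw [← QuotientGroup.mk_pow, QuotientGroup.eq_one_iff, mem_subgroupOf]
      simpa using hk
  obtain ⟨n, hn⟩ := IsPGroup.iff_card.mp hQ
  have P : Sylow p ↥E := Classical.arbitrary _
  have htop : (P : Subgroup ↥E) ⊔ C.subgroupOf E = ⊤ := by
    rw [← index_eq_one]
    have h1 : ((P : Subgroup ↥E) ⊔ C.subgroupOf E).index ∣ (P : Subgroup ↥E).index :=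
      index_dvd_of_le le_sup_left
    have h2 : ((P : Subgroup ↥E) ⊔ C.subgroupOf E).index ∣ (C.subgroupOf E).index :=
      index_dvd_of_le le_sup_right
    have h3 : (C.subgroupOf E).index = p ^ n := by
      rw [index_eq_card]; exact hn
    rw [h3] at h2
    obtain ⟨j, _, hj⟩ := (Nat.dvd_prime_pow hp.out).mp h2
    have h4 : ¬ p ∣ (P : Subgroup ↥E).index := P.not_dvd_index
    rcases Nat.eq_zero_or_pos j with h0 | hpos
    · rw [hj, h0, pow_zero]
    · exfalso
      apply h4
      refine dvd_trans ?_ h1
      rw [hj]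
      exact dvd_pow_self p hpos.ne'
  refine ⟨(P : Subgroup ↥E).map E.subtype, map_subtype_le _, P.isPGroup'.map _, ?_⟩
  have := congrArg (Subgroup.map E.subtype) htop
  rw [Subgroup.map_sup, subgroupOf_map_subtype, ← MonoidHom.range_eq_map, range_subtype] at this
  rw [inf_comm]
  exact this.ge

/-- A `p`-acting group has proper commutator with a nontrivial invariant `p`-subgroup on which
the kernel acts trivially. -/
theorem PAct.commutator_lt [Finite H] [hp : Fact p.Prime] {E C U : Subgroup H}
    (hEC : E ≤ normalizer (C : Set H)) (h : PAct p E C) (hU : IsPGroup p U)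
    (hEU : E ≤ normalizer (U : Set H)) (hCU : C ≤ centralizer (U : Set H)) (hne : U ≠ ⊥) :
    ⁅U, E⁆ < U := by
  obtain ⟨S, hSE, hS, hES⟩ := h.exists_isPGroup_sup hEC
  have hSU : S ≤ normalizer (U : Set H) := hSE.trans hEU
  have hlt := Helper30.commutator_lt_of_isPGroup U S hU hS hSU hne
  refine lt_of_le_of_lt ?_ hlt
  refine (commutator_mono le_rfl hES).trans ?_
  have hKU : ⁅U, E ⊓ C⁆ = ⊥ := by
    rw [commutator_comm, commutator_eq_bot_iff_le_centralizer]
    exact inf_le_right.trans hCU
  apply commutator_sup_right_le le_rfl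
  · rw [hKU]; exact bot_le
  · exact Helper1.le_normalizer_commutator_right hSU
  · refine le_trans ?_ (centralizer_le_normalizer _)
    refine (inf_le_right.trans hCU).trans (centralizer_le ?_)
    exact_mod_cast (Helper1.commutator_le_of_le_normalizer hSU)

/-- A variant of Thompson's `P × Q` lemma where `E` is only `p`-acting on `U` and commutes with `X`
only modulo `C(U)`. -/
theorem pxq_pact [Finite H] [hp : Fact p.Prime] {U E X : Subgroup H} (hU : IsPGroup p U)
    (hEU : E ≤ normalizer (U : Set H)) (hXU : X ≤ normalizer (U : Set H))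
    (hXE : X ≤ normalizer (E : Set H)) (hE : PAct p E (centralizer (U : Set H)))
    (hX : (Nat.card X).Coprime p) (hEX : ⁅E, X⁆ ≤ centralizer (U : Set H))
    (hfix : U ⊓ centralizer (E : Set H) ≤ centralizer (X : Set H)) :
    X ≤ centralizer (U : Set H) := by
  have hEC : E ≤ normalizer ((centralizer (U : Set H) : Subgroup H) : Set H) :=
    hEU.trans (normalizer_le_normalizer_centralizer U)
  have main : ∀ (n : ℕ) (U' : Subgroup H), Nat.card U' = n → U' ≤ U →
      E ≤ normalizer (U' : Set H) → X ≤ normalizer (U' : Set H) →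
      U' ⊓ centralizer (E : Set H) ≤ centralizer (X : Set H) → ⁅U', X⁆ = ⊥ := by
    intro n
    induction n using Nat.strong_induction_on with
    | _ n ih =>
      intro U' hn hU'U hEU' hXU' hfix'
      by_cases hne : U' = ⊥
      · rw [hne]; exact commutator_bot_left _
      have hU'p : IsPGroup p U' := hU.to_le hU'U
      have hCU' : centralizer (U : Set H) ≤ centralizer (U' : Set H) :=
        centralizer_le (by exact_mod_cast hU'U)
      have hlt : ⁅U', E⁆ < U' := hE.commutator_lt hEC hU'p hEU' hCU' hne
      have hcard : Nat.card ↥(⁅U', E⁆) < n := by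
        rw [← hn]
        exact Set.ncard_lt_ncard (show ((⁅U', E⁆ : Subgroup H) : Set H) ⊂ (U' : Set H) from hlt)
          (Set.toFinite _)
      have h1 : ⁅⁅U', E⁆, X⁆ = ⊥ := by
        apply ih _ hcard _ rfl (hlt.le.trans hU'U)
          (Helper1.le_normalizer_commutator_right hEU')
          ((le_inf hXU' hXE).trans (normalizer_inf_normalizer_le_normalizer_commutator U' E))
        exact (inf_le_inf_right _ hlt.le).trans hfix'
      have h2 : ⁅⁅E, X⁆, U'⁆ = ⊥ := by
        rw [commutator_eq_bot_iff_le_centralizer]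
        exact hEX.trans hCU'
      have h3 : ⁅⁅X, U'⁆, E⁆ = ⊥ := commutator_commutator_eq_bot_of_rotate h1 h2
      have h4 : ⁅U', X⁆ ≤ U' ⊓ centralizer (E : Set H) := by
        apply le_inf (Helper1.commutator_le_of_le_normalizer hXU')
        rw [commutator_comm, ← commutator_eq_bot_iff_le_centralizer]
        exact h3
      have h5 : ⁅⁅U', X⁆, X⁆ = ⊥ := by
        rw [commutator_eq_bot_iff_le_centralizer]
        exact h4.trans hfix'
      have hcop : (Nat.card X).Coprime (Nat.card U') := by
        obtain ⟨k, hk⟩ := IsPGroup.iff_card.mp hU'p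
        rw [hk]
        exact Nat.Coprime.pow_right k hX
      have hsolv : Group.IsSolvable X ∨ Group.IsSolvable U' :=
        Or.inr (by haveI := hU'p.isNilpotent; infer_instance)
      rw [← Helper1.commutator_commutator_eq X U' hXU' hcop hsolv]
      exact h5
  have := main _ U rfl le_rfl hEU hXU hfix
  rw [commutator_comm, commutator_eq_bot_iff_le_centralizer] at this
  exact this

end Cfsg.Agent.Helper47
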