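import Mathlib
import Cfsg.Agent.Lib.Helper47.PRedSn3

set_option autoImplicit false

namespace Cfsg.Agent.Helper47

open Cfsg Subgroup
open scoped commutatorElement

variable {H : Type*} [Group H] {p : ℕ}

theorem isPGroup_of_isElementaryAbelian {U : Subgroup H} (h : IsElementaryAbelian p U) :
    IsPGroup p U :=
  Helper46.isPGroup_subgroup_iff.mpr fun x hx => ⟨1, by rw [pow_one]; exact h.2 x hx⟩

/-- Key step: if `E ⊴ M` is `p`-acting on the `p`-reduced normal subgroup `U` of `N ⊴ M`, then
`N` acts on `C_U(E)` with the same kernel as on `U`. -/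
theorem PR.inf_centralizer_key [Finite H] [hp : Fact p.Prime] {M N U E : Subgroup H}
    (hPR : PR p N U) (hNM : N ≤ M) (hMN : M ≤ normalizer (N : Set H))
    (hMU : M ≤ normalizer (U : Set H)) (hEM : E ≤ M) (hME : M ≤ normalizer (E : Set H))
    (hE : PAct p E (centralizer (U : Set H))) :
    N ⊓ centralizer ((U ⊓ centralizer (E : Set H) : Subgroup H) : Set H) ≤
      centralizer (U : Set H) := by
  have hNE : N ≤ normalizer (E : Set H) := hNM.trans hME
  have hNU₁ : N ≤ normalizer ((U ⊓ centralizer (E : Set H) : Subgroup H) : Set H) :=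
    (le_inf hPR.norm (hNE.trans (normalizer_le_normalizer_centralizer _))).trans
      inf_normalizer_le_normalizer_inf
  have hEN : E ⊓ N ≤ centralizer (U : Set H) :=
    hPR.red (E ⊓ N) inf_le_right
      ((le_inf hNE le_normalizer).trans inf_normalizer_le_normalizer_inf)
      (hE.mono inf_le_left le_rfl)
  apply hPR.red _ inf_le_left
  · exact (le_inf le_normalizer (hNU₁.trans (normalizer_le_normalizer_centralizer _))).trans
      inf_normalizer_le_normalizer_inf
  · intro d hd
    obtain ⟨a, ha⟩ := exists_pow_orderOf_coprime (p := p) d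
    refine ⟨a, ?_⟩
    set y := d ^ p ^ a with hy
    have hyN : y ∈ N := pow_mem hd.1 _
    have hyC : y ∈ centralizer ((U ⊓ centralizer (E : Set H) : Subgroup H) : Set H) :=
      pow_mem hd.2 _
    have hXN : zpowers y ≤ N := by rw [zpowers_le]; exact hyN
    have hle : zpowers y ≤ centralizer (U : Set H) := by
      apply pxq_pact (p := p) (E := E) (isPGroup_of_isElementaryAbelian hPR.ea)
        (hEM.trans hMU) (hXN.trans hPR.norm) (hXN.trans hNE) hE
      · rw [Nat.card_zpowers]; exact ha
      · refine le_trans ?_ hEN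
        apply le_inf
        · exact Helper1.commutator_le_of_le_normalizer (hXN.trans hNE)
        · rw [commutator_comm]
          exact (commutator_mono hXN le_rfl).trans
            (Helper1.commutator_le_of_le_normalizer (hEM.trans hMN))
      · rw [le_centralizer_iff, zpowers_le]; exact hyC
    exact hle (mem_zpowers y)

/-- **Lemma C'.** From a `p`-reduced normal subgroup `U` of `N ⊴ M` (normalized by `M`) one gets a
`p`-reduced normal subgroup `U* ≤ U` of `M` on which `N` acts with the same kernel. -/
theorem PR.exists_of_normal [Finite H] [hp : Fact p.Prime] {M N : Subgroup H}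
    (hNM : N ≤ M) (hMN : M ≤ normalizer (N : Set H)) :
    ∀ (n : ℕ) (U : Subgroup H), Nat.card U = n → PR p N U → M ≤ normalizer (U : Set H) →
      ∃ U' : Subgroup H, U' ≤ U ∧ PR p M U' ∧
        N ⊓ centralizer (U' : Set H) ≤ centralizer (U : Set H) := by
  intro n
  induction n using Nat.strong_induction_on with
  | _ n ih =>
    intro U hn hPR hMU
    by_cases hred : RedIn p M U
    · exact ⟨U, le_rfl, ⟨hPR.le.trans hNM, hMU, hPR.ea, hred⟩, inf_le_right⟩
    · unfold RedIn at hred
      push Not at hred
      obtain ⟨E, hEM, hME, hE, hEU⟩ := hred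
      have hkey := hPR.inf_centralizer_key hNM hMN hMU hEM hME hE
      have hNE : N ≤ normalizer (E : Set H) := hNM.trans hME
      set U₁ := U ⊓ centralizer (E : Set H) with hU₁
      have hNU₁ : N ≤ normalizer (U₁ : Set H) :=
        (le_inf hPR.norm (hNE.trans (normalizer_le_normalizer_centralizer _))).trans
          inf_normalizer_le_normalizer_inf
      have hMU₁ : M ≤ normalizer (U₁ : Set H) :=
        (le_inf hMU (hME.trans (normalizer_le_normalizer_centralizer _))).trans
          inf_normalizer_le_normalizer_inf
      have hCC : centralizer (U : Set H) ≤ centralizer (U₁ : Set H) :=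
        centralizer_le (by exact_mod_cast (inf_le_left : U₁ ≤ U))
      have hPR₁ : PR p N U₁ := by
        refine ⟨inf_le_left.trans hPR.le, hNU₁, isElementaryAbelian_of_le hPR.ea inf_le_left, ?_⟩
        intro E' hE'N hNE' hpow
        refine le_trans ?_ hCC
        apply hPR.red E' hE'N hNE'
        intro e he
        obtain ⟨k, hk⟩ := hpow e he
        exact ⟨k, hkey ⟨pow_mem (hE'N he) _, hk⟩⟩
      have hlt : U₁ < U := by
        refine lt_of_le_of_ne inf_le_left ?_
        intro heq
        apply hEU
        rw [le_centralizer_iff, ← heq]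
        exact inf_le_right
      have hcard : Nat.card U₁ < n := by
        rw [← hn]
        exact Set.ncard_lt_ncard (show (U₁ : Set H) ⊂ (U : Set H) from hlt) (Set.toFinite _)
      obtain ⟨U', hU'U₁, hPR', hC'⟩ := ih _ hcard U₁ rfl hPR₁ hMU₁
      refine ⟨U', hU'U₁.trans inf_le_left, hPR', ?_⟩
      exact (le_inf inf_le_left hC').trans hkey

/-- **Lemma C.** For `N ⊴ M`: `C_N(Y_M) ≤ C(Y_N)`. -/
theorem inf_centralizer_largestPReducedOf_le [Finite H] [hp : Fact p.Prime] {M N : Subgroup H}
    (hNM : N ≤ M) (hMN : M ≤ normalizer (N : Set H)) :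
    N ⊓ centralizer ((largestPReducedOf p M : Subgroup H) : Set H) ≤
      centralizer ((largestPReducedOf p N : Subgroup H) : Set H) := by
  obtain ⟨U', _, hPR', hC'⟩ := PR.exists_of_normal hNM hMN _ (largestPReducedOf p N) rfl
    (pr_largestPReducedOf N) (le_normalizer_largestPReducedOf_of_le_normalizer hMN)
  refine le_trans (inf_le_inf_left _ (centralizer_le ?_)) hC'
  exact_mod_cast hPR'.le_largestPReducedOf

end Cfsg.Agent.Helper47
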