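import Mathlib
import Cfsg.Agent.Lib.Helper47.PRedSn4
import Cfsg.Agent.Lib.Helper47.PRes

set_option autoImplicit false

namespace Cfsg.Agent.Helper47

open Cfsg Subgroup
open scoped commutatorElement

variable {H : Type*} [Group H] {p : ℕ}

/-- The three inductive facts about a subnormal subgroup `L` and `Y_H`. -/
theorem subnormal_largestPReduced [Finite H] [hp : Fact p.Prime] {L : Subgroup H}
    (hL : L.IsSubnormal) :
    PR p L (largestPReduced p H ⊓ L) ∧
    L ⊓ centralizer ((largestPReduced p H ⊓ L : Subgroup H) : Set H) ≤
      centralizer (largestPReduced p H : Set H) ∧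
    L ⊓ centralizer (largestPReduced p H : Set H) ≤
      centralizer ((largestPReducedOf p L : Subgroup H) : Set H) := by
  induction hL with
  | top =>
    refine ⟨?_, ?_, ?_⟩
    · rw [inf_top_eq]; exact pr_largestPReduced
    · rw [inf_top_eq]; exact inf_le_right
    · refine inf_le_right.trans (centralizer_le ?_)
      have h1 : IsPReducedNormal p (largestPReducedOf p (⊤ : Subgroup H)) :=
        (pr_largestPReducedOf (p := p) (⊤ : Subgroup H)).isPReducedNormal_top
      exact_mod_cast le_largestPReduced h1
  | step L K hLK hK hN ih =>
    obtain ⟨ih1, ih2, ih3⟩ := ih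
    have hKL : K ≤ normalizer (L : Set H) := by
      rw [← normal_subgroupOf_iff_le_normalizer hLK]; exact hN
    have hinf : largestPReduced p H ⊓ K ⊓ L = largestPReduced p H ⊓ L := by
      rw [inf_assoc, inf_eq_right.mpr hLK]
    refine ⟨?_, ?_, ?_⟩
    · have := ih1.inf_normal hLK hKL
      rwa [hinf] at this
    · have := ih1.inf_centralizer_le hLK hKL
      rw [hinf] at this
      exact (le_inf (inf_le_left.trans hLK) this).trans ih2
    · have h1 : L ⊓ centralizer (largestPReduced p H : Set H) ≤
          L ⊓ centralizer ((largestPReducedOf p K : Subgroup H) : Set H) :=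
        le_inf inf_le_left ((inf_le_inf_right _ hLK).trans ih3)
      exact h1.trans (inf_centralizer_largestPReducedOf_le hLK hKL)

/-- `Y_H ∩ L` for a subnormal subgroup `L` (= S2825). -/
theorem subnormal_largestPReduced_main [Finite H] [hp : Fact p.Prime] (L : Subgroup H)
    (hL : L.IsSubnormal) :
    largestPReduced p H ⊓ L = largestPReduced p H ⊓ (largestPReducedOf p L) ∧
    IsPReducedNormal p ((largestPReduced p H ⊓ L).subgroupOf L) ∧
    L ⊓ centralizer ((largestPReducedOf p L : Subgroup H) : Set H) =
      L ⊓ centralizer (largestPReduced p H : Set H) ∧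
    L ⊓ centralizer (largestPReduced p H : Set H) =
      L ⊓ centralizer ((largestPReduced p H ⊓ L : Subgroup H) : Set H) ∧
    (pResidual p H ≤ L → (⁅(largestPReducedOf p L), L⁆ = ⊥ ↔
      ⁅largestPReduced p H, (⊤ : Subgroup H)⁆ = ⊥)) := by
  obtain ⟨h1, h2, h3⟩ := subnormal_largestPReduced (p := p) hL
  have hle : largestPReduced p H ⊓ L ≤ largestPReducedOf p L := h1.le_largestPReducedOf
  have e3 : L ⊓ centralizer ((largestPReducedOf p L : Subgroup H) : Set H) =
      L ⊓ centralizer (largestPReduced p H : Set H) := by
    apply le_antisymm
    · refine le_inf inf_le_left (le_trans ?_ h2)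
      exact inf_le_inf_left _ (centralizer_le (by exact_mod_cast hle))
    · exact le_inf inf_le_left h3
  refine ⟨?_, h1.isPReducedNormal_subgroupOf, e3, ?_, ?_⟩
  · apply le_antisymm
    · exact le_inf inf_le_left hle
    · exact inf_le_inf_left _ (Helper48.largestPReducedOf_le L)
  · apply le_antisymm
    · exact inf_le_inf_left _ (centralizer_le (by exact_mod_cast
        (inf_le_left : largestPReduced p H ⊓ L ≤ largestPReduced p H)))
    · exact le_inf inf_le_left h2
  · intro hres
    constructor
    · intro hYL
      have hLC : L ≤ centralizer ((largestPReducedOf p L : Subgroup H) : Set H) := by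
        rw [le_centralizer_iff, ← commutator_eq_bot_iff_le_centralizer]; exact hYL
      have hLC' : L ≤ centralizer (largestPReduced p H : Set H) := by
        have : L ≤ L ⊓ centralizer ((largestPReducedOf p L : Subgroup H) : Set H) :=
          le_inf le_rfl hLC
        rw [e3] at this
        exact this.trans inf_le_right
      have htop : (⊤ : Subgroup H) ≤ centralizer (largestPReduced p H : Set H) := by
        apply (pr_largestPReduced (p := p) (H := H)).red ⊤ le_rfl (by rw [normalizer_eq_top])
        intro g _
        obtain ⟨e, he⟩ := exists_pow_mem_pResidual (p := p) g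
        exact ⟨e, hLC' (hres he)⟩
      rw [commutator_comm, commutator_eq_bot_iff_le_centralizer]
      exact htop
    · intro hYH
      have htop : (⊤ : Subgroup H) ≤ centralizer (largestPReduced p H : Set H) := by
        rw [← commutator_eq_bot_iff_le_centralizer, commutator_comm]; exact hYH
      have : L ≤ L ⊓ centralizer (largestPReduced p H : Set H) :=
        le_inf le_rfl (le_top.trans htop)
      rw [← e3] at this
      rw [commutator_comm, commutator_eq_bot_iff_le_centralizer]
      exact this.trans inf_le_right

end Cfsg.Agent.Helper47
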