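import Mathlib
import Cfsg.Prelude.Def_FusionSystem
import Cfsg.Prelude.Def_KGroupFacts
import Cfsg.Agent.Lib.Helper87.Psl3Defs

/-!
# Piece (SYL) of helper87's PSL3F lemma server (S5318): `S3` is a Sylow 2-subgroup of `SL₃(F)`.
-/

set_option autoImplicit false

namespace Cfsg.Agent.Helper47.Psl3

open Matrix Cfsg Cfsg.Agent.Helper87.Psl3

variable {F : Type*} [Field F]

local notation "SL3" => Matrix.SpecialLinearGroup (Fin 3) F
local notation "GL2" => GL (Fin 2) F

/-- abstract version: a `p`-subgroup `S` such that every element of `N(S)` is `s * k` with `s ∈ S` and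
`k` of order coprime to `p`, is a Sylow `p`-subgroup. -/
theorem h47_sylow_of_normalizer {G : Type*} [Group G] [Finite G] {p : ℕ} [Fact p.Prime]
    (S : Subgroup G) (hP : IsPGroup p S)
    (hN : ∀ g : G, g ∈ Subgroup.normalizer (S : Set G) →
      ∃ s ∈ S, ∃ k : G, (orderOf k).Coprime p ∧ g = s * k) :
    ∃ P : Sylow p G, (P : Subgroup G) = S := by
  obtain ⟨P, hle⟩ := hP.exists_le_sylow
  refine ⟨P, ?_⟩
  by_contra hne
  have hnle : ¬ (P : Subgroup G) ≤ S := fun h => hne (le_antisymm h hle)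
  have hnil : Group.IsNilpotent ↥(P : Subgroup G) := P.isPGroup'.isNilpotent
  have hlt : S.subgroupOf (P : Subgroup G) < ⊤ := by
    rw [lt_top_iff_ne_top, Ne, Subgroup.subgroupOf_eq_top]
    exact hnle
  have hgrow := Group.normalizerCondition_of_isNilpotent (G := ↥(P : Subgroup G)) _ hlt
  obtain ⟨g, hgN, hgS⟩ := SetLike.exists_of_lt hgrow
  rw [Subgroup.mem_subgroupOf] at hgS
  -- `g` normalises `S` in `G`
  have hgN' : (g : G) ∈ Subgroup.normalizer (S : Set G) := by
    rw [Subgroup.mem_normalizer_iff] at hgN ⊢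
    intro y
    constructor
    · intro hy
      have := (hgN ⟨y, hle hy⟩).mp (by rw [Subgroup.mem_subgroupOf]; exact hy)
      rw [Subgroup.mem_subgroupOf] at this
      exact this
    · intro hy
      have hyP : y ∈ (P : Subgroup G) := by
        have h1 : (g : G)⁻¹ * ((g : G) * y * (g : G)⁻¹) * (g : G) ∈ (P : Subgroup G) :=
          Subgroup.mul_mem _ (Subgroup.mul_mem _ (Subgroup.inv_mem _ g.2) (hle hy)) g.2
        have h2 : (g : G)⁻¹ * ((g : G) * y * (g : G)⁻¹) * (g : G) = y := by group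
        rw [h2] at h1; exact h1
      have := (hgN ⟨y, hyP⟩).mpr (by rw [Subgroup.mem_subgroupOf]; exact hy)
      rw [Subgroup.mem_subgroupOf] at this
      exact this
  obtain ⟨s, hs, k, hk, hgk⟩ := hN g hgN'
  have hkP : k ∈ (P : Subgroup G) := by
    have : k = s⁻¹ * (g : G) := by rw [hgk]; group
    rw [this]
    exact Subgroup.mul_mem _ (Subgroup.inv_mem _ (hle hs)) g.2
  obtain ⟨m, hm⟩ := P.isPGroup' ⟨k, hkP⟩
  have hm' : k ^ (p ^ m) = 1 := by
    have := congrArg Subtype.val hm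
    simpa using this
  have hdvd : orderOf k ∣ p ^ m := orderOf_dvd_of_pow_eq_one hm'
  have hone : orderOf k = 1 := by
    have hc : (orderOf k).Coprime (p ^ m) := hk.pow_right m
    exact Nat.Coprime.eq_one_of_dvd hc hdvd
  rw [orderOf_eq_one_iff] at hone
  rw [hone, mul_one] at hgk
  exact hgS (hgk ▸ hs)

/-- piece (SYL) -/
theorem exists_sylow [Finite F] (hP : IsPGroup 2 (S3 : Subgroup SL3))
    (hN : ∀ g : SL3, g ∈ Subgroup.normalizer ((S3 : Subgroup SL3) : Set SL3) →
      ∃ s ∈ (S3 : Subgroup SL3), ∃ c : Fˣ, Odd (orderOf c) ∧ g = s * iota (sc c)) :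
    ∃ S : Sylow 2 SL3, (S : Subgroup SL3) = S3 := by
  haveI : Fact (Nat.Prime 2) := ⟨Nat.prime_two⟩
  haveI : Finite SL3 := Subtype.finite
  apply h47_sylow_of_normalizer (S3 : Subgroup SL3) hP
  intro g hg
  obtain ⟨s, hs, c, hc, hgc⟩ := hN g hg
  refine ⟨s, hs, iota (sc c), ?_, hgc⟩
  have h1 : (iota (sc c) : SL3) ^ orderOf c = 1 := by
    rw [← map_pow, ← map_pow, pow_orderOf_eq_one, map_one, map_one]
  have hdvd : orderOf (iota (sc c) : SL3) ∣ orderOf c := orderOf_dvd_of_pow_eq_one h1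
  have hcop : (orderOf c).Coprime 2 := (Nat.coprime_two_right.mpr hc)
  exact Nat.Coprime.coprime_dvd_left hdvd hcop

end Cfsg.Agent.Helper47.Psl3
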