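import Mathlib
import Cfsg.Prelude.Def_LocalStructure
import Cfsg.Agent.Lib.Helper47.Basic
import Cfsg.Agent.Lib.Helper47.PRes

set_option autoImplicit false

namespace Cfsg.Agent.Helper47

open Cfsg Subgroup
open scoped commutatorElement

variable {A B : Type*} [Group A] [Group B] {p : ℕ}

theorem isPClosed_of_surjective [Finite A] [Fact p.Prime] {f : A →* B} (hf : Function.Surjective f)
    (h : IsPClosed p A) : IsPClosed p B := by
  intro P
  obtain ⟨Q, rfl⟩ := Sylow.mapSurjective_surjective hf p P
  rw [Sylow.coe_mapSurjective]
  exact (h Q).map f hf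

theorem isPClosed_of_surjective_of_ker [Finite A] [Fact p.Prime] {f : A →* B}
    (hf : Function.Surjective f) (hker : IsPGroup p f.ker) (h : IsPClosed p B) : IsPClosed p A := by
  intro P
  have h1 := h (P.mapSurjective hf)
  rw [Sylow.coe_mapSurjective] at h1
  have h2 : ((P : Subgroup A).map f).comap f = P := by
    rw [comap_map_eq]
    exact sup_eq_left.2 (hker.le_sylow_of_normal P)
  rw [← h2]
  exact h1.comap f

theorem isPClosed_iff_of_surjective [Finite A] [Fact p.Prime] {f : A →* B}
    (hf : Function.Surjective f) (hker : IsPGroup p f.ker) : IsPClosed p A ↔ IsPClosed p B :=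
  ⟨isPClosed_of_surjective hf, isPClosed_of_surjective_of_ker hf hker⟩

theorem isPClosed_map_iff [Finite A] [Fact p.Prime] (f : A →* B) (hker : IsPGroup p f.ker)
    (N : Subgroup A) : IsPClosed p N ↔ IsPClosed p (N.map f) := by
  apply isPClosed_iff_of_surjective (f := f.subgroupMap N) (f.subgroupMap_surjective N)
  rw [Subgroup.ker_subgroupMap]
  exact hker.comap_subtype

theorem map_pResidual_of_surjective [Finite A] [Fact p.Prime] {f : A →* B}
    (hf : Function.Surjective f) : (pResidual p A).map f = pResidual p B := by
  apply le_antisymm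
  · unfold pResidual
    rw [MonoidHom.map_closure, closure_le]
    rintro _ ⟨g, hg, rfl⟩
    apply Subgroup.subset_closure
    exact Nat.Coprime.coprime_dvd_left (orderOf_map_dvd f g) hg
  · apply pResidual_le_of_forall_pow_mem
    intro x
    obtain ⟨g, rfl⟩ := hf x
    obtain ⟨e, he⟩ := exists_pow_mem_pResidual (p := p) g
    exact ⟨e, ⟨g ^ p ^ e, he, by simp⟩⟩

theorem comap_pCore_of_surjective {f : A →* B} (hf : Function.Surjective f)
    (hker : IsPGroup p f.ker) : (pCore p B).comap f = pCore p A := by
  apply le_antisymm
  · apply le_pCore (inferInstance : ((pCore p B).comap f).Normal)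
    exact pCore_isPGroup.comap_of_ker_isPGroup f hker
  · rw [← map_le_iff_le_comap]
    apply le_pCore (Subgroup.Normal.map inferInstance f hf)
    exact pCore_isPGroup.map f

theorem map_pCore_of_surjective {f : A →* B} (hf : Function.Surjective f)
    (hker : IsPGroup p f.ker) : (pCore p A).map f = pCore p B := by
  rw [← comap_pCore_of_surjective hf hker, map_comap_eq_self_of_surjective hf]

end Cfsg.Agent.Helper47
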