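import Mathlib
import Cfsg.Prelude.Def_LocalStructure
import Cfsg.Prelude.Def_CaseTheorems
import Cfsg.Agent.Lib.Helper47.WClos
import Cfsg.Agent.Lib.Helper47.WClos2
import Cfsg.Agent.Lib.Helper47.BasicProp3
import Cfsg.Agent.Lib.Helper47.FStarP
import Cfsg.Agent.Lib.Helper47.FStarAct
import Cfsg.Agent.Lib.Helper47.Quot
import Cfsg.Agent.Lib.Helper47.PRed3
import Cfsg.Agent.Lib.Helper22.Components
import Cfsg.Agent.Lib.Helper21.PComponents
import Cfsg.Agent.Lib.Helper48.PReduced

set_option autoImplicit false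
set_option linter.unusedSectionVars false
set_option linter.style.haveILetI false

/-!
# The quasisimple subgroup `E_∘` attached to a large `p`-subgroup
-/

namespace Cfsg.Agent.Helper47.QSL

open Cfsg Subgroup Cfsg.Agent.Helper47
open scoped commutatorElement

variable {G : Type*} [Group G] {p : ℕ}

/-! ### a finite group with `O_p = 1` and `O^p` quasisimple -/

theorem pResidual_le_commutator {Γ : Type*} [Group Γ] [Finite Γ] [Fact p.Prime]
    (hO : pCore p Γ = ⊥) (hq : IsQuasisimple ↥(pResidual p Γ)) {Y : Subgroup Γ}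
    (hY : IsPGroup p Y) (hY1 : Y ≠ ⊥) : pResidual p Γ ≤ ⁅pResidual p Γ, Y⁆ := by
  have hKn : (pResidual p Γ).Normal := inferInstance
  have h1 : ⁅pResidual p Γ, Y⁆ ≤ pResidual p Γ := commutator_le_left _ _
  have h2 : pResidual p Γ ≤ normalizer ((⁅pResidual p Γ, Y⁆ : Subgroup Γ) : Set Γ) :=
    left_le_normalizer_commutator' _ _
  rcases Helper22.quasisimple_le_or_commutator_eq_bot hq h1 h2 with h | h
  · exact h
  · exfalso
    have h3 : ⁅pResidual p Γ, Y⁆ = ⊥ :=
      commutator_eq_bot_of_perfect (Helper22.IsQuasisimple.commutator_eq hq) h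
    have h4 := le_inf_centralizer_of_commutator_eq_bot hO hq h3
    have h5 := card_inf_centralizer_coprime (p := p) hO (pResidual p Γ)
    have h6 : (Nat.card ↥Y).Coprime p :=
      Nat.Coprime.coprime_dvd_left (Subgroup.card_dvd_of_le h4) h5
    exact hY1 (eq_bot_of_isPGroup_of_card_coprime hY h6)

theorem pResidual_le_pResOf_of_le {Γ : Type*} [Group Γ] {X : Subgroup Γ}
    (h : pResidual p Γ ≤ X) : pResidual p Γ ≤ pResOf p X := by
  show pResidual p Γ ≤ (pResidual p ↥X).map X.subtype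
  rw [map_pResidual_eq_closure]
  show closure {g : Γ | Nat.Coprime (orderOf g) p} ≤ _
  rw [closure_le]
  intro g hg
  exact Subgroup.subset_closure ⟨h (mem_pResidual_of_coprime hg), hg⟩

/-! ### images in the quotient `E / (E ∩ N)` -/

/-- the image of `X ∩ E` in `E / (E ∩ N)` -/
abbrev bar (E N : Subgroup G) [(N.subgroupOf E).Normal] (X : Subgroup G) :
    Subgroup (↥E ⧸ N.subgroupOf E) :=
  (X.subgroupOf E).map (QuotientGroup.mk' (N.subgroupOf E))

variable {E N : Subgroup G} [hn : (N.subgroupOf E).Normal]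

theorem bar_mono {X Y : Subgroup G} (h : X ≤ Y) : bar E N X ≤ bar E N Y :=
  map_mono (fun _ hx => h hx)

theorem le_of_bar_le {X Y : Subgroup G} (hX : X ≤ E) (h : bar E N X ≤ bar E N Y) :
    X ≤ Y ⊔ (E ⊓ N) := by
  have h1 := (map_le_map_iff (f := QuotientGroup.mk' (N.subgroupOf E))).mp h
  rw [QuotientGroup.ker_mk'] at h1
  have h2 := map_mono (f := E.subtype) h1
  rw [Subgroup.map_sup, subgroupOf_map_subtype, subgroupOf_map_subtype, subgroupOf_map_subtype,
    inf_of_le_left hX] at h2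
  exact h2.trans (sup_le_sup inf_le_left (le_of_eq (inf_comm _ _)))

theorem bar_sup {X Y : Subgroup G} (hX : X ≤ E) (hY : Y ≤ E) :
    bar E N (X ⊔ Y) = bar E N X ⊔ bar E N Y := by
  show ((X ⊔ Y).subgroupOf E).map _ = _
  rw [subgroupOf_sup hX hY, Subgroup.map_sup]

theorem subgroupOf_commutator {X Y : Subgroup G} (hX : X ≤ E) (hY : Y ≤ E) :
    (⁅X, Y⁆ : Subgroup G).subgroupOf E = ⁅X.subgroupOf E, Y.subgroupOf E⁆ := by
  apply map_injective E.subtype_injective
  have hXY : ⁅X, Y⁆ ≤ E := by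
    rw [commutator_le]
    intro a ha b hb
    exact E.mul_mem (E.mul_mem (E.mul_mem (hX ha) (hY hb)) (E.inv_mem (hX ha))) (E.inv_mem (hY hb))
  rw [map_commutator, subgroupOf_map_subtype, subgroupOf_map_subtype, subgroupOf_map_subtype,
    inf_of_le_left hX, inf_of_le_left hY, inf_of_le_left hXY]

theorem bar_commutator {X Y : Subgroup G} (hX : X ≤ E) (hY : Y ≤ E) :
    bar E N ⁅X, Y⁆ = ⁅bar E N X, bar E N Y⁆ := by
  show ((⁅X, Y⁆ : Subgroup G).subgroupOf E).map _ = _
  rw [subgroupOf_commutator hX hY, map_commutator]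

theorem bar_eq_bot_iff {X : Subgroup G} (hX : X ≤ E) : bar E N X = ⊥ ↔ X ≤ N := by
  show (X.subgroupOf E).map _ = ⊥ ↔ _
  rw [Subgroup.map_eq_bot_iff, QuotientGroup.ker_mk']
  constructor
  · intro h x hx
    exact h (show (⟨x, hX hx⟩ : ↥E) ∈ X.subgroupOf E from hx)
  · intro h x hx
    exact h hx

theorem bar_inf_eq_bot : bar E N (E ⊓ N) = ⊥ := (bar_eq_bot_iff inf_le_left).mpr inf_le_right

theorem bar_isPGroup {X : Subgroup G} (hX : IsPGroup p X) : IsPGroup p (bar E N X) :=
  (hX.comap_subtype (K := E)).map _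

theorem bar_normal {X : Subgroup G} (hX : E ≤ normalizer (X : Set G)) : (bar E N X).Normal := by
  haveI : (X.subgroupOf E).Normal := normal_subgroupOf_of_le_normalizer hX
  exact Subgroup.Normal.map inferInstance _ (QuotientGroup.mk'_surjective _)

theorem bar_pResOf [Finite G] [Fact p.Prime] :
    bar E N (pResOf p E) = pResidual p (↥E ⧸ N.subgroupOf E) := by
  show ((pResOf p E).subgroupOf E).map _ = _
  have h1 : (pResOf p E).subgroupOf E = pResidual p ↥E :=
    comap_map_eq_self_of_injective E.subtype_injective _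
  rw [h1]
  exact map_pResidual_of_surjective (QuotientGroup.mk'_surjective _)

/-! ### the hypotheses, inside `G` -/

theorem normalizer_le_normalizer_centralizer' (L : Subgroup G) :
    normalizer (L : Set G) ≤ normalizer ((centralizer (L : Set G) : Subgroup G) : Set G) := by
  apply le_normalizer_of_cj_le
  rintro g hg _ ⟨c, hc, rfl⟩
  rw [mem_centralizer_iff]
  intro u hu
  have h1 : g⁻¹ * u * g ∈ L := by
    have := (mem_normalizer_iff.mp (inv_mem hg) u).mp hu
    simpa using this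
  have h2 := hc _ h1
  show u * (g * c * g⁻¹) = g * c * g⁻¹ * u
  have h3 : u * (g * c * g⁻¹) = g * ((g⁻¹ * u * g) * c) * g⁻¹ := by group
  rw [h3, h2]; group

/-- the hypotheses on `Q`, `U`, `E` -/
structure Dat (p : ℕ) (Q U E : Subgroup G) : Prop where
  hQp : IsPGroup p Q
  hQ1 : Q ≠ ⊥
  hQ : IsLarge Q
  hUp : IsPGroup p U
  hU1 : U ≠ ⊥
  hQE : Q ≤ E
  hEU : E ≤ normalizer (U : Set G)
  hQn : ¬ E ≤ normalizer (Q : Set G)

/-- `E_∘ = O^p(E°)` -/
abbrev Er (p : ℕ) (Q E : Subgroup G) : Subgroup G := pResOf p (weakClosure Q E)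

/-- `C_{E_∘}(U)` -/
abbrev DD (p : ℕ) (Q U E : Subgroup G) : Subgroup G := Er p Q E ⊓ centralizer (U : Set G)

namespace Dat

variable {Q U E : Subgroup G} [Finite G] [Fact p.Prime]

theorem CU_le (d : Dat p Q U E) : centralizer (U : Set G) ≤ normalizer (Q : Set G) :=
  centralizer_le_normalizer_of_isLarge d.hQp d.hQ d.hUp d.hU1 (d.hQE.trans d.hEU)

theorem not_Q_le (d : Dat p Q U E) : ¬ Q ≤ centralizer (U : Set G) := by
  intro h
  apply d.hQn
  refine d.hEU.trans (d.hQ.2 U ?_ d.hU1)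
  exact le_centralizer_iff.mp h

theorem E_le_CU (d : Dat p Q U E) :
    E ≤ normalizer ((centralizer (U : Set G) : Subgroup G) : Set G) :=
  d.hEU.trans (normalizer_le_normalizer_centralizer' U)

theorem wcu (d : Dat p Q U E) : WCU p Q := wcu_of_isLarge d.hQp d.hQ1 d.hQ

theorem Q_le_W (d : Dat p Q U E) : Q ≤ weakClosure Q E := le_weakClosure d.hQE

theorem W_le (_d : Dat p Q U E) : weakClosure Q E ≤ E := weakClosure_le Q E

theorem E_le_W (_d : Dat p Q U E) : E ≤ normalizer (weakClosure Q E : Set G) :=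
  le_normalizer.trans (normalizer_le_normalizer_weakClosure Q E)

theorem Er_le_W (_d : Dat p Q U E) : Er p Q E ≤ weakClosure Q E := pResOf_le _

theorem Er_le_E (d : Dat p Q U E) : Er p Q E ≤ E := d.Er_le_W.trans d.W_le

theorem E_le_Er (d : Dat p Q U E) : E ≤ normalizer (Er p Q E : Set G) :=
  d.E_le_W.trans (normalizer_le_normalizer_pResOf _)

theorem pResOf_Er (_d : Dat p Q U E) : pResOf p (Er p Q E) = Er p Q E := pResOf_pResOf _

theorem D_le_Q (d : Dat p Q U E) : DD p Q U E ≤ normalizer (Q : Set G) :=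
  inf_le_right.trans d.CU_le

theorem E_le_D (d : Dat p Q U E) : E ≤ normalizer (DD p Q U E : Set G) :=
  le_normalizer_inf d.E_le_Er d.E_le_CU

theorem Er_sup_Q (d : Dat p Q U E) : Er p Q E ⊔ Q = weakClosure Q E :=
  pResOf_sup_eq_of_weakClosure_eq d.hQp d.wcu d.Q_le_W (weakClosure_idem Q E)

theorem comm_Er_Q (d : Dat p Q U E) : ⁅Er p Q E, Q⁆ = Er p Q E :=
  commutator_pResOf_eq d.hQp d.wcu d.Q_le_W (weakClosure_idem Q E)

theorem comm_D_W (d : Dat p Q U E) :
    ⁅DD p Q U E, weakClosure Q E⁆ ≤ pCoreOf p (DD p Q U E) := by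
  have hDn : E ≤ normalizer (pCoreOf p (DD p Q U E) : Set G) :=
    d.E_le_D.trans (Helper23.normalizer_le_normalizer_pCoreOf _)
  have h : weakClosure Q E ≤ commStab (DD p Q U E) (pCoreOf p (DD p Q U E)) := by
    rw [weakClosure_eq_iSup d.hQp d.wcu d.hQE]
    apply iSup_le
    rintro ⟨x, hx⟩
    have hcE : cj x Q ≤ E := by
      have := cj_mono (a := x) d.hQE
      rwa [cj_eq_self_of_mem hx] at this
    have hDc : DD p Q U E ≤ normalizer (cj x Q : Set G) := by
      rw [normalizer_cj, ← cj_eq_self_iff.mpr (d.E_le_D hx)]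
      exact cj_mono d.D_le_Q
    apply le_commStab (hcE.trans hDn)
    refine (commutator_le_inf_of_normalizers (hcE.trans d.E_le_D) hDc).trans ?_
    exact le_pCoreOf inf_le_left (le_normalizer_inf le_normalizer hDc)
      ((cj_isPGroup d.hQp).to_le inf_le_right)
  exact (commutator_mono le_rfl h).trans (commutator_commStab_le _ _)

end Dat

/-- a variant of the modular law -/
theorem le_sup_inf_of_le_sup' {A K D : Subgroup G} (hDA : D ≤ A) (hA : A ≤ D ⊔ K)
    (hDK : D ≤ normalizer (K : Set G)) : A ≤ D ⊔ (A ⊓ K) := by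
  intro x hx
  have hx' : x ∈ K ⊔ D := by rw [sup_comm]; exact hA hx
  obtain ⟨k, hk, d', hd', rfl⟩ := exists_mul_of_mem_sup_of_le_normalizer hDK hx'
  have hkA : k ∈ A := by
    have := A.mul_mem hx (A.inv_mem (hDA hd'))
    rwa [mul_inv_cancel_right] at this
  rw [sup_comm]
  exact mul_mem (mem_sup_left ⟨hkA, hk⟩) (mem_sup_right hd')

section Quot

variable {Q U E : Subgroup G} [Finite G] [Fact p.Prime]
  [hn : ((centralizer (U : Set G)).subgroupOf E).Normal]

namespace Dat

/-- a `p`-subgroup of `E` acting nontrivially on `U` -/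
theorem le_commutator_sup (_d : Dat p Q U E)
    (hred : pCore p (↥E ⧸ (centralizer (U : Set G)).subgroupOf E) = ⊥)
    (hqs : IsQuasisimple ↥(pResidual p (↥E ⧸ (centralizer (U : Set G)).subgroupOf E)))
    {Y : Subgroup G} (hYE : Y ≤ E) (hYp : IsPGroup p Y) (hY : ¬ Y ≤ centralizer (U : Set G)) :
    pResOf p E ≤ ⁅pResOf p E, Y⁆ ⊔ (E ⊓ centralizer (U : Set G)) := by
  apply le_of_bar_le (pResOf_le E)
  rw [bar_commutator (pResOf_le E) hYE, bar_pResOf]
  exact pResidual_le_commutator hred hqs (bar_isPGroup hYp)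
    (fun h => hY ((bar_eq_bot_iff hYE).mp h))

theorem pResOf_le_Er_sup (d : Dat p Q U E)
    (hred : pCore p (↥E ⧸ (centralizer (U : Set G)).subgroupOf E) = ⊥)
    (hqs : IsQuasisimple ↥(pResidual p (↥E ⧸ (centralizer (U : Set G)).subgroupOf E))) :
    pResOf p E ≤ Er p Q E ⊔ (E ⊓ centralizer (U : Set G)) := by
  apply le_of_bar_le (pResOf_le E)
  have h1 : pResidual p (↥E ⧸ (centralizer (U : Set G)).subgroupOf E) ≤
      bar E (centralizer (U : Set G)) (weakClosure Q E) := by
    have h2 := d.le_commutator_sup hred hqs d.hQE d.hQp d.not_Q_le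
    have h3 : ⁅pResOf p E, Q⁆ ≤ weakClosure Q E :=
      (commutator_mono (pResOf_le E) d.Q_le_W).trans
        (commutator_le_right_of_le_normalizer d.E_le_W)
    have h4 : pResOf p E ≤ weakClosure Q E ⊔ (E ⊓ centralizer (U : Set G)) :=
      h2.trans (sup_le_sup_right h3 _)
    have h5 := bar_mono (E := E) (N := centralizer (U : Set G)) h4
    rw [bar_sup d.W_le inf_le_left, bar_inf_eq_bot, sup_bot_eq, bar_pResOf] at h5
    exact h5
  have h6 := pResidual_le_pResOf_of_le h1
  rw [bar_pResOf]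
  refine h6.trans ?_
  haveI := bar_normal (N := centralizer (U : Set G)) d.E_le_Er
  apply pResOf_le_of_le_sup (R := bar E (centralizer (U : Set G)) Q) ?_ (bar_isPGroup d.hQp) ?_
  · rw [normalizer_eq_top_iff.mpr inferInstance]; exact le_top
  · rw [← bar_sup d.Er_le_E d.hQE, d.Er_sup_Q]

/-- the first conclusion -/
theorem pResOf_sup_eq (d : Dat p Q U E)
    (hred : pCore p (↥E ⧸ (centralizer (U : Set G)).subgroupOf E) = ⊥)
    (hqs : IsQuasisimple ↥(pResidual p (↥E ⧸ (centralizer (U : Set G)).subgroupOf E))) :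
    pResOf p E ⊔ (E ⊓ centralizer (U : Set G)) = Er p Q E ⊔ (E ⊓ centralizer (U : Set G)) :=
  le_antisymm (sup_le (d.pResOf_le_Er_sup hred hqs) le_sup_right)
    (sup_le_sup_right (map_pResidual_mono d.W_le) _)

theorem bar_Er (d : Dat p Q U E)
    (hred : pCore p (↥E ⧸ (centralizer (U : Set G)).subgroupOf E) = ⊥)
    (hqs : IsQuasisimple ↥(pResidual p (↥E ⧸ (centralizer (U : Set G)).subgroupOf E))) :
    bar E (centralizer (U : Set G)) (Er p Q E) =
      pResidual p (↥E ⧸ (centralizer (U : Set G)).subgroupOf E) := by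
  apply le_antisymm
  · rw [← bar_pResOf]; exact bar_mono (map_pResidual_mono d.W_le)
  · have := bar_mono (E := E) (N := centralizer (U : Set G)) (d.pResOf_le_Er_sup hred hqs)
    rwa [bar_sup d.Er_le_E inf_le_left, bar_inf_eq_bot, sup_bot_eq, bar_pResOf] at this

theorem Er_le_sup_D (d : Dat p Q U E) {B : Subgroup G} (hB : B ≤ Er p Q E)
    (h : bar E (centralizer (U : Set G)) (Er p Q E) ≤ bar E (centralizer (U : Set G)) B) :
    Er p Q E ≤ B ⊔ DD p Q U E := by
  have h1 := le_of_bar_le d.Er_le_E h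
  have hBn : B ≤ normalizer ((E ⊓ centralizer (U : Set G) : Subgroup G) : Set G) :=
    (hB.trans d.Er_le_E).trans (le_normalizer_inf le_normalizer d.E_le_CU)
  refine (le_sup_inf_of_le_sup' hB h1 hBn).trans (sup_le_sup_left ?_ _)
  exact le_inf inf_le_left (inf_le_right.trans inf_le_right)

/-- `E_∘` is perfect -/
theorem Er_perfect (d : Dat p Q U E)
    (hred : pCore p (↥E ⧸ (centralizer (U : Set G)).subgroupOf E) = ⊥)
    (hqs : IsQuasisimple ↥(pResidual p (↥E ⧸ (centralizer (U : Set G)).subgroupOf E))) :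
    ⁅Er p Q E, Er p Q E⁆ = Er p Q E := by
  have hAA : ⁅Er p Q E, Er p Q E⁆ ≤ Er p Q E := commutator_le_left_of_le_normalizer le_normalizer
  apply le_antisymm hAA
  have hEn : E ≤ normalizer ((⁅Er p Q E, Er p Q E⁆ : Subgroup G) : Set G) :=
    (le_inf d.E_le_Er d.E_le_Er).trans (normalizer_inf_le_normalizer_commutator _ _)
  have h1 : Er p Q E ≤ ⁅Er p Q E, Er p Q E⁆ ⊔ DD p Q U E := by
    apply d.Er_le_sup_D hAA
    rw [bar_commutator d.Er_le_E d.Er_le_E, d.bar_Er hred hqs]
    exact (Helper22.IsQuasisimple.commutator_eq hqs).ge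
  have h2 : ⁅⁅Er p Q E, Er p Q E⁆ ⊔ DD p Q U E, Q⁆ ≤ ⁅Er p Q E, Er p Q E⁆ ⊔ (Q ⊓ Er p Q E) := by
    rw [commutator_comm]
    apply commutator_sup_right_le
    · exact (commutator_le_right_of_le_normalizer (d.hQE.trans hEn)).trans le_sup_left
    · refine le_trans (le_inf ?_ ?_) le_sup_right
      · exact commutator_le_left_of_le_normalizer d.D_le_Q
      · exact (commutator_mono le_rfl inf_le_left).trans
          (commutator_le_right_of_le_normalizer (d.hQE.trans d.E_le_Er))
    · exact le_sup_left.trans le_normalizer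
    · apply le_normalizer_sup
      · exact (inf_le_left.trans d.Er_le_E).trans hEn
      · exact le_normalizer_inf d.D_le_Q (inf_le_left.trans le_normalizer)
  have h3 : Er p Q E ≤ ⁅Er p Q E, Er p Q E⁆ ⊔ (Q ⊓ Er p Q E) :=
    calc Er p Q E = ⁅Er p Q E, Q⁆ := d.comm_Er_Q.symm
      _ ≤ ⁅⁅Er p Q E, Er p Q E⁆ ⊔ DD p Q U E, Q⁆ := commutator_mono h1 le_rfl
      _ ≤ _ := h2
  have h4 : pResOf p (Er p Q E) ≤ ⁅Er p Q E, Er p Q E⁆ :=
    pResOf_le_of_le_sup (R := Q ⊓ Er p Q E)
      (inf_le_right.trans ((le_inf le_normalizer le_normalizer).trans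
        (normalizer_inf_le_normalizer_commutator _ _)))
      (d.hQp.to_le inf_le_left) h3
  rwa [d.pResOf_Er] at h4

/-- the last conclusion -/
theorem comm_Er_eq (d : Dat p Q U E)
    (hred : pCore p (↥E ⧸ (centralizer (U : Set G)).subgroupOf E) = ⊥)
    (hqs : IsQuasisimple ↥(pResidual p (↥E ⧸ (centralizer (U : Set G)).subgroupOf E)))
    {Y : Subgroup G} (hYE : Y ≤ E) (hYp : IsPGroup p Y) (hY : ¬ Y ≤ centralizer (U : Set G)) :
    ⁅Er p Q E, Y⁆ = Er p Q E := by
  have hBA : ⁅Er p Q E, Y⁆ ≤ Er p Q E :=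
    commutator_le_left_of_le_normalizer (hYE.trans d.E_le_Er)
  apply le_antisymm hBA
  have hAB : Er p Q E ≤ normalizer ((⁅Er p Q E, Y⁆ : Subgroup G) : Set G) :=
    left_le_normalizer_commutator' _ _
  have h1 : Er p Q E ≤ ⁅Er p Q E, Y⁆ ⊔ DD p Q U E := by
    apply d.Er_le_sup_D hBA
    rw [bar_commutator d.Er_le_E hYE, d.bar_Er hred hqs]
    exact pResidual_le_commutator hred hqs (bar_isPGroup hYp)
      (fun h => hY ((bar_eq_bot_iff hYE).mp h))
  have h2 : ⁅⁅Er p Q E, Y⁆ ⊔ DD p Q U E, Er p Q E⁆ ≤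
      ⁅Er p Q E, Y⁆ ⊔ pCoreOf p (DD p Q U E) := by
    rw [commutator_comm]
    apply commutator_sup_right_le
    · exact (commutator_le_right_of_le_normalizer hAB).trans le_sup_left
    · rw [commutator_comm]
      exact ((commutator_mono le_rfl d.Er_le_W).trans d.comm_D_W).trans le_sup_right
    · exact le_sup_left.trans le_normalizer
    · exact le_normalizer_sup ((inf_le_left : DD p Q U E ≤ Er p Q E).trans hAB)
        (Helper48.le_normalizer_pCoreOf _)
  have h3 : Er p Q E ≤ ⁅Er p Q E, Y⁆ ⊔ pCoreOf p (DD p Q U E) :=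
    calc Er p Q E = ⁅Er p Q E, Er p Q E⁆ := (d.Er_perfect hred hqs).symm
      _ ≤ ⁅⁅Er p Q E, Y⁆ ⊔ DD p Q U E, Er p Q E⁆ := commutator_mono h1 le_rfl
      _ ≤ _ := h2
  have h4 : pResOf p (Er p Q E) ≤ ⁅Er p Q E, Y⁆ :=
    pResOf_le_of_le_sup (R := pCoreOf p (DD p Q U E))
      (((Helper48.pCoreOf_le _).trans inf_le_left).trans hAB)
      (Helper48.isPGroup_pCoreOf _) h3
  rwa [d.pResOf_Er] at h4

theorem pCoreOf_Er_le (d : Dat p Q U E)
    (hred : pCore p (↥E ⧸ (centralizer (U : Set G)).subgroupOf E) = ⊥) :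
    pCoreOf p (Er p Q E) ≤ centralizer (U : Set G) := by
  have hle : pCoreOf p (Er p Q E) ≤ E := (Helper48.pCoreOf_le _).trans d.Er_le_E
  rw [← bar_eq_bot_iff (E := E) (N := centralizer (U : Set G)) hle, ← le_bot_iff, ← hred]
  apply le_pCore
  · exact bar_normal (d.E_le_Er.trans (Helper23.normalizer_le_normalizer_pCoreOf _))
  · exact bar_isPGroup (Helper48.isPGroup_pCoreOf _)

/-- `E_∘ / C_{E_∘}(U)` is quasisimple -/
theorem quot_CU_quasisimple (d : Dat p Q U E)
    (hred : pCore p (↥E ⧸ (centralizer (U : Set G)).subgroupOf E) = ⊥)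
    (hqs : IsQuasisimple ↥(pResidual p (↥E ⧸ (centralizer (U : Set G)).subgroupOf E)))
    [hn2 : ((centralizer (U : Set G)).subgroupOf (Er p Q E)).Normal] :
    IsQuasisimple (↥(Er p Q E) ⧸ (centralizer (U : Set G)).subgroupOf (Er p Q E)) := by
  have hbar := d.bar_Er hred hqs
  have hmem : ∀ a : ↥(Er p Q E),
      ((QuotientGroup.mk' ((centralizer (U : Set G)).subgroupOf E)).comp
        (Subgroup.inclusion d.Er_le_E)) a ∈
        pResidual p (↥E ⧸ (centralizer (U : Set G)).subgroupOf E) := by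
    intro a
    rw [← hbar]
    exact ⟨Subgroup.inclusion d.Er_le_E a, a.2, rfl⟩
  obtain ⟨φ, hφ⟩ : ∃ φ : ↥(Er p Q E) →*
      ↥(pResidual p (↥E ⧸ (centralizer (U : Set G)).subgroupOf E)),
      φ = ((QuotientGroup.mk' ((centralizer (U : Set G)).subgroupOf E)).comp
        (Subgroup.inclusion d.Er_le_E)).codRestrict _ hmem := ⟨_, rfl⟩
  have hsurj : Function.Surjective φ := by
    rintro ⟨k, hk⟩
    rw [← hbar] at hk
    obtain ⟨e, he, rfl⟩ := hk
    refine ⟨⟨(e : G), he⟩, ?_⟩
    rw [hφ]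
    apply Subtype.ext
    rfl
  have hker : φ.ker = (centralizer (U : Set G)).subgroupOf (Er p Q E) := by
    ext a
    rw [MonoidHom.mem_ker, mem_subgroupOf, hφ]
    constructor
    · intro h
      have h1 := congrArg Subtype.val h
      have h2 : (QuotientGroup.mk' ((centralizer (U : Set G)).subgroupOf E))
          (Subgroup.inclusion d.Er_le_E a) = 1 := h1
      rw [QuotientGroup.mk'_apply, QuotientGroup.eq_one_iff, mem_subgroupOf] at h2
      exact h2
    · intro h
      apply Subtype.ext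
      show (QuotientGroup.mk' ((centralizer (U : Set G)).subgroupOf E))
          (Subgroup.inclusion d.Er_le_E a) = 1
      rw [QuotientGroup.mk'_apply, QuotientGroup.eq_one_iff, mem_subgroupOf]
      exact h
  have e₁ := QuotientGroup.quotientKerEquivOfSurjective φ hsurj
  have e₂ := QuotientGroup.quotientMulEquivOfEq hker
  exact Helper22.IsQuasisimple.of_mulEquiv (e₁.symm.trans e₂) hqs

/-- `E_∘ / O_p(E_∘)` is quasisimple -/
theorem quot_pCore_quasisimple (d : Dat p Q U E)
    (hred : pCore p (↥E ⧸ (centralizer (U : Set G)).subgroupOf E) = ⊥)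
    (hqs : IsQuasisimple ↥(pResidual p (↥E ⧸ (centralizer (U : Set G)).subgroupOf E)))
    [hn2 : ((centralizer (U : Set G)).subgroupOf (Er p Q E)).Normal] :
    IsQuasisimple (↥(Er p Q E) ⧸ pCore p ↥(Er p Q E)) := by
  haveI hPn : (pCore p ↥(Er p Q E)).Normal := Subgroup.sSup_normal _ (fun _ h => h.1)
  haveI hperf : Group.IsPerfect ↥(Er p Q E) := Subgroup.isPerfect_iff.mpr (d.Er_perfect hred hqs)
  have hle : pCore p ↥(Er p Q E) ≤
      ((centralizer (U : Set G)).subgroupOf (Er p Q E)).comap (MonoidHom.id ↥(Er p Q E)) := by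
    intro x hx
    show (x : G) ∈ centralizer (U : Set G)
    exact d.pCoreOf_Er_le hred ⟨x, hx, rfl⟩
  have hcomm : ⁅DD p Q U E, Er p Q E⁆ ≤ pCoreOf p (Er p Q E) := by
    refine ((commutator_mono le_rfl d.Er_le_W).trans d.comm_D_W).trans ?_
    apply le_pCoreOf ((Helper48.pCoreOf_le _).trans inf_le_left)
    · exact (d.Er_le_E.trans d.E_le_D).trans (Helper23.normalizer_le_normalizer_pCoreOf _)
    · exact Helper48.isPGroup_pCoreOf _
  apply Helper21.isQuasisimple_of_surjective_of_ker_le_center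
    (QuotientGroup.map (pCore p ↥(Er p Q E)) ((centralizer (U : Set G)).subgroupOf (Er p Q E))
      (MonoidHom.id ↥(Er p Q E)) hle)
  · intro y
    obtain ⟨a, rfl⟩ := QuotientGroup.mk_surjective y
    exact ⟨QuotientGroup.mk a, rfl⟩
  · exact d.quot_CU_quasisimple hred hqs
  · infer_instance
  · intro x hx
    obtain ⟨a, rfl⟩ := QuotientGroup.mk_surjective x
    rw [MonoidHom.mem_ker, QuotientGroup.map_mk, MonoidHom.id_apply, QuotientGroup.eq_one_iff,
      mem_subgroupOf] at hx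
    rw [mem_center_iff]
    intro y
    obtain ⟨b, rfl⟩ := QuotientGroup.mk_surjective y
    rw [← QuotientGroup.mk_mul, ← QuotientGroup.mk_mul, QuotientGroup.eq]
    have h1 : ⁅(a : G)⁻¹, (b : G)⁻¹⁆ ∈ pCoreOf p (Er p Q E) :=
      hcomm (commutator_mem_commutator (inv_mem ⟨a.2, hx⟩) (inv_mem b.2))
    obtain ⟨z, hz, hza⟩ := h1
    have h2 : z = (b * a)⁻¹ * (a * b) := by
      apply Subtype.ext
      have hza' : (z : G) = ⁅(a : G)⁻¹, (b : G)⁻¹⁆ := hza
      rw [hza']
      simp [commutatorElement_def, mul_assoc]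
    rw [← h2]
    exact hz

end Dat

end Quot

end Cfsg.Agent.Helper47.QSL
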