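import Mathlib

/-!
# RW piece ROOT (S2279, server helper12): the iterated Frobenius is surjective on a finite field.
-/

set_option autoImplicit false

namespace Cfsg.Agent.Helper47.RW

variable {F : Type*} [Field F] {m : ℕ}

/-- (ROOT) the Frobenius is surjective on a finite field -/
theorem exists_root [Fintype F] (p : ℕ) [Fact p.Prime] [CharP F p] (a : ℕ) (r c0 : F) (hr : r ≠ 0) :
    ∃ c : F, r * c ^ (p ^ a) = c0 := by
  have hinj : Function.Injective (iterateFrobenius F p a) := (iterateFrobenius F p a).injective
  have hsurj : Function.Surjective (iterateFrobenius F p a) :=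
    Finite.surjective_of_injective hinj
  obtain ⟨c, hc⟩ := hsurj (r⁻¹ * c0)
  refine ⟨c, ?_⟩
  rw [iterateFrobenius_def] at hc
  rw [hc, ← mul_assoc, mul_inv_cancel₀ hr, one_mul]

end Cfsg.Agent.Helper47.RW
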