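import Mathlib
import Cfsg.Agent.Lib.Helper93.RU0
import Cfsg.Agent.Lib.Helper82.RUA
import Cfsg.Agent.Lib.Helper34.RUB3
import Cfsg.Agent.Lib.Helper78.RUD1
import Cfsg.Agent.Lib.Helper44.RUD2
import Cfsg.Agent.Lib.Helper21.RUE1
import Cfsg.Agent.Lib.Helper12.RW0
import Cfsg.Agent.Lib.Helper30.RWSPQ

/-!
# RW piece WALL (S2279, server helper12): a subgroup containing `u` whose `Wset` contains
`e_{n-1}` is everything.  Uses SPP (helper30), `W_conj`, `W_smul`, `W_add`, `eq_top_of_W`.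
-/

set_option autoImplicit false

namespace Cfsg.Agent.Helper47.RW

open Matrix Cfsg.Agent.Helper93.RU Cfsg.Agent.Helper12.RW

variable {F : Type*} [Field F] {m : ℕ}

theorem h47_W_zero (H : Subgroup (SLm m F)) (v : Fin (m + 3) → F) (hv : v ∈ Wset H) :
    (0 : Fin (m + 3) → F) ∈ Wset H := by
  have h := Cfsg.Agent.Helper44.RU.W_smul H 0 v hv
  rwa [zero_smul] at h

theorem h47_W_sum (H : Subgroup (SLm m F)) {ι : Type*} (s : Finset ι)
    (f : ι → Fin (m + 3) → F) (v0 : Fin (m + 3) → F) (hv0 : v0 ∈ Wset H)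
    (hf : ∀ i ∈ s, f i ∈ Wset H) : ∑ i ∈ s, f i ∈ Wset H := by
  classical
  induction s using Finset.induction_on with
  | empty => rw [Finset.sum_empty]; exact h47_W_zero H v0 hv0
  | insert a s ha ih =>
    rw [Finset.sum_insert ha]
    exact Cfsg.Agent.Helper78.RU.W_add H _ _ (hf a (Finset.mem_insert_self a s))
      (ih (fun i hi => hf i (Finset.mem_insert_of_mem hi)))

theorem h47_Pv_mem (H : Subgroup (SLm m F)) (hu : uEl m F ∈ H)
    (h : eV (lastI m) ∈ Wset H) (k : ℤ) : Pv m F k ∈ Wset H := by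
  unfold Pv
  exact Cfsg.Agent.Helper44.RU.W_conj H _ (H.zpow_mem hu k) _ h

/-- WALL modulo the spanning statement SPP -/
theorem h47_top_of_centre_of_span (H : Subgroup (SLm m F)) (hu : uEl m F ∈ H)
    (h : eV (lastI m) ∈ Wset H)
    (hspan : ∀ x : Fin (m + 3) → F,
      ∃ a : Fin (m + 3) → F, x = ∑ k : Fin (m + 3), a k • Pv m F (k.val : ℤ)) : H = ⊤ := by
  apply Cfsg.Agent.Helper21.RU.eq_top_of_W
  intro k
  obtain ⟨a, ha⟩ := hspan (eV k)
  rw [ha]
  apply h47_W_sum H _ _ _ h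
  intro i _
  exact Cfsg.Agent.Helper44.RU.W_smul H _ _ (h47_Pv_mem H hu h _)

/-- (WALL) uses SPP G6a G7 `Helper44.RU.W_conj W_smul`, `Helper78.RU.W_add`, `Helper21.RU.eq_top_of_W` -/
theorem top_of_centre (H : Subgroup (SLm m F)) (hu : uEl m F ∈ H)
    (h : eV (lastI m) ∈ Wset H) : H = ⊤ :=
  h47_top_of_centre_of_span H hu h Cfsg.Agent.Helper30.RW.span_P

end Cfsg.Agent.Helper47.RW
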