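import Mathlib
import Cfsg.Agent.Lib.Helper64.S4017Defs
import Cfsg.Agent.Lib.Helper47.S4017A5Core
import Cfsg.Agent.Lib.Helper86.S4017A2
import Cfsg.Agent.Lib.Helper86.S4017A3

/-!
# S4017M (A5) `A_card_pel` (helper64 lemma server "S4017M", row S4017)

The count of the nontrivial `p`-elements in case A: `h47_a5_core` with (A2) `A_sylow` and (A3)
`A_normalizer` (helper86) plugged in.
-/

set_option autoImplicit false

namespace Cfsg.Agent.Helper47.S4017M

open Cfsg.Agent.Helper64.S4017

variable {G : Type*} [Group G] [Finite G] {a p : ℕ} {Q : Subgroup G} {x : G}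

theorem A_card_pel (hall : ∀ (Q' : Subgroup G) (x' : G), Setting a p Q' x' → Tools a p Q' x')
    (h : Setting a p Q x) (hA : ∀ u z : G, IsInv u → IsPel p z → z * u = u * z → z = 1)
    (P : Sylow p G) :
    Nat.card {y : G // y ≠ 1 ∧ IsPel p y} * (2 * Nat.card P) =
      Nat.card G * (Nat.card P - 1) :=
  h47_a5_core h (fun P' => (Cfsg.Agent.Helper86.S4017M.A_sylow hall h hA P').2)
    (fun P' => Cfsg.Agent.Helper86.S4017M.A_normalizer hall h hA P') P

end Cfsg.Agent.Helper47.S4017M
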