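import Mathlib
import Cfsg.Agent.Lib.Helper62.SLN0

/-!
# SLN (R8) — helper47 for helper62's server (#7389, S2332)

`irreducible_comp_equiv`: irreducibility is preserved by a group isomorphism.
-/

set_option autoImplicit false

namespace Cfsg.Agent.Helper47.SLN

open Matrix Module Cfsg.Agent.Helper93.U2 Cfsg.Agent.Helper62.SLN

variable {V : Type*} [AddCommGroup V] [Module ℂ V]

/-- the order isomorphism between the subrepresentation lattices -/
def h47_subrepIso {G H : Type*} [Group G] [Group H] (e : H ≃* G) (ρ : Representation ℂ G V) :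
    Subrepresentation (ρ.comp e.toMonoidHom) ≃o Subrepresentation ρ where
  toFun τ := ⟨τ.toSubmodule, fun g v hv => by
    have h := τ.apply_mem_toSubmodule (e.symm g) hv
    simpa using h⟩
  invFun τ := ⟨τ.toSubmodule, fun h v hv => τ.apply_mem_toSubmodule (e h) hv⟩
  left_inv τ := rfl
  right_inv τ := rfl
  map_rel_iff' := Iff.rfl

/-- piece R8 : irreducibility is preserved by a group isomorphism -/
theorem irreducible_comp_equiv {G H : Type*} [Group G] [Group H] (e : H ≃* G)
    (ρ : Representation ℂ G V) (hρ : ρ.IsIrreducible) :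
    Representation.IsIrreducible (k := ℂ) (G := H) (V := V) (ρ.comp e.toMonoidHom) :=
  (OrderIso.isSimpleOrder_iff (h47_subrepIso e ρ)).mpr hρ

end Cfsg.Agent.Helper47.SLN
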