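import Mathlib
import Cfsg.Prelude.Def_Local
import Cfsg.Agent.Lib.Helper89.TH1Defs
import Cfsg.Agent.Lib.Helper52.Coprime
import Cfsg.Agent.Lib.Helper54.Solv

/-!
# Piece (HB2b) `exists_EK` of helper89's TH1 lemma server (S3797).
-/

set_option autoImplicit false

namespace Cfsg.Agent.Helper47.TH1

open Cfsg Subgroup Cfsg.Agent.Helper89.TH1
open scoped commutatorElement

universe u

variable {G : Type u} [Group G] [Finite G]

/-- In a `p`-group `T` with a proper subgroup `Q₀` normalised by `T`, there is `e ∈ T \ Q₀` with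
`e ^ p ∈ Q₀` and `⁅e, s⁆ ∈ Q₀` for all `s ∈ T` (an element of order `p` of `Z(T/Q₀)`). -/
theorem h47_exists_central_mod {p : ℕ} [Fact p.Prime] (T Q₀ : Subgroup G) (hT : IsPGroup p T)
    (hlt : Q₀ < T) (hnorm : ∀ s ∈ T, ∀ q ∈ Q₀, s * q * s⁻¹ ∈ Q₀) :
    ∃ e ∈ T, e ∉ Q₀ ∧ e ^ p ∈ Q₀ ∧ ∀ s ∈ T, ⁅e, s⁆ ∈ Q₀ := by
  have hQ'n : (Q₀.subgroupOf T).Normal := ⟨fun q hq s => by
    rw [Subgroup.mem_subgroupOf] at hq ⊢
    exact hnorm s s.2 q hq⟩
  have hquot : IsPGroup p (↥T ⧸ Q₀.subgroupOf T) := hT.to_quotient _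
  obtain ⟨t, htT, htQ⟩ := SetLike.exists_of_lt hlt
  have hnt : Nontrivial (↥T ⧸ Q₀.subgroupOf T) := by
    refine ⟨⟨((⟨t, htT⟩ : ↥T) : ↥T ⧸ Q₀.subgroupOf T), 1, ?_⟩⟩
    rw [Ne, QuotientGroup.eq_one_iff, Subgroup.mem_subgroupOf]
    exact htQ
  have hcn : Nontrivial ↥(Subgroup.center (↥T ⧸ Q₀.subgroupOf T)) := hquot.center_nontrivial
  have hcp : IsPGroup p ↥(Subgroup.center (↥T ⧸ Q₀.subgroupOf T)) := hquot.to_subgroup _
  obtain ⟨n, hn0, hn⟩ := (hcp.nontrivial_iff_card).mp hcn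
  have hdvd : p ∣ Nat.card ↥(Subgroup.center (↥T ⧸ Q₀.subgroupOf T)) := by
    rw [hn]; exact dvd_pow_self p hn0.ne'
  obtain ⟨z, hz⟩ := exists_prime_orderOf_dvd_card' p hdvd
  obtain ⟨e', he'⟩ := QuotientGroup.mk_surjective (z : ↥T ⧸ Q₀.subgroupOf T)
  have hzo : orderOf (z : ↥T ⧸ Q₀.subgroupOf T) = p := by rw [Subgroup.orderOf_coe]; exact hz
  refine ⟨(e' : G), e'.2, ?_, ?_, ?_⟩
  · intro h
    have h1 : ((e' : ↥T) : ↥T ⧸ Q₀.subgroupOf T) = 1 := by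
      rw [QuotientGroup.eq_one_iff, Subgroup.mem_subgroupOf]; exact h
    rw [he'] at h1
    rw [h1, orderOf_one] at hzo
    exact (Fact.out : p.Prime).one_lt.ne hzo
  · have h1 : ((e' ^ p : ↥T) : ↥T ⧸ Q₀.subgroupOf T) = 1 := by
      rw [QuotientGroup.mk_pow, he', ← hzo, pow_orderOf_eq_one]
    rw [QuotientGroup.eq_one_iff, Subgroup.mem_subgroupOf] at h1
    simpa using h1
  · intro s hs
    have hzc := z.2
    rw [Subgroup.mem_center_iff] at hzc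
    have h1 : ((⁅e', ⟨s, hs⟩⁆ : ↥T) : ↥T ⧸ Q₀.subgroupOf T) = 1 := by
      have : ((⁅e', ⟨s, hs⟩⁆ : ↥T) : ↥T ⧸ Q₀.subgroupOf T) =
          ⁅((e' : ↥T) : ↥T ⧸ Q₀.subgroupOf T), (((⟨s, hs⟩ : ↥T)) : ↥T ⧸ Q₀.subgroupOf T)⁆ :=
        map_commutatorElement (QuotientGroup.mk' (Q₀.subgroupOf T)) e' ⟨s, hs⟩
      rw [this, he', commutatorElement_eq_one_iff_mul_comm]
      exact (hzc _).symm
    rw [QuotientGroup.eq_one_iff, Subgroup.mem_subgroupOf] at h1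
    simp only [commutatorElement_def, Subgroup.coe_mul, Subgroup.coe_inv] at h1 ⊢
    exact h1

omit [Finite G] in
/-- `⁅t⁻¹, s⁆` as a conjugate of `⁅t, s⁆⁻¹` -/
theorem h47_comm_inv_left (t s : G) : ⁅t⁻¹, s⁆ = t⁻¹ * ⁅t, s⁆⁻¹ * t⁻¹⁻¹ := by
  simp only [commutatorElement_def]; group

/-- the preimage in `T` of `Ω₁(Z(T/Q₀))` -/
def h47_E (T Q₀ : Subgroup G) (hnorm : ∀ s ∈ T, ∀ q ∈ Q₀, s * q * s⁻¹ ∈ Q₀) : Subgroup G where
  carrier := {t | t ∈ T ∧ t ^ 2 ∈ Q₀ ∧ ∀ s ∈ T, ⁅t, s⁆ ∈ Q₀}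
  one_mem' := ⟨T.one_mem, by simp, fun s _ => by simp⟩
  inv_mem' := by
    rintro t ⟨ht, hsq, hc⟩
    refine ⟨T.inv_mem ht, by rw [inv_pow]; exact Q₀.inv_mem hsq, fun s hs => ?_⟩
    rw [h47_comm_inv_left]
    exact hnorm _ (T.inv_mem ht) _ (Q₀.inv_mem (hc s hs))
  mul_mem' := by
    rintro t t' ⟨ht, hsq, hc⟩ ⟨ht', hsq', hc'⟩
    refine ⟨T.mul_mem ht ht', ?_, fun s hs => ?_⟩
    · have h1 : (t * t') ^ 2 = t ^ 2 * ⁅t⁻¹, t'⁆ * t' ^ 2 := by
        simp only [commutatorElement_def, pow_two]; group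
      rw [h1, h47_comm_inv_left]
      exact Q₀.mul_mem (Q₀.mul_mem hsq (hnorm _ (T.inv_mem ht) _ (Q₀.inv_mem (hc t' ht')))) hsq'
    · have h1 : ⁅t * t', s⁆ = t * ⁅t', s⁆ * t⁻¹ * ⁅t, s⁆ := by
        simp only [commutatorElement_def]; group
      rw [h1]
      exact Q₀.mul_mem (hnorm t ht _ (hc' s hs)) (hc s hs)

omit [Finite G] in
theorem h47_mem_E {T Q₀ : Subgroup G} {hnorm : ∀ s ∈ T, ∀ q ∈ Q₀, s * q * s⁻¹ ∈ Q₀} {t : G} :
    t ∈ h47_E T Q₀ hnorm ↔ t ∈ T ∧ t ^ 2 ∈ Q₀ ∧ ∀ s ∈ T, ⁅t, s⁆ ∈ Q₀ := Iff.rfl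

omit [Finite G] in
/-- `A` normalises `⁅A, B⁆` -/
theorem h47_conj_mem_commutator (A B : Subgroup G) {a x : G} (ha : a ∈ A) (hx : x ∈ ⁅A, B⁆) :
    a * x * a⁻¹ ∈ ⁅A, B⁆ := by
  rw [Subgroup.commutator_def] at hx
  induction hx using Subgroup.closure_induction with
  | mem y hy =>
    obtain ⟨a', ha', b, hb, rfl⟩ := hy
    have h1 : a * ⁅a', b⁆ * a⁻¹ = ⁅a * a', b⁆ * ⁅a, b⁆⁻¹ := by
      simp only [commutatorElement_def]; group
    rw [h1]
    exact Subgroup.mul_mem _ (Subgroup.commutator_mem_commutator (A.mul_mem ha ha') hb)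
      (Subgroup.inv_mem _ (Subgroup.commutator_mem_commutator ha hb))
  | one => simp
  | mul y z _ _ hy hz =>
    have : a * (y * z) * a⁻¹ = (a * y * a⁻¹) * (a * z * a⁻¹) := by group
    rw [this]; exact Subgroup.mul_mem _ hy hz
  | inv y _ hy =>
    have : a * y⁻¹ * a⁻¹ = (a * y * a⁻¹)⁻¹ := by group
    rw [this]; exact Subgroup.inv_mem _ hy

omit [Finite G] in
/-- an element normalising `A` and `B` normalises `⁅A, B⁆` -/
theorem h47_conj_mem_commutator' (A B : Subgroup G) {g x : G} (hA : ∀ a ∈ A, g * a * g⁻¹ ∈ A)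
    (hB : ∀ b ∈ B, g * b * g⁻¹ ∈ B) (hx : x ∈ ⁅A, B⁆) : g * x * g⁻¹ ∈ ⁅A, B⁆ := by
  rw [Subgroup.commutator_def] at hx
  induction hx using Subgroup.closure_induction with
  | mem y hy =>
    obtain ⟨a', ha', b, hb, rfl⟩ := hy
    have h1 : g * ⁅a', b⁆ * g⁻¹ = ⁅g * a' * g⁻¹, g * b * g⁻¹⁆ := by
      simp only [commutatorElement_def]; group
    rw [h1]
    exact Subgroup.commutator_mem_commutator (hA a' ha') (hB b hb)
  | one => simp
  | mul y z _ _ hy hz =>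
    have : g * (y * z) * g⁻¹ = (g * y * g⁻¹) * (g * z * g⁻¹) := by group
    rw [this]; exact Subgroup.mul_mem _ hy hz
  | inv y _ hy =>
    have : g * y⁻¹ * g⁻¹ = (g * y * g⁻¹)⁻¹ := by group
    rw [this]; exact Subgroup.inv_mem _ hy


/-- piece (HB2b) -/
theorem exists_EK {W K T N : Subgroup G} (hB : Base G W) (hK : KData G K)
    (hTN : TNData G W K T N) : ∃ E K₁ Q₀ : Subgroup G, HData G W K N E K₁ Q₀ := by
  haveI : Fact (Nat.Prime 2) := ⟨Nat.prime_two⟩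
  have hQn : (pCore 2 G).Normal := Subgroup.sSup_normal _ (fun _ h => h.1)
  have hQ2 : IsPGroup 2 (pCore 2 G) := Cfsg.Agent.Helper54.isPGroup_pCore
  have hTH : T ≤ normalizer (K : Set G) := hTN.T_le.trans hTN.N_le
  -- `H = N(K)` normalises `Q₀`
  have hHQ₀ : ∀ g ∈ normalizer (K : Set G), ∀ q ∈ pCore 2 G ⊓ normalizer (K : Set G),
      g * q * g⁻¹ ∈ pCore 2 G ⊓ normalizer (K : Set G) := fun g hg q hq =>
    ⟨hQn.conj_mem q hq.1 g, Subgroup.mul_mem _ (Subgroup.mul_mem _ hg hq.2) (Subgroup.inv_mem _ hg)⟩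
  have hnorm : ∀ s ∈ T, ∀ q ∈ pCore 2 G ⊓ normalizer (K : Set G),
      s * q * s⁻¹ ∈ pCore 2 G ⊓ normalizer (K : Set G) := fun s hs => hHQ₀ s (hTH hs)
  have hQ₀T : pCore 2 G ⊓ normalizer (K : Set G) ≤ T := hTN.Q₀_lt.le
  have hET : h47_E T (pCore 2 G ⊓ normalizer (K : Set G)) hnorm ≤ T := fun e he => he.1
  have hEN : h47_E T (pCore 2 G ⊓ normalizer (K : Set G)) hnorm ≤ N := hET.trans hTN.T_le
  have hEH : h47_E T (pCore 2 G ⊓ normalizer (K : Set G)) hnorm ≤ normalizer (K : Set G) :=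
    hEN.trans hTN.N_le
  have hE2 : IsPGroup 2 (h47_E T (pCore 2 G ⊓ normalizer (K : Set G)) hnorm) :=
    hTN.T_two.to_le hET
  -- `N` normalises `E`
  have hNE : ∀ g ∈ N, ∀ e ∈ h47_E T (pCore 2 G ⊓ normalizer (K : Set G)) hnorm,
      g * e * g⁻¹ ∈ h47_E T (pCore 2 G ⊓ normalizer (K : Set G)) hnorm := by
    intro g hg e he
    refine ⟨hTN.N_T g hg e he.1, ?_, ?_⟩
    · rw [conj_pow]; exact hHQ₀ g (hTN.N_le hg) _ he.2.1
    · intro s hs
      have hs' : g⁻¹ * s * g ∈ T := by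
        have := hTN.N_T g⁻¹ (N.inv_mem hg) s hs
        rwa [inv_inv] at this
      have : ⁅g * e * g⁻¹, s⁆ = g * ⁅e, g⁻¹ * s * g⁆ * g⁻¹ := by
        simp only [commutatorElement_def]; group
      rw [this]
      exact hHQ₀ g (hTN.N_le hg) _ (he.2.2 _ hs')
  -- `Q ⊓ K = 1`
  have hQK : ∀ x ∈ pCore 2 G, x ∈ K → x = 1 := by
    intro x hxQ hxK
    obtain ⟨n, hn⟩ := hQ2 ⟨x, hxQ⟩
    have hn' : x ^ (2 ^ n) = 1 := by simpa using congrArg Subtype.val hn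
    have h1 : orderOf x ∣ 2 ^ n := orderOf_dvd_of_pow_eq_one hn'
    have h2 : orderOf x ∣ Nat.card K := Subgroup.orderOf_dvd_natCard K hxK
    have hcop : Nat.Coprime (2 ^ n) (Nat.card K) :=
      Nat.Coprime.pow_left n (Nat.coprime_two_left.mpr hK.K_odd)
    have h3 : orderOf x = 1 := Nat.Coprime.eq_one_of_dvd (Nat.Coprime.coprime_dvd_left h1 hcop) h2
    exact orderOf_eq_one_iff.mp h3
  -- `Q₀` centralises `K`
  have hQ₀K : ∀ q ∈ pCore 2 G ⊓ normalizer (K : Set G), ∀ k ∈ K, q * k = k * q := by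
    intro q hq k hk
    rw [← commutatorElement_eq_one_iff_mul_comm]
    apply hQK
    · have : ⁅q, k⁆ = q * (k * q⁻¹ * k⁻¹) := by simp only [commutatorElement_def]; group
      rw [this]
      exact Subgroup.mul_mem _ hq.1 (hQn.conj_mem q⁻¹ (Subgroup.inv_mem _ hq.1) k)
    · have : ⁅q, k⁆ = (q * k * q⁻¹) * k⁻¹ := by simp only [commutatorElement_def]
      rw [this]
      exact K.mul_mem ((Subgroup.mem_normalizer_iff.mp hq.2 k).mp hk) (K.inv_mem hk)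
  -- `Q₀ ≤ E`
  have hQ₀E : pCore 2 G ⊓ normalizer (K : Set G) ≤
      h47_E T (pCore 2 G ⊓ normalizer (K : Set G)) hnorm := by
    intro q hq
    refine ⟨hQ₀T hq, Subgroup.pow_mem _ hq 2, fun s hs => ?_⟩
    have : ⁅q, s⁆ = q * (s * q⁻¹ * s⁻¹) := by simp only [commutatorElement_def]; group
    rw [this]
    exact Subgroup.mul_mem _ hq (hnorm s hs _ (Subgroup.inv_mem _ hq))
  -- `K₁ = ⁅K, E⁆`
  have hK₁K : ⁅K, h47_E T (pCore 2 G ⊓ normalizer (K : Set G)) hnorm⁆ ≤ K :=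
    Cfsg.Agent.Helper24.commutator_le_of_le_normalizer K _ hEH
  have hK₁ne : ⁅K, h47_E T (pCore 2 G ⊓ normalizer (K : Set G)) hnorm⁆ ≠ ⊥ := by
    intro hbot
    obtain ⟨e, heT, heQ₀, he2, hec⟩ :=
      h47_exists_central_mod T (pCore 2 G ⊓ normalizer (K : Set G)) hTN.T_two hTN.Q₀_lt hnorm
    have heE : e ∈ h47_E T (pCore 2 G ⊓ normalizer (K : Set G)) hnorm := ⟨heT, he2, hec⟩
    have hcent : ∀ k ∈ K, e * k = k * e := by
      intro k hk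
      have h1 : ⁅k, e⁆ ∈ ⁅K, h47_E T (pCore 2 G ⊓ normalizer (K : Set G)) hnorm⁆ :=
        Subgroup.commutator_mem_commutator hk heE
      rw [hbot, Subgroup.mem_bot, commutatorElement_eq_one_iff_mul_comm] at h1
      exact h1.symm
    exact heQ₀ ⟨hTN.cent_T e heT hcent, hTH heT⟩
  have hcop : (Nat.card (h47_E T (pCore 2 G ⊓ normalizer (K : Set G)) hnorm)).Coprime
      (Nat.card K) := by
    obtain ⟨n, hn⟩ := IsPGroup.iff_card.mp hE2
    rw [hn]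
    exact Nat.Coprime.pow_left n (Nat.coprime_two_left.mpr hK.K_odd)
  have hEnil : Group.IsNilpotent ↥(h47_E T (pCore 2 G ⊓ normalizer (K : Set G)) hnorm) :=
    hE2.isNilpotent
  have hEsolv : Group.IsSolvable ↥(h47_E T (pCore 2 G ⊓ normalizer (K : Set G)) hnorm) :=
    inferInstance
  have hKcomm := Cfsg.Agent.Helper52.commutator_commutator_eq K
    (h47_E T (pCore 2 G ⊓ normalizer (K : Set G)) hnorm) hEH hcop (Or.inl hEsolv)
  refine ⟨h47_E T (pCore 2 G ⊓ normalizer (K : Set G)) hnorm,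
    ⁅K, h47_E T (pCore 2 G ⊓ normalizer (K : Set G)) hnorm⁆,
    pCore 2 G ⊓ normalizer (K : Set G), ?_⟩
  exact
    { N_le := hTN.N_le
      N_trans := hTN.N_trans
      E_two := hE2
      E_le_N := hEN
      N_E := hNE
      E_W := fun e he w hw => hTN.T_W e (hET he) w hw
      K₁_le := hK₁K
      K₁_ne := hK₁ne
      K_K₁ := fun k hk x hx => h47_conj_mem_commutator K _ hk hx
      N_K₁ := fun g hg k hk => h47_conj_mem_commutator' K _
        (fun a ha => (Subgroup.mem_normalizer_iff.mp (hTN.N_le hg) a).mp ha) (hNE g hg) hk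
      K_comm := le_of_eq hKcomm.symm
      Q₀_le := hQ₀E
      Q₀_K := hQ₀K
      E_sq := fun e he => he.2.1
      E_comm := fun a ha b hb => ha.2.2 b (hET hb) }

end Cfsg.Agent.Helper47.TH1
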