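import Mathlib
import Cfsg.Agent.Lib.Helper47.UMin
import Cfsg.Agent.Lib.Helper53.SL2Card

set_option autoImplicit false

/-! # The uniqueness property `UM` for `SL₂(F)` (helper47) -/

namespace Cfsg.Agent.Helper47.UMin

open Subgroup Matrix
open scoped Pointwise

variable {F : Type*} [Field F]

/-- upper unitriangular elements -/
def uM (a : F) : Matrix.SpecialLinearGroup (Fin 2) F :=
  ⟨!![1, a; 0, 1], by simp [Matrix.det_fin_two]⟩

/-- diagonal elements -/
def dM (k : Fˣ) : Matrix.SpecialLinearGroup (Fin 2) F :=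
  ⟨!![(k : F), 0; 0, (k : F)⁻¹], by simp [Matrix.det_fin_two]⟩

/-- the Weyl element -/
def wM : Matrix.SpecialLinearGroup (Fin 2) F :=
  ⟨!![0, 1; -1, 0], by simp [Matrix.det_fin_two]⟩

@[simp] theorem uM_val (a : F) : (uM a).1 = !![1, a; 0, 1] := rfl
@[simp] theorem dM_val (k : Fˣ) : (dM k).1 = !![(k : F), 0; 0, (k : F)⁻¹] := rfl
@[simp] theorem wM_val : (wM : Matrix.SpecialLinearGroup (Fin 2) F).1 = !![0, 1; -1, 0] := rfl

theorem uM_mul (a b : F) : uM a * uM b = uM (a + b) := by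
  apply Subtype.ext
  rw [Matrix.SpecialLinearGroup.coe_mul, uM_val, uM_val, uM_val]
  ext i j
  fin_cases i <;> fin_cases j <;>
    simp [Matrix.mul_apply, Fin.sum_univ_two, add_comm]

theorem uM_zero : uM (0 : F) = 1 := by
  apply Subtype.ext
  rw [uM_val, Matrix.SpecialLinearGroup.coe_one]
  ext i j
  fin_cases i <;> fin_cases j <;> simp

theorem uM_inv (a : F) : (uM a)⁻¹ = uM (-a) := by
  apply inv_eq_of_mul_eq_one_right
  rw [uM_mul, add_neg_cancel, uM_zero]

theorem uM_inj {a b : F} (h : uM a = uM b) : a = b := by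
  have := congrArg (fun g : Matrix.SpecialLinearGroup (Fin 2) F => g.1 0 1) h
  simpa using this

theorem dM_conj_uM (k : Fˣ) (a : F) : dM k * uM a * (dM k)⁻¹ = uM ((k : F) ^ 2 * a) := by
  rw [mul_inv_eq_iff_eq_mul]
  apply Subtype.ext
  rw [Matrix.SpecialLinearGroup.coe_mul, Matrix.SpecialLinearGroup.coe_mul, uM_val, uM_val, dM_val]
  ext i j
  fin_cases i <;> fin_cases j <;>
    simp [Matrix.mul_apply, Fin.sum_univ_two]
  field_simp

/-- the unipotent subgroup -/
def uSub (F : Type*) [Field F] : Subgroup (Matrix.SpecialLinearGroup (Fin 2) F) where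
  carrier := {g | ∃ a : F, g = uM a}
  one_mem' := ⟨0, uM_zero.symm⟩
  mul_mem' := by
    rintro _ _ ⟨a, rfl⟩ ⟨b, rfl⟩
    exact ⟨a + b, uM_mul a b⟩
  inv_mem' := by
    rintro _ ⟨a, rfl⟩
    exact ⟨-a, uM_inv a⟩

theorem mem_uSub {g : Matrix.SpecialLinearGroup (Fin 2) F} : g ∈ uSub F ↔ ∃ a : F, g = uM a :=
  Iff.rfl

/-- the Borel subgroup -/
def bSub (F : Type*) [Field F] : Subgroup (Matrix.SpecialLinearGroup (Fin 2) F) where
  carrier := {g | g.1 1 0 = 0}
  one_mem' := by simp
  mul_mem' := by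
    intro a b ha hb
    change a.1 1 0 = 0 at ha
    change b.1 1 0 = 0 at hb
    change (a * b).1 1 0 = 0
    rw [Matrix.SpecialLinearGroup.coe_mul]
    simp [Matrix.mul_apply, Fin.sum_univ_two, ha, hb]
  inv_mem' := by
    intro a ha
    change a.1 1 0 = 0 at ha
    change (a⁻¹).1 1 0 = 0
    rw [Matrix.SpecialLinearGroup.coe_inv]
    simp [Matrix.adjugate_fin_two, ha]

theorem uSub_le_bSub : uSub F ≤ bSub F := by
  rintro _ ⟨a, rfl⟩
  change (uM a).1 1 0 = 0
  simp

theorem dM_mem_bSub (k : Fˣ) : dM k ∈ bSub F := by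
  change (dM k).1 1 0 = 0
  simp

theorem bSub_ne_top : bSub F ≠ ⊤ := by
  intro hcon
  have : (wM : Matrix.SpecialLinearGroup (Fin 2) F) ∈ bSub F := by rw [hcon]; exact mem_top _
  change (wM : Matrix.SpecialLinearGroup (Fin 2) F).1 1 0 = 0 at this
  simp at this

theorem card_uSub [Fintype F] : Nat.card (uSub F) = Fintype.card F := by
  rw [← Nat.card_eq_fintype_card]
  symm
  apply Nat.card_congr
  exact Equiv.ofBijective (fun a : F => (⟨uM a, ⟨a, rfl⟩⟩ : uSub F))
    ⟨fun a b h => uM_inj (congrArg Subtype.val h), fun ⟨_, a, rfl⟩ => ⟨a, rfl⟩⟩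

/-- every element of a finite field is a difference of two squares -/
theorem exists_sq_sub_sq [Finite F] (s : F) : ∃ t₁ t₂ : F, s = t₁ ^ 2 - t₂ ^ 2 := by
  by_cases h2 : (2 : F) = 0
  · have : CharP F 2 := CharTwo.of_one_ne_zero_of_two_eq_zero one_ne_zero h2
    have hr : ringChar F = 2 := ringChar.eq F 2
    obtain ⟨t, ht⟩ := FiniteField.isSquare_of_char_two hr s
    exact ⟨t, 0, by rw [ht]; ring⟩
  · refine ⟨(s + 1) / 2, (s - 1) / 2, ?_⟩
    field_simp
    ring

/-- The key step: a nontrivial subgroup of `U` normalized by the torus is `U`. -/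
theorem uSub_le_of_torus [Finite F] (V : Subgroup (Matrix.SpecialLinearGroup (Fin 2) F))
    (hV : ∀ k : Fˣ, ∀ v ∈ V, dM k * v * (dM k)⁻¹ ∈ V) {a : F} (ha : a ≠ 0) (hav : uM a ∈ V) :
    uSub F ≤ V := by
  have hsq : ∀ t : F, uM (t ^ 2 * a) ∈ V := by
    intro t
    by_cases ht : t = 0
    · rw [ht]
      simp only [ne_eq, OfNat.ofNat_ne_zero, not_false_eq_true, zero_pow, zero_mul]
      rw [uM_zero]; exact V.one_mem
    · have := hV (Units.mk0 t ht) _ hav
      rwa [dM_conj_uM] at this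
  rintro _ ⟨c, rfl⟩
  obtain ⟨t₁, t₂, hs⟩ := exists_sq_sub_sq (c / a)
  have hc : c = t₁ ^ 2 * a + -(t₂ ^ 2 * a) := by
    have : c = (c / a) * a := by field_simp
    rw [this, hs]; ring
  rw [hc, ← uM_mul, ← uM_inv]
  exact V.mul_mem (hsq t₁) (V.inv_mem (hsq t₂))


/-- `UMat` at the standard unipotent subgroup, when it is a Sylow `p`-subgroup. -/
theorem umat_uSub [Fintype F] (p : ℕ) [hp : Fact p.Prime]
    (hsyl : Nat.card (uSub F) = p ^ (Nat.card (Matrix.SpecialLinearGroup (Fin 2) F)).factorization p) :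
    UMat p (uSub F) := by
  intro N V _ hNU _ hmax hVN hNV hVe hV1
  have hBN : bSub F ≤ N := hmax _ uSub_le_bSub bSub_ne_top
  -- V ≤ U
  have hpV : IsPGroup p V := isPGroup_of_exp hVe
  have hpU : IsPGroup p (uSub F) := IsPGroup.of_card hsyl
  have hVU : V ≤ uSub F := by
    have hsup : IsPGroup p (V ⊔ uSub F : Subgroup _) :=
      IsPGroup.to_sup_of_normal_right' hpV hpU (hVN.trans hNU)
    have hmaxS := (Sylow.ofCard (uSub F) hsyl).3 hsup (by
      rw [Sylow.coe_ofCard]; exact le_sup_right)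
    rw [Sylow.coe_ofCard] at hmaxS
    rw [← hmaxS]
    exact le_sup_left
  -- a nontrivial element
  obtain ⟨v, hv, hv1⟩ := (Subgroup.ne_bot_iff_exists_ne_one.mp hV1 |> fun ⟨x, hx⟩ =>
    (⟨x.1, x.2, fun h => hx (Subtype.ext h)⟩ : ∃ v ∈ V, v ≠ 1))
  obtain ⟨a, rfl⟩ := hVU hv
  have ha : a ≠ 0 := by
    intro h0
    apply hv1
    rw [h0, uM_zero]
  have hUV : uSub F ≤ V := by
    apply uSub_le_of_torus V _ ha hv
    intro k x hx
    have hk : dM k ∈ normalizer (V : Set _) := hNV (hBN (dM_mem_bSub k))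
    exact (mem_normalizer_iff.mp hk x).mp hx
  exact le_antisymm hVU hUV

/-- The uniqueness property for `SL₂(F)`. -/
theorem um_SL2 [Fintype F] (p : ℕ) [hp : Fact p.Prime] :
    UM p (Fintype.card F) (Matrix.SpecialLinearGroup (Fin 2) F) := by
  rw [um_iff]
  intro Y hYe hY1 hYc
  have hpY : IsPGroup p Y := isPGroup_of_exp hYe
  obtain ⟨k, hk⟩ := IsPGroup.iff_card.mp hpY
  have hq : Fintype.card F = p ^ k := by rw [← hYc, hk]
  have hk0 : k ≠ 0 := by
    intro h0
    rw [h0, pow_zero] at hk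
    exact hY1 (Y.card_eq_one.mp hk)
  have hq2 : 2 ≤ Fintype.card F := by
    rw [hq]
    calc 2 ≤ p := hp.out.two_le
      _ = p ^ 1 := (pow_one p).symm
      _ ≤ p ^ k := Nat.pow_le_pow_right hp.out.pos (by omega)
  have hcard := Helper53.card_SL2_succ (F := F) (Fintype.card F - 1) (by omega)
  have hpq : p ∣ Fintype.card F := by
    rw [hq]; exact dvd_pow_self p hk0
  have hfac : (Nat.card (Matrix.SpecialLinearGroup (Fin 2) F)).factorization p = k := by
    rw [hcard]
    have e1 : Fintype.card F - 1 + 1 = Fintype.card F := by omega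
    have e2 : Fintype.card F - 1 + 2 = Fintype.card F + 1 := by omega
    rw [e1, e2]
    have h1 : ¬ p ∣ Fintype.card F - 1 := by
      intro h
      have : p ∣ Fintype.card F - (Fintype.card F - 1) := Nat.dvd_sub hpq h
      have e : Fintype.card F - (Fintype.card F - 1) = 1 := by omega
      rw [e] at this
      exact hp.out.one_lt.ne' (Nat.dvd_one.mp this)
    have h2 : ¬ p ∣ Fintype.card F + 1 := by
      intro h
      have : p ∣ Fintype.card F + 1 - Fintype.card F := Nat.dvd_sub h hpq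
      have e : Fintype.card F + 1 - Fintype.card F = 1 := by omega
      rw [e] at this
      exact hp.out.one_lt.ne' (Nat.dvd_one.mp this)
    rw [Nat.factorization_mul (by
      apply Nat.mul_ne_zero <;> omega) (by omega),
      Nat.factorization_mul (by omega) (by omega)]
    simp only [Finsupp.coe_add, Pi.add_apply]
    rw [Nat.factorization_eq_zero_of_not_dvd h1, Nat.factorization_eq_zero_of_not_dvd h2, hq,
      hp.out.factorization_pow]
    simp
  have hY' : Nat.card Y = p ^ (Nat.card (Matrix.SpecialLinearGroup (Fin 2) F)).factorization p := by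
    rw [hfac, hk]
  have hU' : Nat.card (uSub F) =
      p ^ (Nat.card (Matrix.SpecialLinearGroup (Fin 2) F)).factorization p := by
    rw [hfac, card_uSub, hq]
  obtain ⟨g, hg⟩ := MulAction.exists_smul_eq (Matrix.SpecialLinearGroup (Fin 2) F)
    (Sylow.ofCard Y hY') (Sylow.ofCard (uSub F) hU')
  have hg' : MulAut.conj g • Y = uSub F := by
    have := congrArg (fun P : Sylow p (Matrix.SpecialLinearGroup (Fin 2) F) => P.toSubgroup) hg
    simpa [Sylow.coe_subgroup_smul, Sylow.coe_ofCard] using this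
  have hcomap : Y.comap (MulAut.conj g⁻¹).toMonoidHom = uSub F := by
    rw [← hg']
    ext x
    rw [mem_comap, Subgroup.mem_pointwise_smul_iff_inv_smul_mem]
    simp [MulAut.smul_def]
  apply UMat.of_comap (MulAut.conj g⁻¹)
  rw [hcomap]
  exact umat_uSub p hU'

end Cfsg.Agent.Helper47.UMin
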