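import Mathlib
import Cfsg.Agent.Lib.Helper98.UT0

/-!
# UT piece E2 (S2283, server helper98): if `AH = F` then the whole group `Q_e = {x(ω,β)}` lies in `Hs`.
Also the multiplication rule of the elements `x(a,β)` (`h47_yEl_mul`).
-/

set_option autoImplicit false
set_option quotPrecheck false
set_option linter.unusedSectionVars false
set_option linter.unusedVariables false

namespace Cfsg.Agent.Helper47.UT

open Matrix Cfsg Cfsg.Agent.Helper13 Cfsg.Agent.Helper87.PsuA Cfsg.Agent.Helper87.PsuB0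
  Cfsg.Agent.Helper98.UT

variable {F : Type*} [Field F] [Fintype F] {q : ℕ}

local notation "G" => ↥(Cfsg.SU 3 F q)
local notation "H" => Cfsg.hermForm 3 F q

variable (hF : Fintype.card F = q ^ 2) {b : Fin 3 → Fin 3 → F}

theorem h47_H00 (hb : HB q b) : H (b 0) (b 0) = 0 := by
  rw [hb 0 0, if_neg (by decide)]

theorem h47_H01 (hb : HB q b) (c : F) : H (b 0) (c • b 1) = 0 := by
  rw [hermForm_smul_right, hb 0 1, if_neg (by decide), mul_zero]

theorem h47_H11 (hb : HB q b) : H (b 1) (b 1) = 1 := by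
  rw [hb 1 1, if_pos (by decide)]

include hF in
theorem h47_Hww (hb : HB q b) (a a' : F) :
    H ((-(a' ^ q)) • b 1) ((-(a ^ q)) • b 1) = a' ^ q * a := by
  rw [hermForm_smul_left, hermForm_smul_right, h47_H11 hb, frob_neg hF, frob_frob hF]
  ring

include hF in
/-- validity is preserved by the multiplication rule -/
theorem h47_valid_mul (a β a' β' : F) (hab : β + β ^ q + a * a ^ q = 0)
    (hab' : β' + β' ^ q + a' * a' ^ q = 0) :
    (β + β' - a' ^ q * a) + (β + β' - a' ^ q * a) ^ q + (a + a') * (a + a') ^ q = 0 := by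
  rw [frob_sub hF, frob_add hF, frob_add hF, mul_pow, frob_frob hF]
  linear_combination hab + hab'

/-- the multiplication rule `x(a,β) x(a',β') = x(a + a', β + β' - ā' a)` -/
theorem h47_yEl_mul (hb : HB q b) (a β a' β' : F) (hab : β + β ^ q + a * a ^ q = 0)
    (hab' : β' + β' ^ q + a' * a' ^ q = 0) :
    yEl hF b a β * yEl hF b a' β' = yEl hF b (a + a') (β + β' - a' ^ q * a) := by
  unfold yEl
  have h1 : β + β ^ q + H ((-(a ^ q)) • b 1) ((-(a ^ q)) • b 1) = 0 := by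
    rw [h47_Hww hF hb]; linear_combination hab
  have h2 : β' + β' ^ q + H ((-(a' ^ q)) • b 1) ((-(a' ^ q)) • b 1) = 0 := by
    rw [h47_Hww hF hb]; linear_combination hab'
  rw [eich_mul hF (h47_H00 hb) (h47_H01 hb _) h1 (h47_H01 hb _) h2, h47_Hww hF hb, ← add_smul,
    frob_add hF, neg_add]

/-- (E2) if `AH = F` then the whole group `Q_e = {x(ω,β)}` lies in `Hs`: the commutators
`[x(ω,·), x(ω',·)] = x(0, ω ω̄' - ω' ω̄)` fill the centre (`exists_trace`). -/
theorem Q_le (hb : HB q b) (Hs : Subgroup G) (hall : ∀ ω : F, ω ∈ AH hF b Hs) :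
    ∀ ω β : F, β + β ^ q + ω * ω ^ q = 0 → yEl hF b ω β ∈ Hs := by
  have hz : (0 : F) ^ q = 0 := frob_zero hF
  -- the centre
  have hcentre : ∀ γ : F, γ + γ ^ q = 0 → yEl hF b 0 γ ∈ Hs := by
    intro γ hγ
    obtain ⟨κ, hκ0, hκ⟩ := exists_kappa hF
    have hs : (γ / κ) ^ q = γ / κ := by
      have h1 : γ ^ q = -γ := by linear_combination hγ
      have h2 : κ ^ q = -κ := by linear_combination hκ
      rw [div_pow, h1, h2, neg_div_neg_eq]
    obtain ⟨ω1, hω1⟩ := exists_trace hF (γ / κ) hs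
    obtain ⟨β1, hv1, hm1⟩ := hall ω1
    obtain ⟨β2, hv2, hm2⟩ := hall κ
    have hγ' : γ = κ * (ω1 + ω1 ^ q) := by rw [hω1]; field_simp
    have hv0 : γ + γ ^ q + (0 : F) * (0 : F) ^ q = 0 := by rw [zero_mul, add_zero]; exact hγ
    have hv21 := h47_valid_mul hF κ β2 ω1 β1 hv2 hv1
    have e12 := h47_yEl_mul hF hb ω1 β1 κ β2 hv1 hv2
    have e21 := h47_yEl_mul hF hb κ β2 ω1 β1 hv2 hv1
    have e3 := h47_yEl_mul hF hb (κ + ω1) (β2 + β1 - ω1 ^ q * κ) 0 γ hv21 hv0
    have hkey : yEl hF b ω1 β1 * yEl hF b κ β2 = yEl hF b κ β2 * yEl hF b ω1 β1 * yEl hF b 0 γ := by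
      rw [e21, e3, e12]
      have hκq : κ ^ q = -κ := by linear_combination hκ
      congr 1
      · ring
      · rw [hz, hκq, hγ']; ring
    have hmem : yEl hF b 0 γ = (yEl hF b κ β2 * yEl hF b ω1 β1)⁻¹ *
        (yEl hF b ω1 β1 * yEl hF b κ β2) := by
      rw [hkey]; group
    rw [hmem]
    exact Hs.mul_mem (Hs.inv_mem (Hs.mul_mem hm2 hm1)) (Hs.mul_mem hm1 hm2)
  intro ω β hv
  obtain ⟨β0, hv0, hm0⟩ := hall ω
  have hγ : (β - β0) + (β - β0) ^ q = 0 := by
    rw [frob_sub hF]; linear_combination hv - hv0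
  have hvγ : (β - β0) + (β - β0) ^ q + (0 : F) * (0 : F) ^ q = 0 := by
    rw [zero_mul, add_zero]; exact hγ
  have e := h47_yEl_mul hF hb ω β0 0 (β - β0) hv0 hvγ
  have e' : yEl hF b ω β = yEl hF b ω β0 * yEl hF b 0 (β - β0) := by
    rw [e]
    congr 1
    · ring
    · rw [hz]; ring
  rw [e']
  exact Hs.mul_mem hm0 (hcentre _ hγ)

end Cfsg.Agent.Helper47.UT
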