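import Mathlib
import Cfsg.Agent.Lib.Helper98.UT0
import Cfsg.Agent.Lib.Helper47.UTE2

/-!
# UT piece E1b (S2283, server helper98): an element of `Hs` fixing the point `e` multiplies `AH`
by `d0 * d̄1`.
-/

set_option autoImplicit false
set_option quotPrecheck false
set_option linter.unusedSectionVars false
set_option linter.unusedVariables false

namespace Cfsg.Agent.Helper47.UT

open Matrix Cfsg Cfsg.Agent.Helper13 Cfsg.Agent.Helper87.PsuA Cfsg.Agent.Helper87.PsuB0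
  Cfsg.Agent.Helper98.UT

variable {F : Type*} [Field F] [Fintype F] {q : ℕ}

local notation "G" => ↥(Cfsg.SU 3 F q)
local notation "H" => Cfsg.hermForm 3 F q

variable (hF : Fintype.card F = q ^ 2) {b : Fin 3 → Fin 3 → F}

/-- (E1b) an element of `Hs` fixing the point `e` multiplies `AH` by `d0 * d̄1`
(`eich_conj`, `eich_smul`, `eich_add_smul`). -/
theorem AH_chi (hb : HB q b) (Hs : Subgroup G) {W : G} (hW : W ∈ Hs) {d0 d1 κ : F}
    (h0 : actv W (b 0) = d0 • b 0) (h1 : actv W (b 1) = d1 • b 1 + κ • b 0) {ω : F}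
    (hω : ω ∈ AH hF b Hs) : d0 * d1 ^ q * ω ∈ AH hF b Hs := by
  obtain ⟨β, hv, hm⟩ := hω
  have h00 : H (b 0) (b 0) = 0 := h47_H00 hb
  have h01 : H (b 0) (b 1) = 0 := by rw [hb 0 1, if_neg (by decide)]
  have h10 : H (b 1) (b 0) = 0 := by rw [hb 1 0, if_neg (by decide)]
  have h11 : H (b 1) (b 1) = 1 := h47_H11 hb
  have hd1 : d1 * d1 ^ q = 1 := by
    have h := H_actv W (b 1) (b 1)
    rw [h1, h11] at h
    simp only [hermForm_add_left, hermForm_add_right hF, hermForm_smul_left, hermForm_smul_right,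
      h00, h01, h10, h11] at h
    linear_combination h
  have hvw : β + β ^ q + H ((-(ω ^ q)) • b 1) ((-(ω ^ q)) • b 1) = 0 := by
    rw [h47_Hww hF hb]; linear_combination hv
  have hconj := eich_conj hF h00 (h47_H01 hb (-(ω ^ q))) hvw W
  rw [h0, actv_smul, h1] at hconj
  have hu2 : H (b 0) ((-(ω ^ q)) • (d1 • b 1 + κ • b 0)) = 0 := by
    simp only [hermForm_add_right hF, hermForm_smul_right, h00, h01]
    ring
  have hw2w2 : H ((-(ω ^ q)) • (d1 • b 1 + κ • b 0)) ((-(ω ^ q)) • (d1 • b 1 + κ • b 0))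
      = ω * ω ^ q := by
    simp only [hermForm_add_left, hermForm_add_right hF, hermForm_smul_left, hermForm_smul_right,
      h00, h01, h10, h11, frob_neg hF, frob_frob hF]
    linear_combination (ω * ω ^ q) * hd1
  have hv2 : β + β ^ q +
      H ((-(ω ^ q)) • (d1 • b 1 + κ • b 0)) ((-(ω ^ q)) • (d1 • b 1 + κ • b 0)) = 0 := by
    rw [hw2w2]; exact hv
  rw [eich_smul hF h00 hu2 hv2] at hconj
  have hsplit : d0 ^ q • ((-(ω ^ q)) • (d1 • b 1 + κ • b 0))
      = (-((d0 * d1 ^ q * ω) ^ q)) • b 1 + (-(ω ^ q) * d0 ^ q * κ) • b 0 := by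
    rw [mul_pow, mul_pow, frob_frob hF]; module
  rw [hsplit] at hconj
  have hu3 : H (b 0) ((-((d0 * d1 ^ q * ω) ^ q)) • b 1) = 0 := h47_H01 hb _
  have hv3 : d0 * d0 ^ q * β + (d0 * d0 ^ q * β) ^ q +
      H ((-((d0 * d1 ^ q * ω) ^ q)) • b 1) ((-((d0 * d1 ^ q * ω) ^ q)) • b 1) = 0 := by
    rw [h47_Hww hF hb]
    simp only [mul_pow, frob_frob hF]
    linear_combination (d0 * d0 ^ q) * hv + (d0 * d0 ^ q * ω * ω ^ q) * hd1
  rw [eich_add_smul hF h00 hu3 hv3] at hconj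
  refine ⟨d0 * d0 ^ q * β + (-(ω ^ q) * d0 ^ q * κ) - (-(ω ^ q) * d0 ^ q * κ) ^ q, ?_, ?_⟩
  · simp only [frob_sub hF, frob_add hF, mul_pow, frob_neg hF, frob_frob hF]
    linear_combination (d0 * d0 ^ q) * hv + (d0 * d0 ^ q * ω * ω ^ q) * hd1
  · unfold yEl at hm ⊢
    rw [← hconj]
    exact Hs.mul_mem (Hs.mul_mem hW hm) (Hs.inv_mem hW)

end Cfsg.Agent.Helper47.UT
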