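import Mathlib
import Cfsg.Agent.Lib.Helper98.UT0
import Cfsg.Agent.Lib.Helper42.UTD1

/-!
# UT piece S1 (S2283, server helper98): `(z t)^(q+1) = t`, so `t` and `z` lie in any subgroup
containing `z t`.
-/

set_option autoImplicit false
set_option quotPrecheck false
set_option linter.unusedSectionVars false
set_option linter.unusedVariables false

namespace Cfsg.Agent.Helper47.UT

open Matrix Cfsg Cfsg.Agent.Helper13 Cfsg.Agent.Helper87.PsuA Cfsg.Agent.Helper87.PsuB0
  Cfsg.Agent.Helper98.UT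

variable {F : Type*} [Field F] [Fintype F] {q : ℕ}

local notation "G" => ↥(Cfsg.SU 3 F q)
local notation "H" => Cfsg.hermForm 3 F q

variable (hF : Fintype.card F = q ^ 2) {b : Fin 3 → Fin 3 → F}

include hF in
theorem h47s_natCast_frob (k : ℕ) : ((k : F)) ^ q = (k : F) := by
  have h := map_natCast (frobQ hF) k
  rwa [frobQ_apply] at h

include hF in
theorem h47s_q_cast : (q : F) = 0 := by
  have h1 : ((q ^ 2 : ℕ) : F) = 0 := by
    rw [← hF]; exact FiniteField.cast_card_eq_zero F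
  rw [Nat.cast_pow] at h1
  exact pow_eq_zero_iff (two_ne_zero) |>.mp h1

/-- powers of a transvection `E(u, 0, a)` -/
theorem h47s_eich_zero_pow {u : Fin 3 → F} {a : F} (huu : H u u = 0) (ha : a + a ^ q = 0) (k : ℕ) :
    (eich hF u 0 a) ^ k = eich hF u 0 ((k : F) * a) := by
  have h0 : H u (0 : Fin 3 → F) = 0 := H_zero_right hF u
  have hc : ∀ c : F, c + c ^ q = 0 → c + c ^ q + H (0 : Fin 3 → F) 0 = 0 := by
    intro c hc; rw [H_zero_left hF, hc, add_zero]
  have hk : ∀ k : ℕ, (k : F) * a + ((k : F) * a) ^ q = 0 := by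
    intro k; rw [mul_pow, h47s_natCast_frob hF]; linear_combination (k : F) * ha
  induction k with
  | zero => rw [pow_zero, Nat.cast_zero, zero_mul, eich_one hF huu]
  | succ k ih =>
    rw [pow_succ, ih, eich_mul hF huu h0 (hc _ (hk k)) h0 (hc _ ha), add_zero, H_zero_left hF,
      sub_zero]
    congr 1
    rw [Nat.cast_succ]; ring

/-- an element fixing the three basis vectors is trivial -/
theorem h47s_eq_one_of_fix (hb : HB q b) (g : G) (h : ∀ i, actv g (b i) = b i) : g = 1 := by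
  apply G_ext
  intro x
  rw [actv_one]
  conv_lhs => rw [expand hb x]
  rw [actv_sum]
  conv_rhs => rw [expand hb x]
  apply Finset.sum_congr rfl
  intro i _
  rw [actv_smul, h i]

theorem h47s_actv_pow (g : G) (v : Fin 3 → F) (d : F) (h : actv g v = d • v) (k : ℕ) :
    actv (g ^ k) v = d ^ k • v := by
  induction k with
  | zero => rw [pow_zero, actv_one, pow_zero, one_smul]
  | succ k ih => rw [pow_succ, actv_mul, h, actv_smul, ih, smul_smul, pow_succ, mul_comm]

/-- (S1) `z` and `t` commute, `z^(q+1) = 1`, `t^q = 1` (`(q : F) = 0`), so `(z t)^(q+1) = t`. -/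
theorem t_z_mem {lam c : F} (hb : HB q b) (hlam : lam * lam ^ q = 1) (hc : c + c ^ q = 0)
    (Hs : Subgroup G) (hs : dEl hF b lam (lam⁻¹ ^ 2) lam * lEl hF b 0 c ∈ Hs) :
    lEl hF b 0 c ∈ Hs ∧ dEl hF b lam (lam⁻¹ ^ 2) lam ∈ Hs := by
  have hlam0 : lam ≠ 0 := by
    intro h; rw [h, zero_mul] at hlam; exact zero_ne_one hlam
  have hz0 : (0 : F) ^ q = 0 := frob_zero hF
  have hlq : lam ^ (q + 1) = 1 := by rw [pow_succ, mul_comm]; exact hlam
  -- the diagonal element
  have h11 : lam⁻¹ ^ 2 * (lam⁻¹ ^ 2) ^ q = 1 := by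
    have h1 : lam⁻¹ ^ 2 * (lam⁻¹ ^ 2) ^ q = ((lam * lam ^ q)⁻¹) ^ 2 := by
      rw [mul_inv, ← inv_pow lam q]; ring
    rw [h1, hlam, inv_one, one_pow]
  have hdet : lam * lam⁻¹ ^ 2 * lam = 1 := by field_simp
  obtain ⟨hz0', hz1', hz2'⟩ :=
    Cfsg.Agent.Helper42.UT.dEl_act hF hb lam (lam⁻¹ ^ 2) lam hlam h11 hdet
  set z := dEl hF b lam (lam⁻¹ ^ 2) lam with hzdef
  -- the transvection
  have h22 : H (b 2) (b 2) = 0 := by rw [hb 2 2, if_neg (by decide)]
  have ht : lEl hF b 0 c = eich hF (b 2) 0 c := by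
    unfold lEl
    rw [hz0, neg_zero, zero_smul]
  have hc' : c + c ^ q + H (0 : Fin 3 → F) 0 = 0 := by rw [H_zero_left hF, hc, add_zero]
  have h20 : H (b 2) (0 : Fin 3 → F) = 0 := H_zero_right hF _
  -- `z` and `t` commute
  have hconj : z * eich hF (b 2) 0 c * z⁻¹ = eich hF (b 2) 0 c := by
    rw [eich_conj hF h22 h20 hc', hz2', actv_zero, eich_smul hF h22 h20 hc', smul_zero, hlam,
      one_mul]
  have hcomm : Commute z (eich hF (b 2) 0 c) := by
    show z * eich hF (b 2) 0 c = eich hF (b 2) 0 c * z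
    calc z * eich hF (b 2) 0 c = (z * eich hF (b 2) 0 c * z⁻¹) * z := by group
      _ = eich hF (b 2) 0 c * z := by rw [hconj]
  -- `z ^ (q + 1) = 1`
  have hzpow : z ^ (q + 1) = 1 := by
    apply h47s_eq_one_of_fix hb
    intro i
    fin_cases i
    · show actv (z ^ (q + 1)) (b 0) = b 0
      rw [h47s_actv_pow _ _ _ hz0', hlq, one_smul]
    · show actv (z ^ (q + 1)) (b 1) = b 1
      rw [h47s_actv_pow _ _ _ hz1', ← pow_mul, mul_comm, pow_mul, inv_pow, hlq, inv_one, one_pow,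
        one_smul]
    · show actv (z ^ (q + 1)) (b 2) = b 2
      rw [h47s_actv_pow _ _ _ hz2', hlq, one_smul]
  -- `t ^ (q + 1) = t`
  have htpow : (eich hF (b 2) 0 c) ^ (q + 1) = eich hF (b 2) 0 c := by
    rw [h47s_eich_zero_pow hF h22 hc, Nat.cast_succ, h47s_q_cast hF, zero_add, one_mul]
  have hpow : (z * eich hF (b 2) 0 c) ^ (q + 1) = eich hF (b 2) 0 c := by
    rw [hcomm.mul_pow, hzpow, one_mul, htpow]
  rw [ht] at hs ⊢
  have htm : eich hF (b 2) 0 c ∈ Hs := by
    rw [← hpow]; exact Hs.pow_mem hs _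
  refine ⟨htm, ?_⟩
  have hzz : z = (z * eich hF (b 2) 0 c) * (eich hF (b 2) 0 c)⁻¹ := by group
  rw [hzz]
  exact Hs.mul_mem hs (Hs.inv_mem htm)

end Cfsg.Agent.Helper47.UT
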