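import Mathlib
import Cfsg.Agent.Lib.Helper47.MSSAsym7
import Cfsg.Agent.Lib.Helper47.WC
import Cfsg.Agent.Lib.Helper47.Coprime
import Cfsg.Agent.Lib.Helper48.CharPTransfer
import Cfsg.Agent.Lib.Helper54.PConstrained

set_option autoImplicit false
set_option linter.unusedSectionVars false
set_option linter.style.haveILetI false

/-!
# Overgroups of a weakly closed self-centralizing `p`-subgroup have characteristic `p`
-/

namespace Cfsg.Agent.Helper47

open Cfsg Subgroup
open scoped commutatorElement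

variable {G : Type*} [Group G] [Finite G] {p : ℕ} [Fact p.Prime]

theorem centralizer_zpowers_eq (y : G) :
    centralizer ((zpowers y : Subgroup G) : Set G) = centralizer ({y} : Set G) := by
  ext x
  rw [mem_centralizer_iff, mem_centralizer_iff]
  constructor
  · intro h z hz
    rw [Set.mem_singleton_iff] at hz
    subst hz
    exact h z (mem_zpowers z)
  · intro h z hz
    obtain ⟨k, rfl⟩ := mem_zpowers_iff.mp hz
    have h1 : Commute y x := h y rfl
    exact (h1.zpow_left k).eq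

theorem pow_card_eq_one_of_mem {A : Subgroup G} {n : ℕ} (h : Nat.card A = n) {z : G}
    (hz : z ∈ A) : z ^ n = 1 := by
  have : (⟨z, hz⟩ : ↥A) ^ n = 1 := by rw [← h]; exact pow_card_eq_one'
  simpa using congrArg Subtype.val this

/-- the main argument: `N_G(O_p(L))` of characteristic `p` suffices -/
theorem wc_charP_core {Q L : Subgroup G} (hQp : IsPGroup p Q) (hwc : WCU p Q)
    (hCQ : centralizer (Q : Set G) ≤ Q) (hQL : Q ≤ L)
    (hN : CharPSub p (normalizer (pCoreOf p L : Set G))) :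
    ⁅Q, centralizer (pCoreOf p L : Set G)⁆ ≤ Q ⊓ pCoreOf p L ∧
      IsPGroup p (centralizer (pCoreOf p L : Set G)) ∧ CharPSub p L := by
  obtain ⟨P, hPdef⟩ : ∃ P : Subgroup G, P = pCoreOf p L := ⟨_, rfl⟩
  rw [← hPdef] at hN ⊢
  have hPp : IsPGroup p P := hPdef ▸ Helper48.isPGroup_pCoreOf L
  obtain ⟨N, hNdef⟩ : ∃ N : Subgroup G, N = normalizer (P : Set G) := ⟨_, rfl⟩
  obtain ⟨D, hDdef⟩ : ∃ D : Subgroup G, D = centralizer (P : Set G) := ⟨_, rfl⟩
  rw [← hNdef] at hN
  rw [← hDdef]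
  have hLN : L ≤ N := by rw [hNdef, hPdef]; exact Helper48.le_normalizer_pCoreOf L
  have hDN : D ≤ N := by rw [hNdef, hDdef]; exact centralizer_le_normalizer _
  have hND : N ≤ normalizer (D : Set G) := by
    rw [hNdef, hDdef]; exact normalizer_le_normalizer_centralizer P
  have hD : CharPSub p D := charPSub_of_le_normalizer hDN hND hN
  have hQN : Q ≤ N := hQL.trans hLN
  have hQD : Q ≤ normalizer (D : Set G) := hQN.trans hND
  -- `A = O_p(D) ≤ R = O_p(N)`
  have hAR : pCoreOf p D ≤ pCoreOf p N := pCoreOf_le_pCoreOf_of_le_normalizer hDN hND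
  have hRL : pCoreOf p N ⊓ L ≤ P := by
    rw [hPdef]
    apply le_pCoreOf inf_le_right _ ((Helper48.isPGroup_pCoreOf _).to_le inf_le_left)
    intro x hx
    exact Helper48.mem_normalizer_inf' (Helper48.le_normalizer_pCoreOf _ (hLN hx)) (le_normalizer hx)
  have hAp : IsPGroup p (pCoreOf p D) := Helper48.isPGroup_pCoreOf D
  have hRp : IsPGroup p (pCoreOf p N) := Helper48.isPGroup_pCoreOf N
  have hAD : pCoreOf p D ≤ D := pCoreOf_le' D
  have hDA : D ≤ normalizer (pCoreOf p D : Set G) := Helper48.le_normalizer_pCoreOf D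
  have hQA : Q ≤ normalizer (pCoreOf p D : Set G) := hQD.trans (normalizer_le_normalizer_pCoreOf D)
  have hQR : Q ≤ normalizer (pCoreOf p N : Set G) := hQN.trans (Helper48.le_normalizer_pCoreOf N)
  -- `R` normalizes `Q`
  have hRQ : pCoreOf p N ≤ normalizer (Q : Set G) := by
    intro r hr
    rw [← cj_eq_self_iff]
    have hpg : IsPGroup p (Q ⊔ pCoreOf p N : Subgroup G) :=
      IsPGroup.to_sup_of_normal_right' hQp hRp hQR
    have h1 : cj r Q ≤ Q ⊔ pCoreOf p N := by
      have := cj_mono (a := r) (le_sup_left : Q ≤ Q ⊔ pCoreOf p N)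
      rwa [cj_eq_self_of_mem (le_sup_right (a := Q) hr)] at this
    have := hwc _ hpg r 1 h1 (by rw [cj_one]; exact le_sup_left)
    rwa [cj_one] at this
  have hRQP : ⁅pCoreOf p N, Q⁆ ≤ P := by
    refine le_trans (le_inf ?_ ?_) hRL
    · exact Helper1.commutator_le_of_le_normalizer hQR
    · refine le_trans ?_ hQL
      rw [commutator_comm]
      exact Helper1.commutator_le_of_le_normalizer hRQ
  -- `Q ≤ commStab A (A ⊓ P)`
  have hQNP : Q ≤ normalizer (P : Set G) := hNdef ▸ hQN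
  have hQZ : Q ≤ normalizer ((pCoreOf p D ⊓ P : Subgroup G) : Set G) := fun q hq =>
    Helper48.mem_normalizer_inf' (hQA hq) (hQNP hq)
  have hQcs : Q ≤ commStab (pCoreOf p D) (pCoreOf p D ⊓ P) := by
    apply le_commStab hQZ
    apply le_inf (Helper1.commutator_le_of_le_normalizer hQA)
    exact (commutator_mono hAR le_rfl).trans hRQP
  have hDP : D ≤ centralizer (P : Set G) := hDdef.le
  have hDZ : D ≤ normalizer ((pCoreOf p D ⊓ P : Subgroup G) : Set G) := fun d hd =>
    Helper48.mem_normalizer_inf' (hDA hd) (centralizer_le_normalizer _ (hDP hd))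
  have hDcs : D ≤ normalizer (commStab (pCoreOf p D) (pCoreOf p D ⊓ P) : Set G) := fun d hd =>
    normalizer_inf_le_normalizer_commStab _ _ ⟨hDA hd, hDZ hd⟩
  -- `K₁ = D ⊓ commStab` is a `p`-group, hence in `A`
  have hK1p : IsPGroup p (D ⊓ commStab (pCoreOf p D) (pCoreOf p D ⊓ P) : Subgroup G) := by
    obtain ⟨m, hm⟩ := IsPGroup.iff_card.mp hAp
    rintro ⟨c, hc⟩
    have hcD : c ∈ D := hc.1
    have hccs : c ∈ commStab (pCoreOf p D) (pCoreOf p D ⊓ P) := hc.2
    have hpow : ∀ a ∈ pCoreOf p D, ∀ n : ℕ, c ^ n * a⁻¹ * (c ^ n)⁻¹ = a⁻¹ * ⁅a, c⁆ ^ n := by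
      intro a ha n
      have hz : ⁅a, c⁆ ∈ pCoreOf p D ⊓ P := hccs.2 a ha
      have hcz : c * ⁅a, c⁆ = ⁅a, c⁆ * c :=
        (mem_centralizer_iff.mp (hDP hcD) _ hz.2).symm
      induction n with
      | zero => simp
      | succ n ih =>
        have e1 : c ^ (n + 1) * a⁻¹ * (c ^ (n + 1))⁻¹ = c * (c ^ n * a⁻¹ * (c ^ n)⁻¹) * c⁻¹ := by
          rw [pow_succ']; group
        rw [e1, ih]
        have e2 : c * (a⁻¹ * ⁅a, c⁆ ^ n) * c⁻¹ = (c * a⁻¹ * c⁻¹) * (c * ⁅a, c⁆ ^ n * c⁻¹) := by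
          group
        have e3 : c * ⁅a, c⁆ ^ n * c⁻¹ = ⁅a, c⁆ ^ n := by
          have : Commute c (⁅a, c⁆ ^ n) := (show Commute c ⁅a, c⁆ from hcz).pow_right n
          rw [this.eq, mul_inv_cancel_right]
        have e4 : c * a⁻¹ * c⁻¹ = a⁻¹ * ⁅a, c⁆ := by
          rw [commutatorElement_def]; group
        rw [e2, e3, e4, pow_succ, mul_assoc]
        congr 1
        exact ((Commute.refl ⁅a, c⁆).pow_right n).eq
    have hcent : c ^ (p ^ m) ∈ centralizer (pCoreOf p D : Set G) := by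
      rw [mem_centralizer_iff]
      intro a ha
      have h1 := hpow a ha (p ^ m)
      have hz : ⁅a, c⁆ ∈ pCoreOf p D := (hccs.2 a ha).1
      have h2 : ⁅a, c⁆ ^ (p ^ m) = 1 := pow_card_eq_one_of_mem hm hz
      rw [h2, mul_one] at h1
      -- `c^n a⁻¹ c^-n = a⁻¹`
      have h3 : c ^ (p ^ m) * a⁻¹ = a⁻¹ * c ^ (p ^ m) := by
        have := congrArg (· * c ^ (p ^ m)) h1
        simpa [mul_assoc] using this
      have h4 : Commute (c ^ (p ^ m)) a⁻¹ := h3
      have h5 : Commute (c ^ (p ^ m)) a := by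
        have := h4.inv_right
        simpa using this
      exact h5.eq.symm
    have hmemA : c ^ (p ^ m) ∈ pCoreOf p D :=
      CharPSub.inf_centralizer_le hD ⟨D.pow_mem hcD _, hcent⟩
    have h6 : (c ^ (p ^ m)) ^ (p ^ m) = 1 := pow_card_eq_one_of_mem hm hmemA
    refine ⟨m + m, ?_⟩
    apply Subtype.ext
    rw [pow_add, pow_mul]
    simpa using h6
  have hK1A : D ⊓ commStab (pCoreOf p D) (pCoreOf p D ⊓ P) ≤ pCoreOf p D := by
    apply le_pCoreOf inf_le_left _ hK1p
    intro d hd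
    exact Helper48.mem_normalizer_inf' (le_normalizer hd) (hDcs hd)
  have hcommA : ∀ d ∈ D, ∀ q ∈ Q, ⁅d, q⁆ ∈ pCoreOf p D := by
    intro d hd q hq
    apply hK1A
    constructor
    · have h1 : q * d⁻¹ * q⁻¹ ∈ D := (mem_normalizer_iff.mp (hQD hq) _).mp (inv_mem hd)
      have : ⁅d, q⁆ = d * (q * d⁻¹ * q⁻¹) := by rw [commutatorElement_def]; group
      rw [this]; exact mul_mem hd h1
    · have h1 : d * q * d⁻¹ ∈ commStab (pCoreOf p D) (pCoreOf p D ⊓ P) :=
        (mem_normalizer_iff.mp (hDcs hd) _).mp (hQcs hq)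
      have : ⁅d, q⁆ = (d * q * d⁻¹) * q⁻¹ := by rw [commutatorElement_def]
      rw [this]; exact Subgroup.mul_mem _ h1 (Subgroup.inv_mem _ (hQcs hq))
  -- `D` normalizes `Q`
  have hDQ : D ≤ normalizer (Q : Set G) := by
    intro d hd
    rw [← cj_eq_self_iff]
    have hpg : IsPGroup p (Q ⊔ pCoreOf p D : Subgroup G) :=
      IsPGroup.to_sup_of_normal_right' hQp hAp hQA
    have h1 : cj d Q ≤ Q ⊔ pCoreOf p D := by
      rintro _ ⟨q, hq, rfl⟩
      simp only [MulEquiv.coe_toMonoidHom, MulAut.conj_apply]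
      have : d * q * d⁻¹ = ⁅d, q⁆ * q := by rw [commutatorElement_def]; group
      rw [this]
      exact mul_mem (mem_sup_right (hcommA d hd q hq)) (mem_sup_left hq)
    have := hwc _ hpg d 1 h1 (by rw [cj_one]; exact le_sup_left)
    rwa [cj_one] at this
  have hcommP : ∀ d ∈ D, ∀ q ∈ Q, ⁅d, q⁆ ∈ Q ⊓ P := by
    intro d hd q hq
    have h1 : ⁅d, q⁆ ∈ Q := by
      have h2 : d * q * d⁻¹ ∈ Q := (mem_normalizer_iff.mp (hDQ hd) _).mp hq
      have : ⁅d, q⁆ = (d * q * d⁻¹) * q⁻¹ := by rw [commutatorElement_def]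
      rw [this]; exact mul_mem h2 (inv_mem hq)
    exact ⟨h1, hRL ⟨hAR (hcommA d hd q hq), hQL h1⟩⟩
  -- (a)
  have ha : ⁅Q, D⁆ ≤ Q ⊓ P := by
    rw [commutator_comm, commutator_le]
    intro d hd q hq
    exact hcommP d hd q hq
  -- (b)
  have hb : IsPGroup p D := by
    apply isPGroup_of_forall_coprime_eq_one
    intro x hx m hm hxm
    have hxQ : x ∈ centralizer (Q : Set G) := by
      rw [mem_centralizer_iff]
      intro q hq
      have h1 : ⁅q, x⁆ ∈ P := by
        have := (hcommP x hx q hq).2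
        rw [← commutatorElement_inv]
        exact inv_mem this
      have h2 : Commute ⁅q, x⁆ x := (mem_centralizer_iff.mp (hDP hx) _ h1)
      obtain ⟨k, hk⟩ := hPp ⟨_, h1⟩
      have hk' : ⁅q, x⁆ ^ (p ^ k) = 1 := by simpa using congrArg Subtype.val hk
      have h3 := commutator_eq_one_of_coprime h2 hxm hk' hm
      rw [commutatorElement_eq_one_iff_commute] at h3
      exact h3.eq
    obtain ⟨k, hk⟩ := hQp ⟨x, hCQ hxQ⟩
    have hk' : x ^ (p ^ k) = 1 := by simpa using congrArg Subtype.val hk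
    have h4 : orderOf x ∣ Nat.gcd m (p ^ k) :=
      Nat.dvd_gcd (orderOf_dvd_of_pow_eq_one hxm) (orderOf_dvd_of_pow_eq_one hk')
    rw [Nat.Coprime.pow_right k hm, Nat.dvd_one, orderOf_eq_one_iff] at h4
    exact h4
  -- (c)
  have hc : CharPSub p L := by
    intro x hx
    have hxD : (x : G) ∈ D := by
      rw [hDdef, hPdef, mem_centralizer_iff]
      rintro _ ⟨z, hz, rfl⟩
      exact congrArg Subtype.val (mem_centralizer_iff.mp hx z hz)
    have h1 : D ⊓ L ≤ pCoreOf p L := by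
      apply le_pCoreOf inf_le_right _ (hb.to_le inf_le_left)
      intro l hl
      exact Helper48.mem_normalizer_inf' (hND (hLN hl)) (le_normalizer hl)
    obtain ⟨w, hw, hwx⟩ := h1 ⟨hxD, x.2⟩
    have : w = x := Subtype.ext hwx
    rw [← this]; exact hw
  exact ⟨ha, hb, hc⟩

/-- `N_G(P)` has characteristic `p` if `C_G(y)` has, for some `y ∈ P` -/
theorem charPSub_normalizer_of_centralizer_singleton {P : Subgroup G} (hP : IsPGroup p P) {y : G}
    (hy : y ∈ P) (hc : CharPSub p (centralizer ({y} : Set G))) :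
    CharPSub p (normalizer (P : Set G)) := by
  have h1 : Helper54.IsCharP p ↥(centralizer ((zpowers y : Subgroup G) : Set G)) :=
    Helper54.IsCharP.of_mulEquiv (MulEquiv.subgroupCongr (centralizer_zpowers_eq y).symm) hc
  have h2 := Helper48.isCharP_normalizer_of_le' P (zpowers y) hP (zpowers_le.mpr hy)
    (Helper21.isCharP_iff_centralizer_le.mpr h1)
  exact Helper21.isCharP_iff_centralizer_le.mp h2

theorem wc_charP {Q L : Subgroup G} (hQp : IsPGroup p Q) (hwc : IsWeaklyClosedSubgroup p Q)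
    (hCQ : centralizer (Q : Set G) ≤ Q) (hQL : Q ≤ L)
    (hyp : centralizer (pCore p G : Set G) ≤ pCore p G ∨
      ∃ y : G, y ≠ 1 ∧ y ∈ pCoreOf p L ⊓ centralizer (Q : Set G) ∧
        CharPSub p (centralizer ({y} : Set G))) :
    ⁅Q, centralizer (pCoreOf p L : Set G)⁆ ≤ Q ⊓ pCoreOf p L ∧
      IsPGroup p (centralizer (pCoreOf p L : Set G)) ∧ CharPSub p L := by
  apply wc_charP_core hQp (wcu_of_isWeaklyClosedSubgroup hwc) hCQ hQL
  rcases hyp with h1 | ⟨y, -, hy, hc⟩
  · exact Helper54.isCharP_normalizer h1 _ (Helper48.isPGroup_pCoreOf L)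
  · exact charPSub_normalizer_of_centralizer_singleton (Helper48.isPGroup_pCoreOf L) hy.1 hc

end Cfsg.Agent.Helper47
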