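import Mathlib
import Cfsg.Prelude.Def_OddOrderLocal
import Cfsg.Agent.Lib.Helper98.TIHDefs

/-!
# ZTI lemma server (helper98, S4151), piece (B4a) `le_centralizer_of_normal_of_comm` (helper47)

`⁅k, q⁆ = k q k⁻¹ q⁻¹` centralizes `P`: for `y ∈ P`, `q⁻¹ y q = y`, `k⁻¹ y k ∈ P` is centralized by `q`.
-/

set_option autoImplicit false

namespace Cfsg.Agent.Helper47.ZTI

open Cfsg.Agent.Helper98.TIH

universe u

/-- (B4a) `K = ⁅K, Q⁆` centralizes `P` when `K` normalizes `P` and `Q` centralizes `P`. -/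
theorem le_centralizer_of_normal_of_comm {G : Type u} [Group G] (K Q P : Subgroup G)
    (hKP : K ≤ Subgroup.normalizer (P : Set G)) (hPQ : P ≤ Subgroup.centralizer (Q : Set G))
    (hKQ : ⁅K, Q⁆ = K) : K ≤ Subgroup.centralizer (P : Set G) := by
  rw [← hKQ, Subgroup.commutator_le]
  intro k hk q hq
  rw [Subgroup.mem_centralizer_iff]
  intro y hy
  have hyP : y ∈ P := hy
  -- `q` commutes with `y` and with `z = k⁻¹ y k`
  have hqy : q * y = y * q := (Subgroup.mem_centralizer_iff.mp (hPQ hyP)) q hq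
  have hzP : k⁻¹ * y * k⁻¹⁻¹ ∈ P :=
    (Subgroup.mem_normalizer_iff.mp ((Subgroup.normalizer (P : Set G)).inv_mem (hKP hk)) y).mp hyP
  rw [inv_inv] at hzP
  have hqz : q * (k⁻¹ * y * k) = (k⁻¹ * y * k) * q :=
    (Subgroup.mem_centralizer_iff.mp (hPQ hzP)) q hq
  have hqy' : q⁻¹ * y = y * q⁻¹ := by
    calc q⁻¹ * y = q⁻¹ * (y * q) * q⁻¹ := by group
      _ = q⁻¹ * (q * y) * q⁻¹ := by rw [hqy]
      _ = y * q⁻¹ := by group
  rw [commutatorElement_def]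
  symm
  calc k * q * k⁻¹ * q⁻¹ * y = k * q * k⁻¹ * (q⁻¹ * y) := by group
    _ = k * q * k⁻¹ * (y * q⁻¹) := by rw [hqy']
    _ = k * (q * (k⁻¹ * y * k)) * k⁻¹ * q⁻¹ := by group
    _ = k * ((k⁻¹ * y * k) * q) * k⁻¹ * q⁻¹ := by rw [hqz]
    _ = y * (k * q * k⁻¹ * q⁻¹) := by group

end Cfsg.Agent.Helper47.ZTI
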