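import Mathlib
import Cfsg.Prelude.Def_OddOrderLocal
import Cfsg.Agent.Lib.Helper98.TIHDefs

/-!
# ZTI lemma server (helper98, S4151), piece (C1) `card_sup_dvd_mul` (helper47)

`|A ⊔ B|` divides `|A| |B|` when `B` normalizes `A`.
-/

set_option autoImplicit false

namespace Cfsg.Agent.Helper47.ZTI

open Cfsg.Agent.Helper98.TIH

universe u

/-- (C1) `|A ⊔ B|` divides `|A| |B|` when `B` normalizes `A`. -/
theorem card_sup_dvd_mul {G : Type u} [Group G] [Finite G] (A B : Subgroup G)
    (hB : B ≤ Subgroup.normalizer (A : Set G)) :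
    Nat.card (A ⊔ B : Subgroup G) ∣ Nat.card A * Nat.card B := by
  have hrel : A.relIndex (B ⊔ A) = A.relIndex B := by
    let _ := Subgroup.normal_subgroupOf_of_le_normalizer hB
    let _ := Subgroup.normal_subgroupOf_sup_of_le_normalizer hB
    exact Nat.card_congr (QuotientGroup.quotientInfEquivProdNormalizerQuotient B A hB).toEquiv.symm
  have h1 : Nat.card ↥(B ⊔ A) = Nat.card ↥A * A.relIndex (B ⊔ A) := by
    rw [← Subgroup.relIndex_bot_left, ← Subgroup.relIndex_bot_left (H := A)]
    exact (Subgroup.relIndex_mul_relIndex ⊥ A (B ⊔ A) bot_le le_sup_right).symm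
  rw [sup_comm, h1, hrel]
  exact Nat.mul_dvd_mul_left _ (Subgroup.relIndex_dvd_card A B)

end Cfsg.Agent.Helper47.ZTI
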